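import Cfsg.Agent.Lib.Fi22Recog95.Fusion
import Cfsg.Agent.Lib.TwoTransA4.OddThree

/-!
Recognition of Fi22 when `C(z)` fixes `a`: if `C(a) / ⟨a⟩` is not `z`-constrained then `a` is central.
-/

set_option autoImplicit false
set_option linter.unusedSectionVars false

namespace Cfsg.Agent.Lib.Fi22Recog95

variable {G : Type*} [Group G] [Finite G] {z a : G} {J H1 : Subgroup G}

namespace Ctx

variable (X : Ctx z a J H1)
include X

/-- A 2-element of `C(a)` is conjugate there into `C(z)`. -/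
theorem exists_conj_cz (hI : cz z ≤ cz a) {u : G} (hu : u ∈ cz a) (hu2 : u * u = 1) :
    ∃ m ∈ cz a, m⁻¹ * u * m ∈ cz z := by
  have : Fact (Nat.Prime 2) := ⟨Nat.prime_two⟩
  obtain ⟨P, hPz, -⟩ := X.hyp.exists_sylow hI
  have hP : (P : Subgroup G) ≤ cz a := hPz.trans hI
  let P' : Sylow 2 (cz a) := P.subtype hP
  have hQ : IsPGroup 2 (Subgroup.zpowers (⟨u, hu⟩ : cz a)) := by
    obtain ⟨k, -, hk⟩ := (Nat.dvd_prime_pow Nat.prime_two).1
      (orderOf_dvd_of_pow_eq_one (x := (⟨u, hu⟩ : cz a)) (n := 2 ^ 1) (Subtype.ext (by simpa [pow_two] using hu2)))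
    exact IsPGroup.of_card (n := k) (by rw [Nat.card_zpowers, hk])
  obtain ⟨Q, hQ'⟩ := hQ.exists_le_sylow
  obtain ⟨m, hm⟩ := MulAction.exists_smul_eq (cz a) P' Q
  refine ⟨m, m.2, hPz ?_⟩
  have h : (⟨u, hu⟩ : cz a) ∈ (Q : Subgroup (cz a)) := hQ' (Subgroup.mem_zpowers _)
  rw [← hm, Sylow.coe_subgroup_smul, Subgroup.mem_pointwise_smul_iff_inv_smul_mem] at h
  simpa [P', MulAut.smul_def, Subgroup.mem_subgroupOf] using h

/-- `a` is isolated in its own centraliser. -/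
theorem isolated_a (hI : cz z ≤ cz a) (Kb : KFacts z (z * a)) (L : LFacts z a J H1) :
    Cfsg.IsIsolatedInvolution a := by
  have S := X.hyp
  have C : Comp z a J H1 := ⟨Kb, Or.inr L, fun h => absurd hI h⟩
  refine ⟨orderOf_eq_prime (by rw [pow_two, S.aa]) S.a_ne, fun h hcomm => ?_⟩
  suffices hh : h ∈ cz a from mem_cz_conj.1 hh
  obtain ⟨m, hm, hmz⟩ := X.exists_conj_cz hI (mem_cz.2 hcomm.eq.symm) (sq_conj S.aa)
  set h' := m⁻¹ * h with hh'
  suffices hh : h' ∈ cz a by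
    have := mul_mem hm hh
    rwa [hh', mul_inv_cancel_left] at this
  have e1 : h' * a * h'⁻¹ ∈ cz z := by
    rwa [show h' * a * h'⁻¹ = m⁻¹ * (h * a * h⁻¹) * m by rw [hh']; group]
  obtain ⟨m₂, hm₂, hm₂z⟩ := X.exists_conj_cz hI (conj_mem_cz e1) (sq_conj S.zz)
  set g := m₂⁻¹ * h'⁻¹ with hg
  have hx : g * z * g⁻¹ = m₂⁻¹ * (h'⁻¹ * z * h'⁻¹⁻¹) * m₂ := by rw [hg]; group
  have hgc : g ∈ cz a := by
    by_cases hne : g * z * g⁻¹ = z
    · exact hI (mem_cz_conj.2 hne)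
    · exact mem_cz_conj.2 (X.linked C (mem_cz.1 (hx ▸ hm₂z)) hne).2.2
  have hinv : h'⁻¹ ∈ cz a := by
    have := mul_mem hm₂ hgc
    rwa [hg, mul_inv_cancel_left] at this
  simpa using inv_mem hinv

/-- When `C(z)` fixes `a` and `z` is not isolated in `C(a)`, the involution `a` is central. -/
theorem cz_a_top (hI : cz z ≤ cz a) (Kb : KFacts z (z * a)) (L : LFacts z a J H1) : cz a = ⊤ := by
  have S := X.hyp
  have htop := TwoTransA4.sup_eq_top_of_isolated (X.isolated_a hI Kb L)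
  set O := Cfsg.oddCore G with hO
  have hOodd : Odd (Nat.card O) := Nat.coprime_two_right.1 (Cores.pPrimeCore_coprime (G := G) 2)
  have hOn : O.Normal := inferInstanceAs (Cfsg.pPrimeCore 2 G).Normal
  have hodd : ∀ o ∈ O, Odd (orderOf o) := fun o ho => hOodd.of_dvd_nat (Subgroup.orderOf_dvd_natCard O ho)
  have hconj : ∀ u : G, ∀ o ∈ O, u * o * u⁻¹ ∈ O := fun u o ho => hOn.conj_mem o ho u
  -- `C(z)` meets `O` trivially
  have hzO : ∀ o ∈ O, o ∈ cz z → o = 1 := by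
    intro o ho hoz
    refine S.eq_one_of_odd (S.selfc o hoz fun j hj => ?_) (hodd o ho)
    have hmem : o * j * o⁻¹ * j⁻¹ ∈ O := by
      rw [show o * j * o⁻¹ * j⁻¹ = o * (j * o⁻¹ * j⁻¹) by group]
      exact mul_mem ho (hconj j _ (inv_mem ho))
    have := S.eq_one_of_odd (mul_mem (S.norm o hoz j hj) (inv_mem hj)) (hodd _ hmem)
    exact mul_inv_eq_iff_eq_mul.1 (mul_inv_eq_one.1 this)
  have hzinv : ∀ o ∈ O, z * o * z⁻¹ = o⁻¹ := by
    let f : O → O := fun o => ⟨(o : G)⁻¹ * (z * o * z⁻¹), mul_mem (inv_mem o.2) (hconj z _ o.2)⟩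
    have hf : Function.Injective f := by
      intro p q h
      have h' : (p : G)⁻¹ * (z * p * z⁻¹) = (q : G)⁻¹ * (z * q * z⁻¹) := congrArg Subtype.val h
      have hfix : ((q : G) * (p : G)⁻¹) ∈ cz z := by
        refine mem_cz_conj.2 ?_
        calc (q : G) * (p : G)⁻¹ * z * ((q : G) * (p : G)⁻¹)⁻¹
            = (q : G) * ((p : G)⁻¹ * (z * p * z⁻¹)) * z * (q : G)⁻¹ := by group
          _ = z := by rw [h']; group
      have := hzO _ (mul_mem q.2 (inv_mem p.2)) hfix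
      exact Subtype.ext (mul_inv_eq_one.1 this).symm
    intro o ho
    obtain ⟨p, hp⟩ := Finite.surjective_of_injective hf ⟨o, ho⟩
    have hp' : (p : G)⁻¹ * (z * p * z⁻¹) = o := congrArg Subtype.val hp
    rw [← hp', S.zinv]
    calc z * ((p : G)⁻¹ * (z * p * z)) * z = z * (p : G)⁻¹ * z * p * (z * z) := by simp [mul_assoc]
      _ = _ := by rw [S.zz, mul_one]; simp [mul_assoc, S.zinv]
  -- a product of two commuting conjugates centralises `O`
  obtain ⟨g, hga, hne, hcomm⟩ := L.ne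
  obtain ⟨hxH, hxJ, -⟩ := L.link g hga hne hcomm
  set x := g * z * g⁻¹ with hx
  have hxinv : ∀ o ∈ O, x * o * x⁻¹ = o⁻¹ := by
    intro o ho
    have h := hzinv (g⁻¹ * o * g) (by simpa using hconj g⁻¹ o ho)
    calc x * o * x⁻¹ = g * (z * (g⁻¹ * o * g) * z⁻¹) * g⁻¹ := by rw [hx]; group
      _ = _ := by rw [h]; group
  have hN : z * x ∈ Subgroup.centralizer (O : Set G) := by
    refine Subgroup.mem_centralizer_iff.2 fun o ho => ?_
    have e : z * x * o * (z * x)⁻¹ = o := by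
      calc z * x * o * (z * x)⁻¹ = z * (x * o * x⁻¹) * z⁻¹ := by group
        _ = o := by rw [hxinv o ho, hzinv _ (inv_mem ho), inv_inv]
    exact (mul_inv_eq_iff_eq_mul.1 e).symm
  set N := Subgroup.centralizer (O : Set G) with hNdef
  have hNn : ∀ h : G, ∀ n ∈ N, h * n * h⁻¹ ∈ N := by
    intro h n hn
    refine Subgroup.mem_centralizer_iff.2 fun o ho => ?_
    have h1 := Subgroup.mem_centralizer_iff.1 hn (h⁻¹ * o * h) (by simpa using hconj h⁻¹ o ho)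
    calc o * (h * n * h⁻¹) = h * (h⁻¹ * o * h * n) * h⁻¹ := by group
      _ = h * (n * (h⁻¹ * o * h)) * h⁻¹ := by rw [h1]
      _ = _ := by group
  -- hence `z` centralises `O`
  have hzN : z ∈ N := by
    have hxz : x * z = z * x := hcomm.eq.symm
    obtain ⟨k, hk, hkZ⟩ : ∃ k ∈ J, ¬ InZ z a (x * k * x⁻¹ * k⁻¹) := by
      by_contra h
      push Not at h
      refine hxJ (S.mem_of_stab (X.h1_le hxH) fun k hk => ⟨_, h k hk, ?_⟩)
      rw [S.inZ_comm (h k hk) hk, inv_mul_cancel_right]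
    set u := x * k * x⁻¹ * k⁻¹ with hu
    have huJ : u ∈ J := mul_mem (S.norm x (mem_cz.2 hxz) k hk) (inv_mem hk)
    have huN : u ∈ N := by
      have hc : k * z * k⁻¹ = z := mem_cz_conj.1 (S.le hk)
      have e : u = z * x * (k * (z * x)⁻¹ * k⁻¹) := by
        have hc' : k * z⁻¹ * k⁻¹ = z := by rw [S.zinv]; exact hc
        calc u = z * z * u := by rw [S.zz, one_mul]
          _ = z * u * z := by rw [mul_assoc z z u, mul_assoc z u z, S.z_cent u huJ]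
          _ = z * u * (k * z⁻¹ * k⁻¹) := by rw [hc']
          _ = z * x * (k * (x⁻¹ * z⁻¹) * k⁻¹) := by rw [hu]; group
          _ = _ := by rw [mul_inv_rev z x]
      rw [e]
      exact mul_mem hN (hNn k _ (inv_mem hN))
    obtain ⟨j, hj, hju⟩ : ∃ j ∈ J, ¬ u * j = j * u := by
      by_contra h
      push Not at h
      exact hkZ (S.cen u huJ h)
    have e : z = u * (j * u⁻¹ * j⁻¹) := by
      rcases S.comJ huJ hj with f | f
      · exact absurd (mul_inv_eq_iff_eq_mul.1 (mul_inv_eq_one.1 f)) hju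
      · rw [← f]; group
    rw [e]
    exact mul_mem huN (hNn j _ (inv_mem huN))
  have hObot : ∀ o ∈ O, o = 1 := by
    intro o ho
    refine hzO o ho (mem_cz.2 ?_)
    exact (Subgroup.mem_centralizer_iff.1 hzN o ho)
  refine eq_top_iff.2 ?_
  rw [← htop]
  exact sup_le le_rfl fun o ho => by rw [hObot o ho]; exact one_mem _

/-- `z` cannot be linked over both `a` and `z a`. -/
theorem not_both (hI : cz z ≤ cz a) (L : LFacts z a J H1) (L' : LFacts z (z * a) J H1) : False := by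
  have S := X.hyp
  have N : NatFacts z a J H1 := X.mod.cases.resolve_right fun N6 => X.six_not_linked N6 L
  obtain ⟨g, hga, hne, hcomm⟩ := L.ne
  obtain ⟨hxH, hxJ, hx256⟩ := L.link g hga hne hcomm
  obtain ⟨h, hhb, hne', hcomm'⟩ := L'.ne
  obtain ⟨hyH, hyJ, hy256⟩ := L'.link h hhb hne' hcomm'
  set x := g * z * g⁻¹ with hx
  set y := h * z * h⁻¹ with hy
  have hxx : x * x = 1 := sq_conj S.zz
  have hyy : y * y = 1 := sq_conj S.zz
  have hcv : ∀ v : G, v * v = 1 → v ∈ H1 → v ∉ J → Nat.card ({j | j ∈ J ∧ Commute v j} : Set G) = 256 →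
      Nat.card (CV z a J v) = 256 ∧ ∀ j ∈ CV z a J v, v * j = j * v := by
    intro v hv hv1 hvJ hc
    have hsub : {j | j ∈ J ∧ Commute v j} ⊆ CV z a J v := fun j hj =>
      S.pj_le_cvs v ⟨hj.1, mem_cz.2 hj.2.eq.symm⟩
    have hle := Nat.card_mono (Set.toFinite _) hsub
    have h256 := X.cv_card_eq N hv1 ⟨by rw [hv]; exact one_mem _, hvJ⟩ (by omega)
    refine ⟨h256, fun j hj => ?_⟩
    have heq : {j | j ∈ J ∧ Commute v j} = CV z a J v := Set.eq_of_subset_of_ncard_le hsub (by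
      rw [← Nat.card_coe_set_eq, ← Nat.card_coe_set_eq, hc, h256]) (Set.toFinite _)
    exact (heq.ge hj).2.eq
  obtain ⟨hxc, hxall⟩ := hcv x hxx hxH hxJ hx256
  obtain ⟨hyc, hyall⟩ := hcv y hyy hyH hyJ hy256
  obtain ⟨r, hr, hry⟩ := N.t_conj x hxH y hyH ⟨by rw [hxx]; exact one_mem _, hxJ⟩
    ⟨by rw [hyy]; exact one_mem _, hyJ⟩ hxc hyc
  have hr' := X.h1_le hr
  set x₁ := r * x * r⁻¹ with hx₁
  have hx₁x₁ : x₁ * x₁ = 1 := sq_conj hxx
  have hx₁1 : x₁ ∈ H1 := X.mod.inner.norm r hr'.1 x hxH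
  -- `y` differs from a `J`-conjugate of `x₁` by a central element
  set e := x₁ * y with he
  have heJ : e ∈ J := hry
  have hye : y = x₁ * e := by rw [he, ← mul_assoc, hx₁x₁, one_mul]
  have hx₁all : ∀ j ∈ CV z a J x₁, x₁ * j = j * x₁ := by
    intro j hj
    have hj' : r⁻¹ * j * r ∈ CV z a J x := by
      refine ⟨by simpa using S.norm r⁻¹ (inv_mem hr'.1) j hj.1, ?_⟩
      rw [show x * (r⁻¹ * j * r) * x⁻¹ * (r⁻¹ * j * r)⁻¹ =
        r⁻¹ * (x₁ * j * x₁⁻¹ * j⁻¹) * r⁻¹⁻¹ by rw [hx₁]; group]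
      exact S.inZ_conj (inv_mem hr'.1) hj.2
    have e := hxall _ hj'
    calc x₁ * j = r * (x * (r⁻¹ * j * r)) * r⁻¹ := by rw [hx₁]; group
      _ = r * (r⁻¹ * j * r * x) * r⁻¹ := by rw [e]
      _ = _ := by rw [hx₁]; group
  have hep : ∀ j ∈ CV z a J x₁, e * j = j * e := by
    intro j hj
    have hjy : j ∈ CV z a J y :=
      S.cv_congr (X.h1_le hx₁1).1 (by rw [inv_eq_of_mul_eq_one_right hx₁x₁]; exact heJ) hj
    rw [he, mul_assoc, hyall j hjy, ← mul_assoc, hx₁all j hj, mul_assoc]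
  obtain ⟨k, hk, w, hw, hew⟩ := S.mem_iv (X.h1_le hx₁1) heJ hep
  set g₂ := k * r * g with hg₂
  have hg₂a : g₂ ∈ cz a := mul_mem (mul_mem (S.le_cza hk).2 hr'.2) hga
  have hyw : y = g₂ * z * g₂⁻¹ * w := by
    calc y = x₁ * e := hye
      _ = x₁ * (x₁ * k * x₁⁻¹ * k⁻¹ * w) := by rw [hew]
      _ = x₁ * x₁ * (k * x₁⁻¹ * k⁻¹) * w := by simp [mul_assoc]
      _ = _ := by
        rw [hx₁x₁, inv_eq_of_mul_eq_one_right hx₁x₁, one_mul, hx₁, hx, hg₂]; group
  have hgza : g₂ * (z * a) * g₂⁻¹ = g₂ * z * g₂⁻¹ * a := by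
    calc g₂ * (z * a) * g₂⁻¹ = g₂ * z * g₂⁻¹ * (g₂ * a * g₂⁻¹) := by group
      _ = _ := by rw [mem_cz_conj.1 hg₂a]
  have hha : h * a * h⁻¹ = y * (z * a) := by
    calc h * a * h⁻¹ = h * (z * (z * a)) * h⁻¹ := by rw [← mul_assoc z z a, S.zz, one_mul]
      _ = h * z * h⁻¹ * (h * (z * a) * h⁻¹) := by group
      _ = _ := by rw [mem_cz_conj.1 hhb]
  rcases hw with hw | hw | hw | hw <;> rw [hw] at hyw
  · rw [mul_one] at hyw
    have hf : g₂⁻¹ * h ∈ cz z := mem_cz_conj.2 (by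
      calc g₂⁻¹ * h * z * (g₂⁻¹ * h)⁻¹ = g₂⁻¹ * (h * z * h⁻¹) * g₂ := by group
        _ = z := by rw [← hy, hyw]; group)
    have hh : h ∈ cz a := by
      have := mul_mem hg₂a (hI hf)
      rwa [mul_inv_cancel_left] at this
    apply hne'
    have h1 := mem_cz_conj.1 hhb
    rw [show h * (z * a) * h⁻¹ = h * z * h⁻¹ * (h * a * h⁻¹) by group, mem_cz_conj.1 hh] at h1
    exact mul_right_cancel h1
  · -- `g₂ (z a) g₂⁻¹ = h a h⁻¹`
    refine X.nab hI (g₂⁻¹ * h) ?_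
    have : h * a * h⁻¹ = g₂ * (z * a) * g₂⁻¹ := by
      rw [hha, hyw, hgza, mul_assoc (g₂ * z * g₂⁻¹), ← mul_assoc z z a, S.zz, one_mul]
    calc g₂⁻¹ * h * a * (g₂⁻¹ * h)⁻¹ = g₂⁻¹ * (h * a * h⁻¹) * g₂ := by group
      _ = _ := by rw [this]; group
  · refine X.nc_za (g₂⁻¹ * h) ?_
    rw [← hgza] at hyw
    calc g₂⁻¹ * h * z * (g₂⁻¹ * h)⁻¹ = g₂⁻¹ * (h * z * h⁻¹) * g₂ := by group
      _ = _ := by rw [← hy, hyw]; group
  · refine X.nc_a (h⁻¹ * g₂) ?_
    have : g₂ * z * g₂⁻¹ = h * a * h⁻¹ := by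
      rw [hha, hyw, mul_assoc (g₂ * z * g₂⁻¹) (z * a) (z * a), S.za_za, mul_one]
    calc h⁻¹ * g₂ * z * (h⁻¹ * g₂)⁻¹ = h⁻¹ * (g₂ * z * g₂⁻¹) * h := by group
      _ = _ := by rw [this]; group

end Ctx

end Cfsg.Agent.Lib.Fi22Recog95
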