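import Cfsg.Agent.Lib.Fi22Recog95.Double

/-!
Recognition of Fi22: the five transvection cosets of a line rule out a complement to `⟨a⟩` in `C(a)`:
exactly one or three of the four choices of linked lifts along the line have product one, while the swap
exchanges the two kinds.
-/

set_option autoImplicit false
set_option linter.unusedSectionVars false

namespace Cfsg.Agent.Lib.Fi22Recog95

variable {G : Type*} [Group G] [Finite G]

/-- A cyclic subgroup of order five is conjugate to any other in a group with a cyclic Sylow 5-subgroup. -/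
theorem conj_five (M : Subgroup G) (hM : ¬ 25 ∣ Nat.card M) {n n' : G} (hn : n ∈ M) (hn' : n' ∈ M)
    (h5 : orderOf n = 5) (h5' : orderOf n' = 5) :
    ∃ r ∈ M, ∃ q : ℕ, q % 5 ≠ 0 ∧ r * n' * r⁻¹ = n ^ q := by
  have : Fact (Nat.Prime 5) := ⟨by norm_num⟩
  have key : ∀ u : G, u ∈ M → orderOf u = 5 → ∃ P : Sylow 5 M,
      ∀ v : M, v ∈ (P : Subgroup M) ↔ (v : G) ∈ Subgroup.zpowers u := by
    intro u hu h
    have hc : Nat.card (Subgroup.zpowers (⟨u, hu⟩ : M)) = 5 := by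
      rw [Nat.card_zpowers, Subgroup.orderOf_mk, h]
    obtain ⟨P, hP⟩ := (IsPGroup.of_card (p := 5) (n := 1) (by rw [hc, pow_one])).exists_le_sylow
    obtain ⟨m, hm⟩ := IsPGroup.iff_card.1 P.isPGroup'
    have hdvd := Subgroup.card_subgroup_dvd_card (P : Subgroup M)
    rw [hm] at hdvd
    have hm1 : m ≤ 1 := by
      by_contra hlt
      exact hM ((Nat.pow_dvd_pow 5 (show 2 ≤ m by omega)).trans hdvd)
    have heq : Subgroup.zpowers (⟨u, hu⟩ : M) = P := Subgroup.eq_of_le_of_card_ge hP (by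
      rw [hm, hc]
      calc 5 ^ m ≤ 5 ^ 1 := Nat.pow_le_pow_right (by norm_num) hm1
        _ = 5 := pow_one 5)
    refine ⟨P, fun v => ?_⟩
    rw [← heq, Subgroup.mem_zpowers_iff, Subgroup.mem_zpowers_iff]
    exact ⟨fun ⟨k, hk⟩ => ⟨k, by rw [← hk]; rfl⟩, fun ⟨k, hk⟩ => ⟨k, Subtype.ext hk⟩⟩
  obtain ⟨P, hP⟩ := key n hn h5
  obtain ⟨P', hP'⟩ := key n' hn' h5'
  obtain ⟨r, hr⟩ := MulAction.exists_smul_eq M P' P
  have hmem : r * (⟨n', hn'⟩ : M) * r⁻¹ ∈ (P : Subgroup M) := by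
    rw [← hr, Sylow.coe_subgroup_smul, Subgroup.mem_pointwise_smul_iff_inv_smul_mem]
    rw [show (MulAut.conj r)⁻¹ • (r * (⟨n', hn'⟩ : M) * r⁻¹) = (⟨n', hn'⟩ : M) by
      simp [MulAut.smul_def, mul_assoc]]
    exact (hP' _).2 (Subgroup.mem_zpowers _)
  have hz := (hP _).1 hmem
  obtain ⟨q, -, hq⟩ : ∃ q, q < orderOf n ∧ n ^ q = (r : G) * n' * (r : G)⁻¹ := by
    rw [← mem_powers_iff_mem_zpowers] at hz
    obtain ⟨q, hq⟩ := hz
    exact ⟨q % orderOf n, Nat.mod_lt _ (orderOf_pos n), by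
      rw [pow_mod_orderOf]; exact hq⟩
  refine ⟨r, r.2, q, fun h0 => ?_, hq.symm⟩
  have h1 : n ^ q = 1 := orderOf_dvd_iff_pow_eq_one.1 (h5 ▸ Nat.dvd_of_mod_eq_zero h0)
  have h2 := congrArg orderOf (conj_eq_one_iff.1 (hq.symm.trans h1))
  rw [h5', orderOf_one] at h2
  norm_num at h2

variable {z a : G} {J H1 L : Subgroup G}

theorem Orb.mul_left {n u v w : G} (h1 : Orb n u w) (h2 : Orb n v w) : Orb n (u * v) w := fun i k => by
  rw [show n ^ i * (u * v) * (n ^ i)⁻¹ = n ^ i * u * (n ^ i)⁻¹ * (n ^ i * v * (n ^ i)⁻¹) by group]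
  exact (h1 i k).mul_left (h2 i k)

theorem Hyp.five_eqJ (S : Hyp z a J) {n u v : G} (hn : n ∈ cz z) (hu : u ∈ cz z) (h : EqJ J u v) :
    EqJ J (five n u) (five n v) := by
  have hc : ∀ i : ℕ, n ^ i * u * (n ^ i)⁻¹ ∈ cz z := fun i =>
    mul_mem (mul_mem (pow_mem hn i) hu) (inv_mem (pow_mem hn i))
  have hn1 : n * u * n⁻¹ ∈ cz z := mul_mem (mul_mem hn hu) (inv_mem hn)
  have he : ∀ i : ℕ, EqJ J (n ^ i * u * (n ^ i)⁻¹) (n ^ i * v * (n ^ i)⁻¹) := fun i =>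
    S.eqJ_conj (pow_mem hn i) h
  exact S.eqJ_mul (mul_mem (mul_mem (mul_mem hu hn1) (hc 2)) (hc 3))
    (S.eqJ_mul (mul_mem (mul_mem hu hn1) (hc 2))
      (S.eqJ_mul (mul_mem hu hn1) (S.eqJ_mul hu h (S.eqJ_conj hn h)) (he 2)) (he 3)) (he 4)

namespace Split

variable (T : Split z a J H1 L)
include T

/-- `C(a)` has no complement to `⟨a⟩`. -/
theorem false : False := by
  have hS := T.ctx.hyp
  have hI := T.ctx.mod.inner
  obtain ⟨n, h, hg, huniq⟩ := T.nat.five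
  have hnH := hI.le hg.n_mem
  have hhH := hI.le hg.h_mem
  have h5 : orderOf n = 5 := orderOf_eq_prime (hp := ⟨by norm_num⟩) hg.n_five hg.n_ne
  -- the coset of linked conjugates
  let O : Set G := {y | Link z a y ∧ EqJ J y h}
  have hO : ∀ y ∈ O, y ∈ cza z a ∧ y * y = 1 ∧ y ∈ L := fun y hy =>
    ⟨T.ctx.h1_le (T.link_data hy.1).1, (T.link_data hy.1).2.2.1, T.der_le (T.link_data hy.1).2.2.2.1⟩
  have hconj : ∀ (i : ℕ), ∀ y ∈ O, Link z a (n ^ i * y * (n ^ i)⁻¹) := fun i y hy =>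
    T.link_conj (pow_mem hnH i) hy.1
  have horb : ∀ y ∈ O, ∀ y' ∈ O, Orb n y y' := by
    intro y hy y' hy' i k
    refine T.link_comm (hconj i y hy) (hconj k y' hy') ?_
    have hni : ∀ l : ℕ, n ^ l ∈ cz z := fun l => pow_mem hnH.1 l
    refine hS.commMod_congr (mul_mem (mul_mem (hni i) (hO y hy).1.1) (inv_mem (hni i)))
      (mul_mem (mul_mem (hni k) (hO y' hy').1.1) (inv_mem (hni k))) (hS.eqJ_conj (hni i) hy.2)
      (hS.eqJ_conj (hni k) hy'.2) ?_
    -- the cosets `n ^ i h` and `n ^ k h` commute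
    obtain ⟨l, hl⟩ : ∃ l : ℕ, n ^ (i + l) = n ^ k := by
      refine ⟨4 * i + k, ?_⟩
      rw [show i + (4 * i + k) = 5 * i + k by ring, pow_add, pow_mul, hg.n_five, one_pow, one_mul]
    rw [← hl, pow_add]
    have := hS.norm _ (hni i) _ (hg.comm l)
    unfold CommMod
    rwa [show n ^ i * h * (n ^ i)⁻¹ * (n ^ i * n ^ l * h * (n ^ i * n ^ l)⁻¹) * (n ^ i * h * (n ^ i)⁻¹)⁻¹ *
        (n ^ i * n ^ l * h * (n ^ i * n ^ l)⁻¹)⁻¹ =
      n ^ i * (h * (n ^ l * h * (n ^ l)⁻¹) * h⁻¹ * (n ^ l * h * (n ^ l)⁻¹)⁻¹) * (n ^ i)⁻¹ by group]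
  have horbz : ∀ u ∈ cz z, Orb n u z := fun u hu i k => by
    have hzk : n ^ k * z * (n ^ k)⁻¹ = z := mem_cz_conj.1 (pow_mem hnH.1 k)
    rw [hzk]
    exact mem_cz.1 (mul_mem (mul_mem (pow_mem hnH.1 i) hu) (inv_mem (pow_mem hnH.1 i)) :
      n ^ i * u * (n ^ i)⁻¹ ∈ cz z)
  have hfz : five n z = z := by
    rw [five_of_commute (mem_cz.1 hnH.1)]
    calc z ^ 5 = z * z * (z * z) * z := by simp [pow_succ, mul_assoc]
      _ = z := by rw [hS.zz, one_mul, one_mul]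
  -- the products along the line
  have hval : ∀ y ∈ O, five n y = 1 ∨ five n y = z := by
    intro y hy
    have hJ : five n y ∈ J := by
      have h1 := hS.five_eqJ hnH.1 (hO y hy).1.1 hy.2
      have h2 : five n h ∈ J := hg.prod
      have h3 := mul_mem h1 h2
      rwa [inv_mul_cancel_right] at h3
    have hcomm : n * five n y * n⁻¹ = five n y := by
      set a₀ := y
      set a₁ := n * y * n⁻¹
      set a₂ := n ^ 2 * y * (n ^ 2)⁻¹
      set a₃ := n ^ 3 * y * (n ^ 3)⁻¹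
      set a₄ := n ^ 4 * y * (n ^ 4)⁻¹
      have c : Commute a₀ (a₁ * a₂ * a₃ * a₄) := by
        have c' : ∀ i : ℕ, Commute a₀ (n ^ i * y * (n ^ i)⁻¹) := fun i => by
          simpa [a₀] using horb y hy y hy 0 i
        have c1 : Commute a₀ a₁ := by simpa [a₁] using c' 1
        exact ((c1.mul_right (c' 2)).mul_right (c' 3)).mul_right (c' 4)
      have e5 : n ^ 5 * y * (n ^ 5)⁻¹ = y := by rw [hg.n_five]; simp
      calc n * five n y * n⁻¹ = a₁ * a₂ * a₃ * a₄ * (n ^ 5 * y * (n ^ 5)⁻¹) := by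
            simp only [five, a₁, a₂, a₃, a₄]; group
        _ = a₁ * a₂ * a₃ * a₄ * a₀ := by rw [e5]
        _ = a₀ * (a₁ * a₂ * a₃ * a₄) := c.eq.symm
        _ = _ := by simp [five, a₀, a₁, a₂, a₃, a₄, mul_assoc]
    have hZ : InZ z a (five n y) := hg.free ⟨hJ, Or.inl (by rw [hcomm, mul_inv_cancel])⟩
    refine T.inZ_mem_L hZ ?_
    have hL : ∀ i : ℕ, n ^ i * y * (n ^ i)⁻¹ ∈ L := fun i => T.norm _ (pow_mem hnH.2 i) _ (hO y hy).2.2
    exact mul_mem (mul_mem (mul_mem (mul_mem (hO y hy).2.2 (T.norm _ hnH.2 _ (hO y hy).2.2)) (hL 2))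
      (hL 3)) (hL 4)
  -- the four members
  obtain ⟨y, hyl, hyh⟩ := T.exists_link hg.h_mem hg.h_inv hg.h_card
  have hy : y ∈ O := ⟨hyl, hyh⟩
  obtain ⟨hyH, hyJ, hyy, hyD, hycard, hyall⟩ := T.link_data hyl
  have hyz := T.ctx.h1_le hyH
  have hyi : y⁻¹ = y := inv_eq_of_mul_eq_one_right hyy
  have hmove : ∀ k ∈ J, k * y * k⁻¹ ∈ O ∧ y * (k * y * k⁻¹) ∈ J ∧
      ∀ j ∈ CV z a J y, y * (k * y * k⁻¹) * j = j * (y * (k * y * k⁻¹)) := by
    intro k hk
    have hmem : k * y * k⁻¹ * y⁻¹ ∈ J := by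
      rw [show k * y * k⁻¹ * y⁻¹ = k * (y * k⁻¹ * y⁻¹) by group]
      exact mul_mem hk (hS.norm y hyz.1 _ (inv_mem hk))
    have e : y * (k * y * k⁻¹) = y * k * y⁻¹ * k⁻¹ := by rw [hyi]; group
    refine ⟨⟨T.link_conj (hS.le_cza hk) hyl, Hyp.eqJ_trans hmem hyh⟩, ?_, fun j hj => ?_⟩
    · rw [e]; exact mul_mem (hS.norm y hyz.1 k hk) (inv_mem hk)
    · rw [e]; exact hS.iv_comm_cv hyz.1 (Hyp.com_mem_iv hS hk) hj
  obtain ⟨k₁, hk₁, hk₁'⟩ : ∃ k ∈ J, k ∉ CV z a J y := by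
    by_contra hall
    push Not at hall
    have := Nat.card_mono (Set.toFinite _) (fun k hk => hall k hk : (J : Set G) ⊆ CV z a J y)
    change Nat.card J ≤ _ at this
    rw [hS.card, hycard] at this
    omega
  obtain ⟨hw₁, hl₁, hl₁c⟩ := hmove k₁ hk₁
  set w₁ := k₁ * y * k₁⁻¹ with hw₁def
  set l₁ := y * w₁ with hl₁def
  obtain ⟨k₂, hk₂, hk₂'⟩ : ∃ k ∈ J, ¬ l₁ * k = k * l₁ := by
    by_contra hall
    push Not at hall
    refine hk₁' ⟨hk₁, ?_⟩
    rw [show y * k₁ * y⁻¹ * k₁⁻¹ = l₁ by rw [hl₁def, hw₁def, hyi]; group]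
    exact hS.cen l₁ hl₁ hall
  obtain ⟨hw₂, hl₂, hl₂c⟩ := hmove k₂ hk₂
  obtain ⟨hw₃, -, -⟩ := hmove (k₂ * k₁) (mul_mem hk₂ hk₁)
  set w₂ := k₂ * y * k₂⁻¹ with hw₂def
  set w₃ := k₂ * k₁ * y * (k₂ * k₁)⁻¹ with hw₃def
  set l₂ := y * w₂ with hl₂def
  have hw₁e : w₁ = y * l₁ := by rw [hl₁def, ← mul_assoc, hyy, one_mul]
  have hw₂e : w₂ = y * l₂ := by rw [hl₂def, ← mul_assoc, hyy, one_mul]
  have hw₃e : w₃ = y * l₂ * l₁ * z := by
    calc w₃ = k₂ * w₁ * k₂⁻¹ := by rw [hw₃def, hw₁def]; group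
      _ = w₂ * (k₂ * l₁ * k₂⁻¹) := by rw [hw₁e, hw₂def]; group
      _ = w₂ * (l₁ * z) := by
          rcases hS.comm k₂ hk₂ l₁ hl₁ with f | f
          · exact absurd (mul_inv_eq_iff_eq_mul.1 f).symm hk₂'
          · rw [f]
      _ = _ := by rw [hw₂e, mul_assoc (y * l₂)]
  -- products
  have hl2 : ∀ w ∈ O, y * w * (y * w) = 1 := by
    intro w hw
    have hc : Commute y w := by simpa using horb y hy w hw 0 0
    calc y * w * (y * w) = y * (w * y) * w := by simp [mul_assoc]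
      _ = y * y * (w * w) := by rw [← hc.eq]; simp [mul_assoc]
      _ = 1 := by rw [hyy, (hO w hw).2.1, one_mul]
  have hprod : y * w₁ * w₂ * w₃ = z := by
    have hy1 : l₁ * y = y * l₁ := by
      have hc : Commute y w₁ := by simpa using horb y hy w₁ hw₁ 0 0
      rw [hl₁def, mul_assoc, ← hc.eq]
    calc y * w₁ * w₂ * w₃ = l₁ * (y * l₂) * (y * l₂ * l₁ * z) := by rw [hw₃e, hw₂e]
      _ = l₁ * (y * l₂ * (y * l₂)) * l₁ * z := by simp [mul_assoc]
      _ = l₁ * (w₂ * w₂) * l₁ * z := by rw [← hw₂e]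
      _ = z := by rw [(hO w₂ hw₂).2.1, mul_one, hl₁def, hl2 w₁ hw₁, one_mul]
  have hP : five n y * five n w₁ * five n w₂ * five n w₃ = z := by
    have o1 : Orb n (y * w₁) w₂ := (horb y hy w₂ hw₂).mul_left (horb w₁ hw₁ w₂ hw₂)
    have o2 : Orb n (y * w₁ * w₂) w₃ :=
      ((horb y hy w₃ hw₃).mul_left (horb w₁ hw₁ w₃ hw₃)).mul_left (horb w₂ hw₂ w₃ hw₃)
    rw [← five_mul (horb y hy w₁ hw₁), ← five_mul o1, ← five_mul o2, hprod, hfz]
  have hnz : ∀ u ∈ O, u * z ∉ O := fun u hu hu' => T.link_z hu.1 hu'.1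
  have hd1 : y ≠ w₁ := fun e => by
    rw [show l₁ = 1 by rw [hl₁def, ← e, hyy]] at hk₂'
    exact hk₂' (by simp)
  have hd2 : y ≠ w₂ := fun e => hnz w₁ hw₁ (by
    have hl : l₂ = 1 := by rw [hl₂def, ← e, hyy]
    have : w₃ = w₁ * z := by rw [hw₃e, hl, mul_one, ← hw₁e]
    rw [← this]; exact hw₃)
  have hd12 : w₁ ≠ w₂ := fun e => hnz y hy (by
    have hl : l₁ = l₂ := by rw [hl₁def, hl₂def, e]
    have : w₃ = y * z := by rw [hw₃e, mul_assoc y, ← hl, hl₁def, hl2 w₁ hw₁, mul_one]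
    rw [← this]; exact hw₃)
  have hd3 : y ≠ w₃ := fun e => hnz w₁ hw₁ (by
    have h1 : l₂ * l₁ * z = 1 := by
      have h2 := hw₃e
      rw [← e, mul_assoc y l₂, mul_assoc y] at h2
      exact left_eq_mul.1 h2
    have h2 : l₂ = z * l₁ := by
      have hl1 : l₁⁻¹ = l₁ := inv_eq_of_mul_eq_one_right (hl2 w₁ hw₁)
      calc l₂ = l₂ * l₁ * z * (z⁻¹ * l₁⁻¹) := by group
        _ = z * l₁ := by rw [h1, hS.zinv, hl1, one_mul]
    have : w₂ = w₁ * z := by
      rw [hw₂e, h2, ← hS.z_cent l₁ hl₁, ← mul_assoc, ← hw₁e]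
    rw [← this]; exact hw₂)
  have hd13 : w₁ ≠ w₃ := fun e => hnz y hy (by
    have h1 : l₂ * l₁ * z = l₁ := by
      have h2 := hw₃e
      rw [← e, hw₁e, mul_assoc y l₂, mul_assoc y] at h2
      exact (mul_left_cancel h2).symm
    have h2 : l₂ = z := by
      rw [mul_assoc, hS.z_cent l₁ hl₁, ← mul_assoc] at h1
      rw [eq_inv_of_mul_eq_one_left (mul_eq_right.1 h1), hS.zinv]
    rw [← h2, ← hw₂e]; exact hw₂)
  have hd23 : w₂ ≠ w₃ := fun e => hnz y hy (by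
    have h1 : l₁ * z = 1 := by
      have h2 := hw₃e
      rw [← e, hw₂e, mul_assoc] at h2
      exact left_eq_mul.1 h2
    have h2 : l₁ = z := by rw [eq_inv_of_mul_eq_one_left h1, hS.zinv]
    rw [← h2, ← hw₁e]; exact hw₁)
  -- there are no others
  classical
  have hOcard : O.ncard ≤ 4 := by
    let R : Subgroup G := J ⊓ Subgroup.centralizer ((Hyp.cvs hS y : Subgroup G) : Set G)
    have hR : Nat.card R ≤ 16 := by
      have h2 := hS.card_perp_le (hS.cvs_le y) (hS.zs_le_cvs hyz)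
      change Nat.card R * Nat.card (CV z a J y) ≤ 4096 at h2
      rw [hycard] at h2
      omega
    have hmem : ∀ u ∈ O, y * u ∈ R := by
      intro u hu
      have hyu : EqJ J y u := Hyp.eqJ_trans hyh (Hyp.eqJ_symm hu.2)
      have huu := (hO u hu).2.1
      refine ⟨?_, Subgroup.mem_centralizer_iff.2 fun j hj => ?_⟩
      · have h3 : y * u⁻¹ ∈ J := hyu
        rwa [inv_eq_of_mul_eq_one_right huu] at h3
      · have hj' : j ∈ CV z a J u := hS.cv_eqJ hyz.1 (hO u hu).1.1 hyu ▸ hj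
        rw [← mul_assoc, ← hyall j hj, mul_assoc, ← (T.link_data hu.1).2.2.2.2.2 j hj', ← mul_assoc]
    let f : O × Hyp.zs hS → R := fun p => ⟨y * p.1 * p.2, mul_mem (hmem p.1 p.1.2)
      ⟨hS.inZ_mem p.2.2, Subgroup.mem_centralizer_iff.2 fun j hj => hS.inZ_comm p.2.2 hj.1⟩⟩
    have hf : Function.Injective f := by
      rintro ⟨⟨u, hu⟩, ⟨w, hw⟩⟩ ⟨⟨u', hu'⟩, ⟨w', hw'⟩⟩ e
      have e' : y * u * w = y * u' * w' := congrArg Subtype.val e
      have e2 : u' = u * (w * w') := by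
        rw [mul_assoc, mul_assoc] at e'
        rw [← mul_assoc, mul_left_cancel e', mul_assoc, hS.inZ_sq hw', mul_one]
      have hwL : w * w' ∈ L := by
        have h3 := mul_mem (inv_mem (hO u hu).2.2) (hO u' hu').2.2
        rwa [e2, inv_mul_cancel_left] at h3
      rcases T.inZ_mem_L (hS.inZ_mul hw hw') hwL with h3 | h3
      · rw [h3, mul_one] at e2
        subst e2
        have : w = w' := mul_left_cancel e'
        subst this
        rfl
      · rw [h3] at e2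
        exact absurd (e2 ▸ hu') (hnz u hu)
    have h2 := Nat.card_le_card_of_injective f hf
    rw [Nat.card_prod, Hyp.card_zs, Nat.card_coe_set_eq] at h2
    omega
  have hOeq : O = (({y, w₁, w₂, w₃} : Finset G) : Set G) := by
    refine (Set.eq_of_subset_of_ncard_le ?_ ?_ (Set.toFinite _)).symm
    · intro u hu
      simp only [Finset.coe_insert, Finset.coe_singleton, Set.mem_insert_iff,
        Set.mem_singleton_iff] at hu
      rcases hu with rfl | rfl | rfl | rfl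
      exacts [hy, hw₁, hw₂, hw₃]
    · rw [Set.ncard_coe_finset, Finset.card_insert_of_notMem (by simp [hd1, hd2, hd3]),
        Finset.card_insert_of_notMem (by simp [hd12, hd13]), Finset.card_pair hd23]
      exact hOcard
  -- the swap
  obtain ⟨s₀, hs₀, hs₀a⟩ := T.exists_swap
  have h25 : ¬ 25 ∣ Nat.card H1 := by rw [hI.card]; norm_num
  obtain ⟨r₀, hr₀, k, hk, hr₀n⟩ := conj_five H1 h25 hg.n_mem (hI.norm s₀ hs₀ n hg.n_mem) h5
    ((orderOf_injective (MulAut.conj s₀).toMonoidHom (MulAut.conj s₀).injective n).trans h5)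
  set s := r₀ * s₀ with hs
  have hsz : s ∈ cz z := mul_mem (hI.le hr₀).1 hs₀
  have hsa : s ∉ cz a := fun h => hs₀a (by
    have := (cz a).mul_mem ((cz a).inv_mem (hI.le hr₀).2) h
    rwa [hs, inv_mul_cancel_left] at this)
  have hsn : s * n * s⁻¹ = n ^ k := by rw [← hr₀n, hs]; group
  set h' := s * y * s⁻¹ * z with hh'
  have hl' := T.swap_link hsz hsa hyl
  obtain ⟨hH', hJ', hh'2, -, hcard', -⟩ := T.link_data hl'
  have hshift : ∀ i : ℕ, ∃ i' : ℕ, n ^ i = s * n ^ i' * s⁻¹ := by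
    intro i
    obtain ⟨m, -, hm⟩ := Nat.exists_mul_mod_eq_one_of_coprime
      (show Nat.Coprime k 5 from ((Nat.Prime.coprime_iff_not_dvd (by norm_num)).2
        fun h => hk (Nat.mod_eq_zero_of_dvd h)).symm) (by norm_num)
    refine ⟨m * i, ?_⟩
    rw [← conj_pow, hsn, ← pow_mul, pow_eq_pow_mod i hg.n_five,
      pow_eq_pow_mod (k * (m * i)) hg.n_five]
    congr 1
    rw [← mul_assoc, Nat.mul_mod, hm, one_mul, Nat.mod_mod]
  -- transported pairs still commute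
  have horbs : ∀ u ∈ O, Orb n (s * u * s⁻¹) (s * u * s⁻¹) := by
    intro u hu i l
    obtain ⟨i', hi'⟩ := hshift i
    obtain ⟨l', hl'⟩ := hshift l
    rw [hi', hl', show s * n ^ i' * s⁻¹ * (s * u * s⁻¹) * (s * n ^ i' * s⁻¹)⁻¹ =
      MulAut.conj s (n ^ i' * u * (n ^ i')⁻¹) by simp [mul_assoc],
      show s * n ^ l' * s⁻¹ * (s * u * s⁻¹) * (s * n ^ l' * s⁻¹)⁻¹ =
      MulAut.conj s (n ^ l' * u * (n ^ l')⁻¹) by simp [mul_assoc]]
    exact (horb u hu u hu i' l').map (MulAut.conj s).toMonoidHom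
  have hflip : ∀ u ∈ O, five n (s * u * s⁻¹ * z) = five n u * z := by
    intro u hu
    rw [five_mul (horbz _ (mul_mem (mul_mem hsz (hO u hu).1.1) (inv_mem hsz))), hfz,
      ← five_pow hg.n_five (horbs u hu) k hk, ← hsn,
      show five (s * n * s⁻¹) (s * u * s⁻¹) = MulAut.conj s (five n u) from
        (five_map (MulAut.conj s) n u).symm]
    rcases hval u hu with e | e <;> rw [e]
    · simp
    · rw [MulAut.conj_apply, mem_cz_conj.1 hsz]
  have horb' : Orb n h' h' := by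
    have hc := horbz (s * y * s⁻¹) (mul_mem (mul_mem hsz hyz.1) (inv_mem hsz))
    have hzz : Orb n z z := horbz z (mem_cz.2 rfl)
    exact ((horbs y hy).mul_left hc.symm).symm.mul_left (hc.mul_left hzz).symm
  have hgood : GoodFive z a J H1 n h' :=
    ⟨hg.n_mem, hg.n_five, hg.n_ne, hg.free, hH', ⟨by rw [hh'2]; exact one_mem _, hJ'⟩, hcard',
      fun i => by
        have hc : Commute h' (n ^ i * h' * (n ^ i)⁻¹) := by simpa using horb' 0 i
        unfold CommMod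
        rw [hc.eq, mul_inv_cancel_right, mul_inv_cancel]; exact one_mem _,
      by
        show five n h' ∈ J
        rw [hflip y hy]
        refine mul_mem ?_ hS.z_mem
        rcases hval y hy with e | e <;> rw [e]
        exacts [one_mem _, hS.z_mem]⟩
  obtain ⟨r, hr, k₃, i, hrn, hrh⟩ := huniq h' hgood
  -- correct `r` to normalise `⟨n⟩`
  set M := J ⊔ Subgroup.zpowers n
  have hMH : M ≤ H1 := sup_le hI.ge (Subgroup.zpowers_le.2 hg.n_mem)
  have hM25 : ¬ 25 ∣ Nat.card M := fun hd => h25 (hd.trans (Subgroup.card_dvd_of_le hMH))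
  have hn'M : r * n * r⁻¹ ∈ M := by
    have h3 := mul_mem (Subgroup.mem_sup_left hrn : r * n * r⁻¹ * (n ^ k₃)⁻¹ ∈ M)
      (Subgroup.mem_sup_right (pow_mem (Subgroup.mem_zpowers n) k₃) : n ^ k₃ ∈ M)
    rwa [inv_mul_cancel_right] at h3
  obtain ⟨m, hm, q, hq, hmq⟩ := conj_five M hM25 (Subgroup.mem_sup_right (Subgroup.mem_zpowers n))
    hn'M h5 ((orderOf_injective (MulAut.conj r).toMonoidHom (MulAut.conj r).injective n).trans h5)
  obtain ⟨j, hj, t, hmt⟩ : ∃ j ∈ J, ∃ t : ℕ, m = j * n ^ t := by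
    have hnorm : Subgroup.zpowers n ≤ Subgroup.normalizer (J : Set G) :=
      Subgroup.zpowers_le.2 (Subgroup.mem_normalizer_iff.2 fun v => ⟨hS.norm n hnH.1 v, fun h => by
        simpa [mul_assoc] using hS.norm n⁻¹ (inv_mem hnH.1) _ h⟩)
    have hm2 : m ∈ ((J ⊔ Subgroup.zpowers n : Subgroup G) : Set G) := hm
    rw [Subgroup.coe_mul_of_right_le_normalizer_left _ _ hnorm] at hm2
    obtain ⟨j, hj, p, hp, rfl⟩ := hm2
    obtain ⟨t, rfl⟩ := mem_powers_iff_mem_zpowers.2 hp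
    exact ⟨j, hj, t, rfl⟩
  set u := (n ^ (t + i))⁻¹ * (m * r) with hu
  have huH : u ∈ cza z a := hI.le (mul_mem (inv_mem (pow_mem hg.n_mem _)) (mul_mem (hMH hm) hr))
  have hun : u * n * u⁻¹ = n ^ q := by
    rw [hu, show (n ^ (t + i))⁻¹ * (m * r) * n * ((n ^ (t + i))⁻¹ * (m * r))⁻¹ =
      (n ^ (t + i))⁻¹ * (m * (r * n * r⁻¹) * m⁻¹) * n ^ (t + i) by group, hmq]
    group
  have hh : EqJ J (u * h' * u⁻¹) h := by
    have h1 : EqJ J (m * (r * h' * r⁻¹) * m⁻¹) (m * (n ^ i * h * (n ^ i)⁻¹) * m⁻¹) :=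
      hS.eqJ_conj (hI.le (hMH hm)).1 hrh
    have h2 : EqJ J (m * (n ^ i * h * (n ^ i)⁻¹) * m⁻¹) (n ^ (t + i) * h * (n ^ (t + i))⁻¹) := by
      set v := n ^ (t + i) * h * (n ^ (t + i))⁻¹ with hv
      have hv1 : v ∈ cz z := mul_mem (mul_mem (pow_mem hnH.1 _) hhH.1) (inv_mem (pow_mem hnH.1 _))
      unfold EqJ
      rw [show m * (n ^ i * h * (n ^ i)⁻¹) * m⁻¹ * v⁻¹ = j * (v * j⁻¹ * v⁻¹) by
        rw [hmt, hv, pow_add]; group]
      exact mul_mem hj (hS.norm v hv1 _ (inv_mem hj))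
    have h3 := hS.eqJ_conj (inv_mem (pow_mem hnH.1 (t + i))) (Hyp.eqJ_trans h1 h2)
    rwa [show (n ^ (t + i))⁻¹ * (n ^ (t + i) * h * (n ^ (t + i))⁻¹) * (n ^ (t + i))⁻¹⁻¹ = h by group,
      show (n ^ (t + i))⁻¹ * (m * (r * h' * r⁻¹) * m⁻¹) * (n ^ (t + i))⁻¹⁻¹ = u * h' * u⁻¹ by
        rw [hu]; group] at h3
  let φ : G → G := fun v => u * (s * v * s⁻¹ * z) * u⁻¹
  have hφ : ∀ v ∈ O, φ v ∈ O ∧ five n (φ v) = five n v * z := by
    intro v hv
    have hvO : φ v ∈ O := by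
      refine ⟨T.link_conj huH (T.swap_link hsz hsa hv.1), Hyp.eqJ_trans ?_ hh⟩
      refine hS.eqJ_conj huH.1 (hS.eqJ_mul (mul_mem (mul_mem hsz (hO v hv).1.1) (inv_mem hsz)) ?_
        (Hyp.eqJ_refl z))
      exact hS.eqJ_conj hsz (Hyp.eqJ_trans hv.2 (Hyp.eqJ_symm hyh))
    refine ⟨hvO, ?_⟩
    rw [← five_pow hg.n_five (horb _ hvO _ hvO) q hq, ← hun,
      show five (u * n * u⁻¹) (φ v) = MulAut.conj u (five n (s * v * s⁻¹ * z)) from
        (five_map (MulAut.conj u) n _).symm, hflip v hv]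
    have hf : ∀ w, (w = 1 ∨ w = z) → u * w * u⁻¹ = w := by
      rintro w (rfl | rfl)
      · simp
      · exact mem_cz_conj.1 huH.1
    rw [MulAut.conj_apply]
    rcases hval v hv with e | e <;> rw [e]
    · rw [one_mul]; exact hf z (Or.inr rfl)
    · rw [hS.zz]; exact hf 1 (Or.inl rfl)
  have hinj : Function.Injective φ := fun v w e =>
    mul_left_cancel (mul_right_cancel (mul_right_cancel (mul_left_cancel (mul_right_cancel e))))
  let Of : Finset G := {y, w₁, w₂, w₃}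
  let c : G → ℕ := fun v => if five n v = z then 1 else 0
  have hmap : Of.image φ = Of := by
    refine Finset.eq_of_subset_of_card_le ?_ (by rw [Finset.card_image_of_injective _ hinj])
    intro v hv
    obtain ⟨w, hw, rfl⟩ := Finset.mem_image.1 hv
    exact Finset.mem_coe.1 (hOeq.le (hφ w (hOeq.ge hw)).1)
  have hsum : ∑ v ∈ Of, c v + ∑ v ∈ Of, c v = 4 := by
    conv_lhs => arg 1; rw [← hmap, Finset.sum_image (hinj.injOn)]
    rw [← Finset.sum_add_distrib]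
    have hone : ∀ v ∈ Of, c (φ v) + c v = 1 := by
      intro v hv
      have hvO : v ∈ O := hOeq.ge hv
      simp only [c, (hφ v hvO).2]
      rcases hval v hvO with e | e <;> rw [e]
      · simp [Ne.symm hS.z_ne]
      · simp [hS.zz, Ne.symm hS.z_ne]
    rw [Finset.sum_congr rfl hone, Finset.sum_const, smul_eq_mul, mul_one]
    simp [Of, hd1, hd2, hd3, hd12, hd13, hd23]
  simp only [Of, Finset.sum_insert (show y ∉ ({w₁, w₂, w₃} : Finset G) by simp [hd1, hd2, hd3]),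
    Finset.sum_insert (show w₁ ∉ ({w₂, w₃} : Finset G) by simp [hd12, hd13]),
    Finset.sum_pair hd23] at hsum
  rcases hval y hy with e₀ | e₀ <;> rcases hval w₁ hw₁ with e₁ | e₁ <;>
    rcases hval w₂ hw₂ with e₂ | e₂ <;> rcases hval w₃ hw₃ with e₃ | e₃ <;>
    simp only [e₀, e₁, e₂, e₃, one_mul, mul_one, hS.zz, c, hS.z_ne, Ne.symm hS.z_ne, if_true,
      if_false] at hP hsum <;> omega

end Split

end Cfsg.Agent.Lib.Fi22Recog95
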