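import Cfsg.Agent.Lib.Fi22Recog95.QuotCore
import Cfsg.Agent.Lib.Fi22Recog95.NoSplit
import Cfsg.Agent.Lib.U62Cent47.Row
import Cfsg.Agent.S1713

/-!
Recognition of Fi22: the case in which `C(z)` exchanges `a` and `z a`.

Owner: helper95.
-/

set_option autoImplicit false
set_option linter.unusedSectionVars false

namespace Cfsg.Agent.Lib.Fi22Recog95

universe u

variable {G : Type u} [Group G] [Finite G] {z a : G} {J H1 : Subgroup G}

theorem psu_six_simple : IsSimpleGroup (Cfsg.PSU 6 G24.K4 2) :=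
  Unitary.isSimpleGroup_PSU U62Cent47.hF (by norm_num) (by norm_num)

theorem psu_six_not_comm : ¬ ∀ x y : Cfsg.PSU 6 G24.K4 2, x * y = y * x := fun h => by
  haveI := psu_six_simple
  letI : CommGroup (Cfsg.PSU 6 G24.K4 2) := { (inferInstance : Group _) with mul_comm := h }
  have hp := IsSimpleGroup.prime_card (α := Cfsg.PSU 6 G24.K4 2)
  rw [U62Cent47.card_psu_six] at hp
  exact absurd hp (by norm_num)

namespace Ctx

variable (X : Ctx z a J H1)
include X

/-- when `C(z)` moves `a`, the simple part is the whole of `C(z, a)` -/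
theorem h1_eq (hI : ¬ cz z ≤ cz a) : H1 = cza z a := by
  refine le_antisymm X.mod.inner.le fun d hd => by_contra fun hd1 => ?_
  obtain ⟨s, hs, hsa⟩ := SetLike.not_le_iff_exists.1 hI
  have hs1 : s ∉ H1 := fun h => hsa (X.mod.inner.le h).2
  have h2 := X.mod.inner.prod s hs d hd.1 hs1 hd1
  exact hsa (by simpa using (cz a).mul_mem (X.mod.inner.le h2).2 ((cz a).inv_mem hd.2))

/-- isolation over `a` passes to `z a` -/
theorem kfacts_za (hI : ¬ cz z ≤ cz a) (K : KFacts z a) : KFacts z (z * a) := by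
  obtain ⟨s, hs, hsa⟩ := SetLike.not_le_iff_exists.1 hI
  have e := (X.hyp.conj_a hs).resolve_left fun h => hsa (mem_cz_conj.2 h)
  intro g hg
  have h := K.conj (g := s) (h := g) (by rw [e]; exact hg)
  rwa [mem_cz_conj.1 hs] at h

/-- `C(z)` moves `a`: isolation or Fi22. -/
theorem case_moves (facts : U62Cent47.FactsProp) (hI : ¬ cz z ≤ cz a) (hE : ExtraCompl z a J)
    {F : Type*} [Field F] [Fintype F] (hF : Fintype.card F = 3)
    (ψ : ↥(cza z a) →* Cfsg.PSp 2 F) (hψs : Function.Surjective ψ)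
    (hψk : ∀ h : ↥(cza z a), ψ h = 1 ↔ (h : G) ∈ J) (hsimple : IsSimpleGroup (Cfsg.PSp 2 F))
    (hbig : ¬ IsPGroup 2 (⊤ : Subgroup (Cfsg.PSp 2 F))) :
    (KFacts z a ∧ KFacts z (z * a)) ∨ Cfsg.Spor.IsoFi22 G := by
  classical
  have S := X.hyp
  have hbot : ∀ N : Subgroup (Cfsg.PSp 2 F), N.Normal → IsPGroup 2 N → N = ⊥ := fun N hN h2 =>
    (hN.eq_bot_or_eq_top).resolve_right fun e => hbig (e ▸ h2)
  obtain ⟨hmap, hex, hcard, hself, hPn, ⟨e⟩⟩ := S.core_data ψ hψs hψk hbot hE
  haveI := hPn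
  have hzord : orderOf (zq S.zc) = 2 := by
    refine orderOf_eq_prime_iff.2 ⟨?_, fun h => ?_⟩
    · rw [pow_two]
      exact (QuotientGroup.eq_one_iff (N := acen a) (S.zc * S.zc)).2
        (by rw [show S.zc * S.zc = 1 from Subtype.ext S.zz]; exact one_mem _)
    · rcases (mk_eq_mk S.aa (u := 1) (v := S.zc)).1 h.symm with e' | e'
      · exact S.z_ne e'
      · exact S.az (by simpa [Hyp.zc] using e'.symm)
  obtain ⟨C, hH, hJ⟩ := U62Cent47.exists_ctx (zq S.zc) hzord hF _ hex hcard hself e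
  have hcen : U62Cent47.Cen (zq S.zc) = qimg a H1 := by
    rw [X.h1_eq hI]; exact S.cen_eq_qimg
  rcases U62Cent47.isolated_or_fused C facts (fun _ => hH)
      (fun x _ hx => hH ▸ U62Cent47.mem_cen.2 hx.eq) with h | ⟨⟨Fu⟩⟩
  · have K := S.kfacts_of_isolated h
    exact Or.inl ⟨K, X.kfacts_za hI K⟩
  refine Or.inr ?_
  have L : LFacts z a J H1 :=
    S.lfacts_of_fused X.mod.inner (hH.trans hcen) (hJ.trans hmap) Fu
  obtain ⟨i⟩ := Fu.iso C hH
  haveI : IsSimpleGroup (Qa a) := by
    haveI := psu_six_simple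
    exact MulEquiv.isSimpleGroup i
  have hnc : ¬ ∀ x y : Qa a, x * y = y * x := fun h =>
    psu_six_not_comm fun x y => i.symm.injective (by rw [map_mul, map_mul]; exact h _ _)
  -- the centre
  have hcent : Subgroup.center ↥(cz a) = acen a := by
    refine le_antisymm (fun c hc => ?_) (Subgroup.zpowers_le.2 (Subgroup.mem_center_iff.2 fun w =>
      Subtype.ext (mem_cz.1 w.2)))
    refine (QuotientGroup.eq_one_iff c).1 ?_
    have hmem : (QuotientGroup.mk c : Qa a) ∈ Subgroup.center (Qa a) := Subgroup.mem_center_iff.2 fun q => by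
      obtain ⟨w, rfl⟩ := QuotientGroup.mk_surjective q
      exact congrArg (QuotientGroup.mk' (acen a)) (Subgroup.mem_center_iff.1 hc w)
    rcases (inferInstance : (Subgroup.center (Qa a)).Normal).eq_bot_or_eq_top with h | h
    · exact Subgroup.mem_bot.1 (h ▸ hmem)
    · exact absurd (fun x y => (Subgroup.mem_center_iff.1 (h.ge (Subgroup.mem_top y)) x)) hnc
  -- the derived group covers
  set D := commutator ↥(cz a) with hD
  have hDtop : D.map (QuotientGroup.mk' (acen a)) = ⊤ := by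
    haveI : (D.map (QuotientGroup.mk' (acen a))).Normal :=
      (inferInstance : D.Normal).map _ (QuotientGroup.mk'_surjective _)
    refine (this.eq_bot_or_eq_top).resolve_left fun h => hnc fun x y => ?_
    obtain ⟨u, rfl⟩ := QuotientGroup.mk_surjective x
    obtain ⟨v, rfl⟩ := QuotientGroup.mk_surjective y
    have hm := Subgroup.mem_map_of_mem (QuotientGroup.mk' (acen a))
      (Subgroup.commutator_mem_commutator (Subgroup.mem_top u) (Subgroup.mem_top v))
    rw [show Subgroup.map (QuotientGroup.mk' (acen a)) ⁅(⊤ : Subgroup ↥(cz a)), ⊤⁆ = ⊥ from h,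
      Subgroup.mem_bot, map_commutatorElement, commutatorElement_eq_one_iff_mul_comm] at hm
    exact hm
  have hcover : ∀ u : ↥(cz a), u ∈ D ∨ (⟨a, mem_cz.2 rfl⟩ : ↥(cz a)) * u ∈ D := fun u => by
    obtain ⟨d, hd, e⟩ := hDtop.ge (Subgroup.mem_top (QuotientGroup.mk u))
    rcases (mk_eq_mk S.aa).1 (e : (QuotientGroup.mk d : Qa a) = QuotientGroup.mk u) with h | h
    · exact Or.inl (by rwa [show u = d from Subtype.ext h])
    · refine Or.inr ?_
      rwa [show (⟨a, mem_cz.2 rfl⟩ : ↥(cz a)) * u = d from Subtype.ext (by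
        show a * (u : G) = d
        rw [h, ← mul_assoc, ← mem_cz.1 d.2, mul_assoc, S.aa, mul_one] )]
  have haD : (⟨a, mem_cz.2 rfl⟩ : ↥(cz a)) ∈ D := by
    by_contra ha
    exact Split.false (L := D.map (cz a).subtype)
      { ctx := X
        moves := hI
        links := L
        le := Subgroup.map_subtype_le _
        a_not := fun h => ha ((Subgroup.mem_map_iff_mem (cz a).subtype_injective).1 h)
        norm := fun u hu v hv => by
          obtain ⟨w, hw, rfl⟩ := hv
          exact ⟨_, (inferInstance : D.Normal).conj_mem w hw ⟨u, hu⟩, rfl⟩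
        cover := fun u hu => (hcover ⟨u, hu⟩).imp (fun h => ⟨_, h, rfl⟩) fun h => ⟨_, h, rfl⟩ }
  have hperf : commutator ↥(cz a) = ⊤ := eq_top_iff.2 fun u _ => by
    rcases hcover u with h | h
    · exact h
    · simpa using D.mul_mem (D.inv_mem haD) h
  have heq : (Subgroup.zpowers a).subgroupOf (cz a) = acen a := by
    rw [acen, Subgroup.subgroupOf, show Subgroup.zpowers a =
      (Subgroup.zpowers (⟨a, mem_cz.2 rfl⟩ : ↥(cz a))).map (cz a).subtype from
        ((cz a).subtype.map_zpowers ⟨a, mem_cz.2 rfl⟩).symm, Subgroup.comap_map_eq_self_of_injective (cz a).subtype_injective]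
  haveI : ((Subgroup.zpowers a).subgroupOf (cz a)).Normal := heq.symm ▸ acen_normal a
  have hq : Cfsg.IsQuasisimple ↥(cz a) := by
    refine ⟨⟨hperf⟩, ?_⟩
    exact MulEquiv.isSimpleGroup (QuotientGroup.quotientMulEquivOfEq hcent)
  obtain ⟨s, hs, hsa⟩ := SetLike.not_le_iff_exists.1 hI
  have es := (S.conj_a hs).resolve_left fun h => hsa (mem_cz_conj.2 h)
  exact Cfsg.Agent.S1713.result a (orderOf_eq_prime (by rw [pow_two, S.aa]) S.a_ne) hq G24.K4
    (by rw [G24.K4.card_eq]) ((QuotientGroup.quotientMulEquivOfEq heq).trans i)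
    ⟨s, by rw [es]; exact mem_cz.2 (by rw [mul_assoc, ← mul_assoc a z a, ← S.za_comm, mul_assoc]),
      by rw [es]; exact S.za_ne_a⟩

end Ctx

end Cfsg.Agent.Lib.Fi22Recog95
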