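import Cfsg.Agent.Lib.Fi22Recog95.Core

/-!
Recognition of Fi22: the involutions of the centre of `J` are not conjugate to `z`, and `a`, `z a` are
not conjugate when `C(z)` fixes them.
-/

set_option autoImplicit false
set_option linter.unusedSectionVars false

namespace Cfsg.Agent.Lib.Fi22Recog95

variable {G : Type*} [Group G] [Finite G] {z a : G} {J : Subgroup G}

/-- A subgroup of index two is normalised. -/
theorem conj_mem_of_double {A B : Subgroup G} (hle : A ≤ B) (h2 : Nat.card B ≤ 2 * Nat.card A)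
    {u v : G} (hu : u ∈ B) (hv : v ∈ A) : u * v * u⁻¹ ∈ A := by
  by_cases hA : u ∈ A
  · exact mul_mem (mul_mem hA hv) (inv_mem hA)
  have hs : (A : Set G) ∪ (fun w => u * w) '' (A : Set G) ⊆ B := by
    rintro w (hw | ⟨w, hw, rfl⟩)
    exacts [hle hw, mul_mem hu (hle hw)]
  have hd : Disjoint (A : Set G) ((fun w => u * w) '' (A : Set G)) := by
    refine Set.disjoint_left.2 fun w hw => ?_
    rintro ⟨w', hw', rfl⟩
    exact hA (by simpa using mul_mem hw (inv_mem hw'))
  have hc : ((A : Set G) ∪ (fun w => u * w) '' (A : Set G)).ncard = 2 * (A : Set G).ncard := by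
    rw [Set.ncard_union_eq hd, Set.ncard_image_of_injective _ (mul_right_injective u), two_mul]
  have he : (A : Set G) ∪ (fun w => u * w) '' (A : Set G) = B := by
    refine Set.eq_of_subset_of_ncard_le hs ?_
    rw [hc]
    change Nat.card (B : Set G) ≤ 2 * Nat.card (A : Set G) at h2
    rwa [Nat.card_coe_set_eq, Nat.card_coe_set_eq] at h2
  have hm : u * v * u⁻¹ ∈ (B : Set G) := mul_mem (mul_mem hu (hle hv)) (inv_mem hu)
  rw [← he] at hm
  rcases hm with hm | ⟨w, hw, e⟩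
  · exact hm
  · refine absurd ?_ hA
    have : u = w⁻¹ * v := by
      calc u = w⁻¹ * (u⁻¹ * (u * w)) * u := by group
        _ = w⁻¹ * (u⁻¹ * (u * v * u⁻¹)) * u := by rw [← e]
        _ = _ := by group
    rw [this]
    exact mul_mem (inv_mem hw) hv

namespace Hyp

variable (S : Hyp z a J)
include S

theorem swap_za : Hyp z (z * a) J where
  zz := S.zz
  z_ne := S.z_ne
  aa := S.za_za
  a_ne := S.za_ne
  az := S.za_ne_z
  le := S.le
  norm := S.norm
  card := S.card
  z_mem := S.z_mem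
  a_mem := S.za_mem
  two := S.two
  core := S.core
  selfc := S.selfc
  a_cent := S.cen_za
  cen q hq h := by
    have e : z * (z * a) = a := by rw [← mul_assoc, S.zz, one_mul]
    rw [e]
    rcases S.cen q hq h with f | f | f | f <;> simp [f]
  sq := S.sq
  comm := S.comm
  nonab := S.nonab

theorem card_cz_le : Nat.card (cz z) ≤ 2 * Nat.card (cza z a) :=
  card_le_two_mul fun _ hu hu' _ hv hv' =>
    S.mul_mem_cza hu hv (fun h => hu' ⟨hu, h⟩) fun h => hv' ⟨hv, h⟩

/-- `z` is not conjugate to `a`. -/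
theorem not_conj_a (g : G) : g * z * g⁻¹ ≠ a := by
  intro e
  have hmap : (cz z).map (MulAut.conj g).toMonoidHom = cz a := by
    ext u
    constructor
    · rintro ⟨v, hv, rfl⟩
      refine mem_cz.2 ?_
      show g * v * g⁻¹ * a = a * (g * v * g⁻¹)
      calc g * v * g⁻¹ * a = g * (v * z) * g⁻¹ := by rw [← e]; group
        _ = g * (z * v) * g⁻¹ := by rw [mem_cz.1 hv]
        _ = _ := by rw [← e]; group
    · intro hu
      exact ⟨g⁻¹ * u * g, cz_of (by rw [e]; exact hu), by simp [mul_assoc]⟩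
  have hcard : Nat.card (cz a) = Nat.card (cz z) := by
    rw [← hmap]
    exact (Nat.card_congr ((cz z).equivMapOfInjective (MulAut.conj g).toMonoidHom
      (MulAut.conj g).injective).toEquiv).symm
  have hza : cz a ≤ cz z := fun u hu => S.mem_cz_of_norm fun v hv =>
    conj_mem_of_double inf_le_right (hcard.trans_le S.card_cz_le) hu hv
  have heq : cz a = cz z := Subgroup.eq_of_le_of_card_ge hza hcard.ge
  have hg : g ∈ cz z := S.mem_cz_of_norm fun v hv => by
    have h : g * v * g⁻¹ ∈ cz a := hmap.le ⟨v, hv.1, rfl⟩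
    exact ⟨heq.le h, h⟩
  exact S.az (e.symm.trans (mem_cz_conj.1 hg))
where
  cz_of {u : G} (hu : u ∈ cz (g * z * g⁻¹)) : g⁻¹ * u * g ∈ cz z := mem_cz.2 (by
    calc g⁻¹ * u * g * z = g⁻¹ * (u * (g * z * g⁻¹)) * g := by group
      _ = g⁻¹ * (g * z * g⁻¹ * u) * g := by rw [mem_cz.1 hu]
      _ = _ := by group)

theorem not_conj_za (g : G) : g * z * g⁻¹ ≠ z * a := S.swap_za.not_conj_a g

/-- A maximal 2-subgroup of `C(z)` has `z`, `a` and `z a` as its central involutions. -/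
theorem perm_of_normalizes (hI : cz z ≤ cz a) {T : Subgroup G} (hT : T ≤ cz z) (hJT : J ≤ T) {u : G}
    (hu : ∀ v, v ∈ T ↔ u * v * u⁻¹ ∈ T) : u ∈ cz z := by
  have key : ∀ t : G, t ∈ J → t ≠ 1 → (∀ v ∈ T, v * t = t * v) →
      u * t * u⁻¹ = z ∨ u * t * u⁻¹ = a ∨ u * t * u⁻¹ = z * a := by
    intro t ht ht1 htc
    have hmem : u * t * u⁻¹ ∈ T := (hu t).1 (hJT ht)
    have hcent : ∀ j ∈ J, u * t * u⁻¹ * j = j * (u * t * u⁻¹) := by
      intro j hj
      have hv : u⁻¹ * j * u ∈ T := (hu _).2 (by simpa [mul_assoc] using hJT hj)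
      calc u * t * u⁻¹ * j = u * (t * (u⁻¹ * j * u)) * u⁻¹ := by group
        _ = u * (u⁻¹ * j * u * t) * u⁻¹ := by rw [htc _ hv]
        _ = _ := by group
    exact (S.cen _ (S.selfc _ (hT hmem) hcent) hcent).resolve_left fun h => ht1 (conj_eq_one_iff.1 h)
  exact S.mem_cz_of_perm (key z S.z_mem S.z_ne fun v hv => mem_cz.1 (hT hv))
    (key a S.a_mem S.a_ne fun v hv => mem_cz.1 (hI (hT hv)))

/-- When `C(z)` fixes `a`, it contains a Sylow 2-subgroup of `G` containing `J`. -/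
theorem exists_sylow (hI : cz z ≤ cz a) :
    ∃ P : Sylow 2 G, (P : Subgroup G) ≤ cz z ∧ J ≤ (P : Subgroup G) := by
  haveI : Fact (Nat.Prime 2) := ⟨Nat.prime_two⟩
  obtain ⟨Q⟩ := (inferInstance : Nonempty (Sylow 2 (cz z)))
  set T := (Q : Subgroup (cz z)).map (cz z).subtype with hT
  have hTz : T ≤ cz z := by rintro _ ⟨u, -, rfl⟩; exact u.2
  have hT2 : IsPGroup 2 T := Q.isPGroup'.map _
  have hmax : ∀ R : Subgroup G, IsPGroup 2 R → R ≤ cz z → T ≤ R → R = T := by
    intro R hR hRz hTR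
    have h := Q.is_maximal' (hR.of_equiv (Subgroup.subgroupOfEquivOfLe hRz).symm)
      fun u hu => hTR ⟨u, hu, rfl⟩
    refine le_antisymm (fun r hr => ?_) hTR
    exact ⟨⟨r, hRz hr⟩, h ▸ (show (⟨r, hRz hr⟩ : cz z) ∈ R.subgroupOf (cz z) from hr), rfl⟩
  have hJT : J ≤ T := S.J_le_sylow hT2 hTz hmax
  obtain ⟨P, hP⟩ := hT2.exists_le_sylow
  refine ⟨P, ?_, hJT.trans hP⟩
  suffices h : (P : Subgroup G) ≤ T from h.trans hTz
  by_contra hne
  have hlt : 2 * Nat.card T ≤ Nat.card (P : Subgroup G) := two_mul_card_le hP hne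
  obtain ⟨n, hn⟩ := IsPGroup.iff_card.1 hT2
  obtain ⟨m, hm⟩ := IsPGroup.iff_card.1 P.isPGroup'
  have hdvd : 2 ^ (n + 1) ∣ Nat.card (P : Subgroup G) := by
    rw [hm]
    rw [hn, hm, ← pow_succ'] at hlt
    exact pow_dvd_pow _ ((Nat.pow_le_pow_iff_right (by norm_num)).1 hlt)
  obtain ⟨K, hK, hTK⟩ := Sylow.exists_subgroup_card_pow_succ hdvd (H := T.subgroupOf P) (by
    rw [Nat.card_congr (Subgroup.subgroupOfEquivOfLe hP).toEquiv, hn])
  set K' := K.map (P : Subgroup G).subtype with hK'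
  have hK'c : Nat.card K' = 2 ^ (n + 1) := by
    rw [← hK]
    exact (Nat.card_congr (K.equivMapOfInjective _ Subtype.val_injective).toEquiv).symm
  have hTK' : T ≤ K' := fun t ht => ⟨⟨t, hP ht⟩, hTK ht, rfl⟩
  have hK'z : K' ≤ cz z := fun u hu => S.perm_of_normalizes hI hTz hJT fun v => by
    have h2 : Nat.card K' ≤ 2 * Nat.card T := by rw [hK'c, hn, pow_succ']
    exact ⟨fun hv => conj_mem_of_double hTK' h2 hu hv, fun hv => by
      simpa [mul_assoc] using conj_mem_of_double hTK' h2 (inv_mem hu) hv⟩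
  have := hmax K' ((IsPGroup.of_card hK'c)) hK'z hTK'
  rw [this, hn] at hK'c
  exact absurd hK'c (Nat.pow_lt_pow_right (by norm_num) (Nat.lt_succ_self n)).ne

/-- When `C(z)` fixes `a`, it is not conjugate to `z a`. -/
theorem not_conj_a_za (hI : cz z ≤ cz a) (g : G) : g * a * g⁻¹ ≠ z * a := by
  intro e
  obtain ⟨P, hPz, hJP⟩ := S.exists_sylow hI
  have ha : ∀ s ∈ (P : Subgroup G), s * a = a * s := fun s hs => mem_cz.1 (hI (hPz hs))
  have hza : ∀ s ∈ (P : Subgroup G), s * (z * a) = z * a * s := fun s hs => by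
    rw [← mul_assoc, mem_cz.1 (hPz hs), mul_assoc, ha s hs, ← mul_assoc]
  obtain ⟨n, hn, hne⟩ := HalfClasses.burnside (P := P) ha hza (isConj_iff.2 ⟨g, e⟩)
  have hnz := S.perm_of_normalizes hI hPz hJP fun v => Subgroup.mem_normalizer_iff.1 hn v
  exact S.za_ne_a (hne.symm.trans (mem_cz_conj.1 (hI hnz)))

end Hyp

end Cfsg.Agent.Lib.Fi22Recog95
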