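import Cfsg.Agent.Lib.Fi22Recog95.Pair

/-!
Recognition of Fi22: congruence modulo `J`, products of five commuting conjugates, and conjugation of
the fixed spaces.
-/

set_option autoImplicit false
set_option linter.unusedSectionVars false

namespace Cfsg.Agent.Lib.Fi22Recog95

variable {G : Type*} [Group G]

/-- `u` and `v` agree modulo `J`. -/
def EqJ (J : Subgroup G) (u v : G) : Prop := u * v⁻¹ ∈ J

/-- the product of the five conjugates of `y` by the powers of `n` -/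
def five (n y : G) : G :=
  y * (n * y * n⁻¹) * (n ^ 2 * y * (n ^ 2)⁻¹) * (n ^ 3 * y * (n ^ 3)⁻¹) * (n ^ 4 * y * (n ^ 4)⁻¹)

/-- all conjugates of `u` and `v` by powers of `n` commute -/
def Orb (n u v : G) : Prop :=
  ∀ i k : ℕ, Commute (n ^ i * u * (n ^ i)⁻¹) (n ^ k * v * (n ^ k)⁻¹)

theorem five_map (φ : G ≃* G) (n y : G) : φ (five n y) = five (φ n) (φ y) := by
  simp [five, map_mul, map_inv, map_pow]

theorem five_of_commute {n u : G} (h : n * u = u * n) : five n u = u ^ 5 := by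
  have e : ∀ i : ℕ, n ^ i * u * (n ^ i)⁻¹ = u := fun i =>
    mul_inv_eq_iff_eq_mul.2 ((show Commute n u from h).pow_left i).eq
  unfold five
  rw [e 2, e 3, e 4, mul_inv_eq_iff_eq_mul.2 h]
  simp [pow_succ]

theorem Orb.symm {n u v : G} (h : Orb n u v) : Orb n v u := fun i k => (h k i).symm

/-- The product of five conjugates is multiplicative on commuting orbits. -/
theorem five_mul {n u v : G} (h : Orb n u v) : five n (u * v) = five n u * five n v := by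
  have hc : ∀ i : ℕ, n ^ i * (u * v) * (n ^ i)⁻¹ = n ^ i * u * (n ^ i)⁻¹ * (n ^ i * v * (n ^ i)⁻¹) :=
    fun i => by group
  have e1 : n * (u * v) * n⁻¹ = n ^ 1 * u * (n ^ 1)⁻¹ * (n ^ 1 * v * (n ^ 1)⁻¹) := by
    rw [pow_one]; group
  have e0 : u * v = n ^ 0 * u * (n ^ 0)⁻¹ * (n ^ 0 * v * (n ^ 0)⁻¹) := by simp
  unfold five
  rw [hc 2, hc 3, hc 4, e1]
  conv_lhs => rw [e0]
  rw [show n * u * n⁻¹ = n ^ 1 * u * (n ^ 1)⁻¹ by rw [pow_one],
    show n * v * n⁻¹ = n ^ 1 * v * (n ^ 1)⁻¹ by rw [pow_one]]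
  set a₀ := n ^ 0 * u * (n ^ 0)⁻¹
  set a₁ := n ^ 1 * u * (n ^ 1)⁻¹
  set a₂ := n ^ 2 * u * (n ^ 2)⁻¹
  set a₃ := n ^ 3 * u * (n ^ 3)⁻¹
  set a₄ := n ^ 4 * u * (n ^ 4)⁻¹
  set b₀ := n ^ 0 * v * (n ^ 0)⁻¹
  set b₁ := n ^ 1 * v * (n ^ 1)⁻¹
  set b₂ := n ^ 2 * v * (n ^ 2)⁻¹
  set b₃ := n ^ 3 * v * (n ^ 3)⁻¹
  have c01 : Commute b₀ a₁ := (h 1 0).symm
  have c02 : Commute (b₀ * b₁) a₂ := Commute.mul_left (h 2 0).symm (h 2 1).symm
  have c03 : Commute (b₀ * b₁ * b₂) a₃ :=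
    Commute.mul_left (Commute.mul_left (h 3 0).symm (h 3 1).symm) (h 3 2).symm
  have c04 : Commute (b₀ * b₁ * b₂ * b₃) a₄ :=
    Commute.mul_left (Commute.mul_left (Commute.mul_left (h 4 0).symm (h 4 1).symm) (h 4 2).symm)
      (h 4 3).symm
  rw [c01.mul_mul_mul_comm a₀ b₁, c02.mul_mul_mul_comm (a₀ * a₁) b₂,
    c03.mul_mul_mul_comm (a₀ * a₁ * a₂) b₃, c04.mul_mul_mul_comm (a₀ * a₁ * a₂ * a₃)]
  simp [a₀, a₁, a₂, a₃, a₄, b₀, b₁, b₂, b₃]

/-- The product of the five conjugates does not depend on the generator. -/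
theorem five_pow {n y : G} (hn : n ^ 5 = 1) (h : Orb n y y) (k : ℕ) (hk : k % 5 ≠ 0) :
    five (n ^ k) y = five n y := by
  have hmod : ∀ i : ℕ, n ^ i = n ^ (i % 5) := fun i => pow_eq_pow_mod i hn
  have hk' : k % 5 = 1 ∨ k % 5 = 2 ∨ k % 5 = 3 ∨ k % 5 = 4 := by omega
  have e : n ^ k = n ^ (k % 5) := hmod k
  rw [e]
  have c : ∀ i l : ℕ, Commute (n ^ i * y * (n ^ i)⁻¹) (n ^ l * y * (n ^ l)⁻¹) := h
  unfold five
  rw [← pow_mul, ← pow_mul, ← pow_mul, hmod (k % 5 * 2), hmod (k % 5 * 3), hmod (k % 5 * 4)]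
  set A₁ := n * y * n⁻¹ with h₁
  set A₂ := n ^ 2 * y * (n ^ 2)⁻¹ with h₂
  set A₃ := n ^ 3 * y * (n ^ 3)⁻¹ with h₃
  set A₄ := n ^ 4 * y * (n ^ 4)⁻¹ with h₄
  have c12 : Commute A₁ A₂ := by simpa [h₁, h₂] using c 1 2
  have c13 : Commute A₁ A₃ := by simpa [h₁, h₃] using c 1 3
  have c14 : Commute A₁ A₄ := by simpa [h₁, h₄] using c 1 4
  have c23 : Commute A₂ A₃ := c 2 3
  have c24 : Commute A₂ A₄ := c 2 4
  have c34 : Commute A₃ A₄ := c 3 4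
  rcases hk' with e' | e' | e' | e' <;> rw [e'] <;> norm_num <;>
    simp only [← h₁, ← h₂, ← h₃, ← h₄, mul_assoc]
  · -- exponents 2, 4, 1, 3
    rw [c14.symm.left_comm, c12.symm.left_comm, c34.symm.eq]
  · -- exponents 3, 1, 4, 2
    rw [c13.symm.left_comm, c24.symm.eq, c23.symm.left_comm]
  · -- exponents 4, 3, 2, 1
    rw [c12.symm.eq, c13.symm.left_comm, c14.symm.left_comm, c23.symm.eq, c24.symm.left_comm,
      c34.symm.eq]

namespace Hyp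

variable {z a : G} {J : Subgroup G} (S : Hyp z a J)
include S

omit S in
theorem eqJ_refl (u : G) : EqJ J u u := by
  unfold EqJ; rw [mul_inv_cancel]; exact one_mem _

omit S in
theorem eqJ_symm {u v : G} (h : EqJ J u v) : EqJ J v u := by
  unfold EqJ at *; rw [show v * u⁻¹ = (u * v⁻¹)⁻¹ by group]; exact inv_mem h

omit S in
theorem eqJ_trans {u v w : G} (h : EqJ J u v) (h' : EqJ J v w) : EqJ J u w := by
  unfold EqJ at *; rw [show u * w⁻¹ = u * v⁻¹ * (v * w⁻¹) by group]; exact mul_mem h h'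

theorem eqJ_mul {u u' v v' : G} (hu : u ∈ cz z) (h : EqJ J u v) (h' : EqJ J u' v') :
    EqJ J (u * u') (v * v') := by
  unfold EqJ at *
  rw [show u * u' * (v * v')⁻¹ = u * (u' * v'⁻¹) * u⁻¹ * (u * v⁻¹) by group]
  exact mul_mem (S.norm u hu _ h') h

theorem eqJ_conj {g u v : G} (hg : g ∈ cz z) (h : EqJ J u v) :
    EqJ J (g * u * g⁻¹) (g * v * g⁻¹) := by
  unfold EqJ at *
  rw [show g * u * g⁻¹ * (g * v * g⁻¹)⁻¹ = g * (u * v⁻¹) * g⁻¹ by group]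
  exact S.norm g hg _ h

theorem commMod_congr {u u' v v' : G} (hu : u ∈ cz z) (hv : v ∈ cz z) (hu' : EqJ J u u')
    (hv' : EqJ J v v') (hc : CommMod J u' v') : CommMod J u v := by
  have h1 : EqJ J (u' * v') (v' * u') := by
    unfold EqJ; rwa [show u' * v' * (v' * u')⁻¹ = u' * v' * u'⁻¹ * v'⁻¹ by group]
  have h2 := eqJ_trans (eqJ_trans (S.eqJ_mul hu hu' hv') h1) (eqJ_symm (S.eqJ_mul hv hv' hu'))
  unfold EqJ at h2
  unfold CommMod
  rwa [show u * v * u⁻¹ * v⁻¹ = u * v * (v * u)⁻¹ by group]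

theorem inv2_congr {u v : G} (hu : u ∈ cz z) (huv : EqJ J u v) (hv : Inv2 J v) : Inv2 J u := by
  constructor
  · have h2 := mul_mem (S.eqJ_mul hu huv huv) hv.1
    rwa [show u * u * (v * v)⁻¹ * (v * v) = u * u by group] at h2
  · intro h
    refine hv.2 ?_
    have h2 := mul_mem (inv_mem huv) h
    rwa [show (u * v⁻¹)⁻¹ * u = v by group] at h2

theorem cv_eqJ {u v : G} (hu : u ∈ cz z) (hv : v ∈ cz z) (huv : EqJ J u v) :
    CV z a J u = CV z a J v := by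
  have key : ∀ p q : G, p ∈ cz z → EqJ J p q → CV z a J p ⊆ CV z a J q := fun p q hp h j hj => by
    refine S.cv_congr hp ?_ hj
    have h2 := S.norm p⁻¹ (inv_mem hp) _ (inv_mem h)
    rwa [show p⁻¹ * (p * q⁻¹)⁻¹ * p⁻¹⁻¹ = p⁻¹ * q by group] at h2
  exact (key u v hu huv).antisymm (key v u hv (eqJ_symm huv))

theorem mem_cv_conj {s j h : G} (hs : s ∈ cz z) (hj : j ∈ CV z a J h) :
    s * j * s⁻¹ ∈ CV z a J (s * h * s⁻¹) := by
  refine ⟨S.norm s hs j hj.1, ?_⟩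
  rw [show s * h * s⁻¹ * (s * j * s⁻¹) * (s * h * s⁻¹)⁻¹ * (s * j * s⁻¹)⁻¹ =
    s * (h * j * h⁻¹ * j⁻¹) * s⁻¹ by group]
  exact S.inZ_conj hs hj.2

theorem card_cv_conj [Finite G] {s h : G} (hs : s ∈ cz z) :
    Nat.card (CV z a J (s * h * s⁻¹)) = Nat.card (CV z a J h) := by
  refine Nat.card_congr (Equiv.subtypeEquiv (MulAut.conj s⁻¹).toEquiv fun j => ?_)
  show j ∈ CV z a J (s * h * s⁻¹) ↔ s⁻¹ * j * s⁻¹⁻¹ ∈ CV z a J h
  constructor
  · intro hj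
    have h2 := S.mem_cv_conj (inv_mem hs) hj
    rwa [show s⁻¹ * (s * h * s⁻¹) * s⁻¹⁻¹ = h by group] at h2
  · intro hj
    have h2 := S.mem_cv_conj hs hj
    rwa [show s * (s⁻¹ * j * s⁻¹⁻¹) * s⁻¹ = j by group] at h2

end Hyp

end Cfsg.Agent.Lib.Fi22Recog95
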