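import Cfsg.Agent.Lib.Fi22Recog95.Iface

/-!
Recognition of Fi22: fixed points, images and perp subgroups in the core `J`, whose commutators lie in
`{1, z}`.
-/

set_option autoImplicit false
set_option linter.unusedSectionVars false

namespace Cfsg.Agent.Lib.Fi22Recog95

variable {G : Type*} [Group G]

/-- the centraliser of `x` in `J` -/
abbrev PJ (J : Subgroup G) (x : G) : Subgroup G := J ⊓ cz x

/-- A subgroup in which the products of two elements outside `B` lie in `B` is at most twice `B`. -/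
theorem card_le_two_mul [Finite G] {A B : Subgroup G}
    (h : ∀ u ∈ A, u ∉ B → ∀ v ∈ A, v ∉ B → u * v ∈ B) : Nat.card A ≤ 2 * Nat.card B := by
  change Nat.card (A : Set G) ≤ 2 * Nat.card (B : Set G)
  rw [Nat.card_coe_set_eq, Nat.card_coe_set_eq]
  by_cases hA : ∀ u ∈ A, u ∈ B
  · exact (Set.ncard_le_ncard hA (Set.toFinite _)).trans (Nat.le_mul_of_pos_left _ two_pos)
  push Not at hA
  obtain ⟨u, hu, hu'⟩ := hA
  have hs : (A : Set G) ⊆ (B : Set G) ∪ (fun v => u⁻¹ * v) '' (B : Set G) := by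
    intro v hv
    by_cases hv' : v ∈ B
    · exact Or.inl hv'
    · exact Or.inr ⟨u * v, h u hu hu' v hv hv', by simp⟩
  calc (A : Set G).ncard ≤ ((B : Set G) ∪ (fun v => u⁻¹ * v) '' (B : Set G)).ncard :=
        Set.ncard_le_ncard hs (Set.toFinite _)
    _ ≤ (B : Set G).ncard + ((fun v => u⁻¹ * v) '' (B : Set G)).ncard := Set.ncard_union_le _ _
    _ ≤ (B : Set G).ncard + (B : Set G).ncard :=
        Nat.add_le_add_left (Set.ncard_image_le (Set.toFinite (B : Set G))) _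
    _ = 2 * (B : Set G).ncard := (two_mul _).symm

/-- A proper overgroup is at least twice as big. -/
theorem two_mul_card_le [Finite G] {A B : Subgroup G} (hle : A ≤ B) (h : ¬ B ≤ A) :
    2 * Nat.card A ≤ Nat.card B := by
  obtain ⟨k, hk⟩ := Subgroup.card_dvd_of_le hle
  have hA : 0 < Nat.card A := Nat.card_pos
  have hk1 : 2 ≤ k := by
    rcases k with _ | _ | k
    · have hB : 0 < Nat.card B := Nat.card_pos
      simp [hk] at hB
    · exact absurd (Subgroup.eq_of_le_of_card_ge hle (by omega)).ge h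
    · omega
  rw [hk, mul_comm 2]
  exact Nat.mul_le_mul_left _ hk1

namespace Hyp

variable {z a : G} {J : Subgroup G} (S : Hyp z a J)
include S

theorem inZ_mem {w : G} (hw : InZ z a w) : w ∈ J := by
  rcases hw with rfl | rfl | rfl | rfl
  exacts [one_mem _, S.z_mem, S.a_mem, S.za_mem]

theorem inZ_sq {w : G} (hw : InZ z a w) : w * w = 1 := by
  rcases hw with rfl | rfl | rfl | rfl
  exacts [one_mul _, S.zz, S.aa, S.za_za]

theorem inZ_inv {w : G} (hw : InZ z a w) : w⁻¹ = w := inv_eq_of_mul_eq_one_right (S.inZ_sq hw)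

theorem inZ_comm {w j : G} (hw : InZ z a w) (hj : j ∈ J) : j * w = w * j := by
  rcases hw with rfl | rfl | rfl | rfl
  exacts [by simp, S.z_cent j hj, S.a_cent j hj, S.cen_za j hj]

theorem inZ_mul {w v : G} (hw : InZ z a w) (hv : InZ z a v) : InZ z a (w * v) :=
  S.cen _ (mul_mem (S.inZ_mem hw) (S.inZ_mem hv)) fun j hj => by
    rw [mul_assoc, ← S.inZ_comm hv hj, ← mul_assoc, ← S.inZ_comm hw hj, mul_assoc]

theorem inZ_conj {h w : G} (hh : h ∈ cz z) (hw : InZ z a w) : InZ z a (h * w * h⁻¹) := by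
  rcases hw with rfl | rfl | rfl | rfl
  · exact Or.inl (by simp)
  · exact Or.inr (Or.inl (mem_cz_conj.1 hh))
  · rcases S.conj_a hh with e | e
    · exact Or.inr (Or.inr (Or.inl e))
    · exact Or.inr (Or.inr (Or.inr e))
  · rw [S.conj_za hh]
    rcases S.conj_a hh with e | e <;> rw [e]
    · exact Or.inr (Or.inr (Or.inr rfl))
    · exact Or.inr (Or.inr (Or.inl (by rw [← mul_assoc, S.zz, one_mul])))

theorem inZ_fix {h w : G} (hh : h ∈ cza z a) (hw : InZ z a w) : h * w * h⁻¹ = w := by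
  rcases hw with rfl | rfl | rfl | rfl
  · simp
  · exact mem_cz_conj.1 hh.1
  · exact mem_cz_conj.1 hh.2
  · rw [S.conj_za hh.1, mem_cz_conj.1 hh.2]

/-- A commutator in `J` is `1` or `z`. -/
theorem comJ {j k : G} (hj : j ∈ J) (hk : k ∈ J) :
    j * k * j⁻¹ * k⁻¹ = 1 ∨ j * k * j⁻¹ * k⁻¹ = z := by
  rcases S.comm j hj k hk with e | e <;> rw [e]
  · exact Or.inl (mul_inv_cancel k)
  · exact Or.inr (by rw [S.z_cent k hk, mul_inv_cancel_right])

theorem anti {j k : G} (hj : j ∈ J) (hk : k ∈ J) (h : ¬ j * k = k * j) : j * k = k * j * z := by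
  rcases S.comm j hj k hk with e | e <;> rw [mul_inv_eq_iff_eq_mul] at e
  · exact absurd e h
  · rw [e, mul_assoc, ← S.z_cent j hj, ← mul_assoc]

theorem anti_mul {j k l : G} (hj : j ∈ J) (hk : k ∈ J) (hl : l ∈ J) (h1 : ¬ j * l = l * j)
    (h2 : ¬ k * l = l * k) : j * k * l = l * (j * k) := by
  calc j * k * l = j * (k * l) := mul_assoc _ _ _
    _ = j * (l * k * z) := by rw [S.anti hk hl h2]
    _ = j * l * (k * z) := by simp [mul_assoc]
    _ = l * j * z * (z * k) := by rw [S.anti hj hl h1, S.z_cent k hk]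
    _ = l * j * (z * z) * k := by simp [mul_assoc]
    _ = l * (j * k) := by rw [S.zz, mul_one, mul_assoc]

/-- `{1, z, a, z a}` -/
def zs : Subgroup G where
  carrier := {w | InZ z a w}
  one_mem' := Or.inl rfl
  mul_mem' := fun hw hv => S.inZ_mul hw hv
  inv_mem' := fun {w} hw => by
    show InZ z a w⁻¹
    rw [S.inZ_inv hw]; exact hw

theorem card_zs : Nat.card (zs S) = 4 := by
  classical
  have e : ((zs S) : Set G) = (({1, z, a, z * a} : Finset G) : Set G) := by
    ext w; simp [zs, InZ]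
  change Nat.card ((zs S) : Set G) = 4
  rw [Nat.card_coe_set_eq, e, Set.ncard_coe_finset, Finset.card_insert_of_notMem,
    Finset.card_insert_of_notMem, Finset.card_insert_of_notMem, Finset.card_singleton]
  · simp [Ne.symm S.za_ne_a]
  · simp [Ne.symm S.az, Ne.symm S.za_ne_z]
  · simp [Ne.symm S.z_ne, Ne.symm S.a_ne, Ne.symm S.za_ne]

theorem zs_le : zs S ≤ J := fun _ hw => S.inZ_mem hw

/-- the preimage in `J` of the fixed points of `h` -/
def cvs (h : G) : Subgroup G where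
  carrier := CV z a J h
  one_mem' := ⟨one_mem _, Or.inl (by simp)⟩
  mul_mem' := fun {j k} ⟨hj, hj'⟩ ⟨hk, hk'⟩ => by
    refine ⟨mul_mem hj hk, ?_⟩
    rw [show h * (j * k) * h⁻¹ * (j * k)⁻¹ =
        h * j * h⁻¹ * j⁻¹ * (j * (h * k * h⁻¹ * k⁻¹) * j⁻¹) by group,
      S.inZ_fix (S.le_cza hj) hk']
    exact S.inZ_mul hj' hk'
  inv_mem' := fun {j} ⟨hj, hj'⟩ => by
    refine ⟨inv_mem hj, ?_⟩
    rw [show h * j⁻¹ * h⁻¹ * j⁻¹⁻¹ = j⁻¹ * (h * j * h⁻¹ * j⁻¹)⁻¹ * j⁻¹⁻¹ by group,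
      S.inZ_inv hj', S.inZ_fix (S.le_cza (inv_mem hj)) hj']
    exact hj'

theorem mem_cvs {h j : G} : j ∈ cvs S h ↔ j ∈ CV z a J h := Iff.rfl

theorem cvs_le (h : G) : cvs S h ≤ J := fun _ hj => hj.1

theorem pj_le_cvs (h : G) : PJ J h ≤ cvs S h := fun j hj => ⟨hj.1, Or.inl (by
  rw [← mem_cz.1 hj.2, mul_inv_cancel_right, mul_inv_cancel])⟩

theorem zs_le_cvs {h : G} (hh : h ∈ cza z a) : zs S ≤ cvs S h := fun w hw =>
  ⟨S.inZ_mem hw, Or.inl (by rw [S.inZ_fix hh hw, mul_inv_cancel])⟩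

theorem cv_mul {g h j : G} (hg : g ∈ cz z) (h1 : j ∈ CV z a J g) (h2 : j ∈ CV z a J h) :
    j ∈ CV z a J (g * h) := by
  refine ⟨h1.1, ?_⟩
  rw [show g * h * j * (g * h)⁻¹ * j⁻¹ = g * (h * j * h⁻¹ * j⁻¹) * g⁻¹ * (g * j * g⁻¹ * j⁻¹) by group]
  exact S.inZ_mul (S.inZ_conj hg h2.2) h1.2

theorem cv_inv {g j : G} (hg : g ∈ cz z) (h1 : j ∈ CV z a J g) : j ∈ CV z a J g⁻¹ := by
  refine ⟨h1.1, ?_⟩
  rw [show g⁻¹ * j * g⁻¹⁻¹ * j⁻¹ = g⁻¹ * (g * j * g⁻¹ * j⁻¹)⁻¹ * g⁻¹⁻¹ by group, S.inZ_inv h1.2]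
  exact S.inZ_conj (inv_mem hg) h1.2

theorem cv_of_mem {h j : G} (hh : h ∈ J) (hj : j ∈ J) : j ∈ CV z a J h := by
  refine ⟨hj, ?_⟩
  rcases S.comJ hh hj with e | e
  · exact Or.inl e
  · exact Or.inr (Or.inl e)

theorem cv_congr {g h j : G} (hg : g ∈ cz z) (hgh : g⁻¹ * h ∈ J) (h1 : j ∈ CV z a J g) :
    j ∈ CV z a J h := by
  have := S.cv_mul hg h1 (S.cv_of_mem hgh h1.1)
  rwa [mul_inv_cancel_left] at this

theorem cv_pow {g j : G} (hg : g ∈ cz z) (h1 : j ∈ CV z a J g) (k : ℕ) : j ∈ CV z a J (g ^ k) := by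
  induction k with
  | zero => rw [pow_zero]; exact S.cv_of_mem (one_mem _) h1.1
  | succ k ih => rw [pow_succ]; exact S.cv_mul (pow_mem hg k) ih h1

/-- Images are orthogonal to fixed points. -/
theorem iv_comm_cv {h c j : G} (hh : h ∈ cz z) (hc : c ∈ IV z a J h) (hj : j ∈ CV z a J h) :
    c * j = j * c := by
  obtain ⟨k, hk, w, hw, rfl⟩ := hc
  obtain ⟨hjJ, hjZ⟩ := hj
  suffices key : h * k * h⁻¹ * k⁻¹ * j = j * (h * k * h⁻¹ * k⁻¹) by
    rw [mul_assoc, ← S.inZ_comm hw hjJ, ← mul_assoc, key, mul_assoc]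
  set v := h * j * h⁻¹ * j⁻¹ with hv
  have hvK : ∀ u ∈ J, u * v = v * u := fun u hu => S.inZ_comm hjZ hu
  have hk' : h * k * h⁻¹ ∈ J := S.norm h hh k hk
  have ej : h * j * h⁻¹ = v * j := by rw [hv]; group
  by_cases hkj : k * j = j * k
  · have e : h * k * h⁻¹ * j = j * (h * k * h⁻¹) := by
      have e0 : h * k * h⁻¹ * (v * j) = v * j * (h * k * h⁻¹) := by
        rw [← ej]
        calc h * k * h⁻¹ * (h * j * h⁻¹) = h * (k * j) * h⁻¹ := by group
          _ = h * (j * k) * h⁻¹ := by rw [hkj]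
          _ = _ := by group
      rw [← mul_assoc, hvK _ hk', mul_assoc, mul_assoc v j] at e0
      exact mul_left_cancel e0
    calc h * k * h⁻¹ * k⁻¹ * j = h * k * h⁻¹ * (k⁻¹ * j * k) * k⁻¹ := by group
      _ = h * k * h⁻¹ * j * k⁻¹ := by rw [show k⁻¹ * j * k = j by
            rw [mul_assoc, ← hkj, inv_mul_cancel_left]]
      _ = _ := by rw [e]; group
  · have e : h * k * h⁻¹ * j = j * (h * k * h⁻¹) * z := by
      have e0 : h * k * h⁻¹ * (v * j) = v * j * (h * k * h⁻¹) * z := by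
        rw [← ej]
        calc h * k * h⁻¹ * (h * j * h⁻¹) = h * (k * j) * h⁻¹ := by group
          _ = h * (j * k * z) * h⁻¹ := by rw [S.anti hk hjJ hkj]
          _ = h * j * h⁻¹ * (h * k * h⁻¹) * (h * z * h⁻¹) := by group
          _ = _ := by rw [mem_cz_conj.1 hh]
      rw [← mul_assoc, hvK _ hk'] at e0
      simp only [mul_assoc] at e0 ⊢
      exact mul_left_cancel e0
    have e2 : k⁻¹ * j = j * k⁻¹ * z :=
      S.anti (inv_mem hk) hjJ fun h' => hkj (by
        calc k * j = k * (j * k⁻¹) * k := by group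
          _ = k * (k⁻¹ * j) * k := by rw [h']
          _ = j * k := by group)
    calc h * k * h⁻¹ * k⁻¹ * j = h * k * h⁻¹ * (k⁻¹ * j) := mul_assoc _ _ _
      _ = h * k * h⁻¹ * j * (k⁻¹ * z) := by rw [e2]; simp [mul_assoc]
      _ = j * (h * k * h⁻¹) * z * (z * k⁻¹) := by rw [e, S.z_cent k⁻¹ (inv_mem hk)]
      _ = j * (h * k * h⁻¹) * (z * z) * k⁻¹ := by simp [mul_assoc]
      _ = _ := by rw [S.zz, mul_one]; simp [mul_assoc]

theorem com_mem_iv {h k : G} (hk : k ∈ J) : h * k * h⁻¹ * k⁻¹ ∈ IV z a J h :=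
  ⟨k, hk, 1, Or.inl rfl, (mul_one _).symm⟩

theorem iv_le {h c : G} (hh : h ∈ cz z) (hc : c ∈ IV z a J h) : c ∈ J := by
  obtain ⟨k, hk, w, hw, rfl⟩ := hc
  exact mul_mem (mul_mem (S.norm h hh k hk) (inv_mem hk)) (S.inZ_mem hw)

/-- An involution modulo `J` fixes its images. -/
theorem iv_le_cv {h c : G} (hh : h ∈ cza z a) (h2 : h * h ∈ J) (hc : c ∈ IV z a J h) :
    c ∈ CV z a J h := by
  obtain ⟨k, hk, w, hw, rfl⟩ := hc
  refine (cvs S h).mul_mem ?_ (S.zs_le_cvs hh hw)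
  have hcJ : h * k * h⁻¹ * k⁻¹ ∈ J := mul_mem (S.norm h hh.1 k hk) (inv_mem hk)
  refine ⟨hcJ, ?_⟩
  set c := h * k * h⁻¹ * k⁻¹ with hc'
  have e1 : h * c * h⁻¹ * c = h * h * k * (h * h)⁻¹ * k⁻¹ := by rw [hc']; group
  have e2 : h * c * h⁻¹ * c⁻¹ = h * c * h⁻¹ * c * (c * c)⁻¹ := by group
  rw [e2, e1]
  rcases S.comJ h2 hk with e | e <;> rcases S.sq c hcJ with f | f <;> rw [e, f]
  · exact Or.inl (by simp)
  · exact Or.inr (Or.inl (by rw [S.zinv, one_mul]))
  · exact Or.inr (Or.inl (by simp))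
  · exact Or.inl (by rw [S.zinv, S.zz])

/-- the elements of `J` centralising `X` -/
theorem card_perp [Finite G] :
    ∀ (n : ℕ) (X : Subgroup G), 1024 - Nat.card X ≤ n → X ≤ J → zs S ≤ X →
      Nat.card (J ⊓ Subgroup.centralizer (X : Set G) : Subgroup G) * Nat.card X ≤ 4096 := by
  intro n
  induction n using Nat.strong_induction_on with
  | _ n ih =>
    intro X hn hX hzX
    by_cases hJ : J ≤ X
    · have h4 : (J ⊓ Subgroup.centralizer (X : Set G) : Subgroup G) ≤ zs S := fun q hq =>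
        S.cen q hq.1 fun j hj => (Subgroup.mem_centralizer_iff.1 hq.2 j (hJ hj)).symm
      have h5 := Subgroup.card_le_of_le h4
      rw [card_zs] at h5
      have h6 := Subgroup.card_le_of_le hX
      rw [S.card] at h6
      exact (Nat.mul_le_mul h5 h6)
    obtain ⟨k, hk, hk'⟩ := SetLike.not_le_iff_exists.1 hJ
    have hX' : X ⊔ Subgroup.zpowers k ≤ J := sup_le hX (Subgroup.zpowers_le.2 hk)
    have h2 : 2 * Nat.card X ≤ Nat.card (X ⊔ Subgroup.zpowers k : Subgroup G) :=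
      two_mul_card_le le_sup_left fun h => hk' (h (le_sup_right (a := X) (Subgroup.mem_zpowers k)))
    have hpos : 0 < Nat.card X := Nat.card_pos
    have hlt : Nat.card X < 1024 := by
      have := Subgroup.card_le_of_le hX'
      rw [S.card] at this
      omega
    have hrec := ih (1024 - Nat.card (X ⊔ Subgroup.zpowers k : Subgroup G)) (by omega)
      (X ⊔ Subgroup.zpowers k) le_rfl hX' (hzX.trans le_sup_left)
    have hC : Nat.card (J ⊓ Subgroup.centralizer (X : Set G) : Subgroup G) ≤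
        2 * Nat.card (J ⊓ Subgroup.centralizer ((X ⊔ Subgroup.zpowers k : Subgroup G) : Set G) :
          Subgroup G) := by
      have hiff : ∀ u ∈ (J ⊓ Subgroup.centralizer (X : Set G) : Subgroup G), u * k = k * u →
          u ∈ (J ⊓ Subgroup.centralizer ((X ⊔ Subgroup.zpowers k : Subgroup G) : Set G) :
            Subgroup G) := by
        intro u hu huk
        refine ⟨hu.1, ?_⟩
        have hle : X ⊔ Subgroup.zpowers k ≤ cz u :=
          sup_le (fun x hx => mem_cz.2 (Subgroup.mem_centralizer_iff.1 hu.2 x hx))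
            (Subgroup.zpowers_le.2 (mem_cz.2 huk.symm))
        exact Subgroup.mem_centralizer_iff.2 fun x hx => mem_cz.1 (hle hx)
      refine card_le_two_mul fun u hu hu' v hv hv' => hiff _ (mul_mem hu hv) ?_
      exact S.anti_mul hu.1 hv.1 hk (fun h => hu' (hiff u hu h)) fun h => hv' (hiff v hv h)
    calc Nat.card (J ⊓ Subgroup.centralizer (X : Set G) : Subgroup G) * Nat.card X
        ≤ 2 * Nat.card (J ⊓ Subgroup.centralizer ((X ⊔ Subgroup.zpowers k : Subgroup G) : Set G) :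
            Subgroup G) * Nat.card X := Nat.mul_le_mul_right _ hC
      _ = Nat.card (J ⊓ Subgroup.centralizer ((X ⊔ Subgroup.zpowers k : Subgroup G) : Set G) :
            Subgroup G) * (2 * Nat.card X) := by ring
      _ ≤ _ := (Nat.mul_le_mul_left _ h2).trans hrec

theorem card_perp_le [Finite G] {X : Subgroup G} (hX : X ≤ J) (hzX : zs S ≤ X) :
    Nat.card (J ⊓ Subgroup.centralizer (X : Set G) : Subgroup G) * Nat.card X ≤ 4096 :=
  S.card_perp _ X le_rfl hX hzX

/-- An elementary subgroup of `J` has order at most 64. -/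
theorem elem_le [Finite G] {X : Subgroup G} (hX : X ≤ J) (h1 : ∀ u ∈ X, u * u = 1) :
    Nat.card X ≤ 64 := by
  have hab : ∀ u ∈ X, ∀ v ∈ X, u * v = v * u := by
    intro u hu v hv
    calc u * v = (u * v)⁻¹ := (inv_eq_of_mul_eq_one_right (h1 _ (mul_mem hu hv))).symm
      _ = v⁻¹ * u⁻¹ := mul_inv_rev _ _
      _ = _ := by rw [inv_eq_of_mul_eq_one_right (h1 u hu), inv_eq_of_mul_eq_one_right (h1 v hv)]
  have hY : X ⊔ zs S ≤ J := sup_le hX S.zs_le
  have hc : X ⊔ zs S ≤ J ⊓ Subgroup.centralizer ((X ⊔ zs S : Subgroup G) : Set G) := by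
    refine le_inf hY ?_
    rw [Subgroup.le_centralizer_iff]
    refine sup_le (fun u hu => ?_) fun u hu => ?_
    · have h0 : X ⊔ zs S ≤ cz u := sup_le (fun v hv => mem_cz.2 (hab v hv u hu))
        fun w hw => mem_cz.2 (S.inZ_comm hw (hX hu)).symm
      exact Subgroup.mem_centralizer_iff.2 fun v hv => mem_cz.1 (h0 hv)
    · exact Subgroup.mem_centralizer_iff.2 fun v hv => S.inZ_comm hu (hY hv)
  have h := S.card_perp_le hY le_sup_right
  have h2 := Subgroup.card_le_of_le hc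
  have h3 := Subgroup.card_le_of_le (le_sup_left : X ≤ X ⊔ zs S)
  by_contra h4
  push Not at h4
  have : 65 * 65 ≤ 4096 := by
    refine le_trans ?_ h
    exact Nat.mul_le_mul (by omega) (by omega)
  norm_num at this

/-- the preimage in `J` of the image of `h - 1` -/
def ivs {h : G} (hh : h ∈ cza z a) : Subgroup G where
  carrier := IV z a J h
  one_mem' := ⟨1, one_mem _, 1, Or.inl rfl, by simp⟩
  mul_mem' := fun {c d} hc hd => by
    obtain ⟨k, hk, w, hw, rfl⟩ := hc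
    obtain ⟨l, hl, v, hv, rfl⟩ := hd
    have hlJ : h * l * h⁻¹ * l⁻¹ ∈ J := mul_mem (S.norm h hh.1 l hl) (inv_mem hl)
    obtain ⟨u, hu, e⟩ : ∃ u, InZ z a u ∧
        k * (h * l * h⁻¹ * l⁻¹) * k⁻¹ = h * l * h⁻¹ * l⁻¹ * u := by
      rcases S.comm k hk _ hlJ with e | e
      · exact ⟨1, Or.inl rfl, by rw [mul_one]; exact e⟩
      · exact ⟨z, Or.inr (Or.inl rfl), e⟩
    refine ⟨k * l, mul_mem hk hl, u * (w * v), S.inZ_mul hu (S.inZ_mul hw hv), ?_⟩
    have e2 : h * (k * l) * h⁻¹ * (k * l)⁻¹ =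
        h * k * h⁻¹ * k⁻¹ * (k * (h * l * h⁻¹ * l⁻¹) * k⁻¹) := by group
    rw [e2, e]
    calc h * k * h⁻¹ * k⁻¹ * w * (h * l * h⁻¹ * l⁻¹ * v)
        = h * k * h⁻¹ * k⁻¹ * (w * (h * l * h⁻¹ * l⁻¹)) * v := by simp [mul_assoc]
      _ = h * k * h⁻¹ * k⁻¹ * (h * l * h⁻¹ * l⁻¹) * (u * u) * (w * v) := by
          rw [← S.inZ_comm hw hlJ, S.inZ_sq hu, mul_one]; simp [mul_assoc]
      _ = h * k * h⁻¹ * k⁻¹ * (h * l * h⁻¹ * l⁻¹ * u) * (u * (w * v)) := by simp [mul_assoc]
  inv_mem' := fun {c} hc => by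
    have hcJ := S.iv_le hh.1 hc
    obtain ⟨k, hk, w, hw, e⟩ := hc
    rcases S.sq c hcJ with f | f
    · exact ⟨k, hk, w, hw, (inv_eq_of_mul_eq_one_right f).trans e⟩
    · refine ⟨k, hk, w * z, S.inZ_mul hw (Or.inr (Or.inl rfl)), ?_⟩
      rw [← mul_assoc, ← e]
      exact inv_eq_of_mul_eq_one_right (by rw [← mul_assoc, f, S.zz])

/-- The image is the perp of the fixed points. -/
theorem mem_iv [Finite G] {h c : G} (hh : h ∈ cza z a) (hc : c ∈ J)
    (hp : ∀ j ∈ CV z a J h, c * j = j * c) : c ∈ IV z a J h := by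
  let I : Subgroup G := ivs S hh
  let D : Subgroup G := cvs S h
  let R : Subgroup G := J ⊓ Subgroup.centralizer (D : Set G)
  have hIR : I ≤ R := fun u hu => ⟨S.iv_le hh.1 hu,
    Subgroup.mem_centralizer_iff.2 fun j hj => (S.iv_comm_cv hh.1 hu hj).symm⟩
  have hzI : zs S ≤ I := fun w hw => ⟨1, one_mem _, w, hw, by simp⟩
  have hinj : Function.Injective (fun q : ↥J ⧸ D.subgroupOf J =>
      ((⟨h * (q.out : G) * h⁻¹ * (q.out : G)⁻¹, com_mem_iv S q.out.2⟩ : ↥I) :
        ↥I ⧸ (zs S).subgroupOf I)) := by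
    intro q r hqr
    have h1 := QuotientGroup.eq.1 hqr
    rw [Subgroup.mem_subgroupOf] at h1
    have h2 : InZ z a ((h * (q.out : G) * h⁻¹ * (q.out : G)⁻¹)⁻¹ *
        (h * (r.out : G) * h⁻¹ * (r.out : G)⁻¹)) := h1
    rw [← QuotientGroup.out_eq' q, ← QuotientGroup.out_eq' r, QuotientGroup.eq,
      Subgroup.mem_subgroupOf]
    refine ⟨mul_mem (inv_mem q.out.2) r.out.2, ?_⟩
    simp only [Subgroup.coe_mul, Subgroup.coe_inv]
    rw [show h * ((q.out : G)⁻¹ * (r.out : G)) * h⁻¹ * ((q.out : G)⁻¹ * (r.out : G))⁻¹ =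
        (q.out : G)⁻¹ * ((h * (q.out : G) * h⁻¹ * (q.out : G)⁻¹)⁻¹ *
          (h * (r.out : G) * h⁻¹ * (r.out : G)⁻¹)) * (q.out : G)⁻¹⁻¹ by group,
      S.inZ_fix (S.le_cza (inv_mem q.out.2)) h2]
    exact h2
  have hcard := Nat.card_le_card_of_injective _ hinj
  have c1 : Nat.card (↥J ⧸ D.subgroupOf J) * Nat.card D = 1024 := by
    rw [← S.card, Subgroup.card_eq_card_quotient_mul_card_subgroup (D.subgroupOf J),
      Nat.card_congr (Subgroup.subgroupOfEquivOfLe (S.cvs_le h)).toEquiv]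
  have c2 : Nat.card (↥I ⧸ (zs S).subgroupOf I) * 4 = Nat.card I := by
    rw [Subgroup.card_eq_card_quotient_mul_card_subgroup ((zs S).subgroupOf I),
      Nat.card_congr (Subgroup.subgroupOfEquivOfLe hzI).toEquiv, card_zs]
  have c3 : Nat.card R * Nat.card D ≤ 4096 := S.card_perp_le (S.cvs_le h) (S.zs_le_cvs hh)
  have c4 : 4096 ≤ Nat.card I * Nat.card D := by
    rw [← c2]
    calc 4096 = Nat.card (↥J ⧸ D.subgroupOf J) * Nat.card D * 4 := by rw [c1]
      _ ≤ Nat.card (↥I ⧸ (zs S).subgroupOf I) * Nat.card D * 4 := by gcongr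
      _ = _ := by ring
  have hD : 0 < Nat.card D := Nat.card_pos
  have : I = R := Subgroup.eq_of_le_of_card_ge hIR (Nat.le_of_mul_le_mul_right (c3.trans c4) hD)
  have hmem : c ∈ R := ⟨hc, Subgroup.mem_centralizer_iff.2 fun j hj => (hp j hj).symm⟩
  rw [← this] at hmem
  exact hmem

/-- An involution fixing the perp of a singular non-central element lies in `J`. -/
theorem mem_of_fix_hyperplane [Finite G] {d v : G} (hd : d ∈ cza z a)
    (hv : v ∈ J) (hv2 : v * v = 1) (hvZ : ¬ InZ z a v) (hfix : ∀ j ∈ PJ J v, d * j = j * d) :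
    d ∈ J := by
  let P := PJ J v
  have hPJ : Nat.card J ≤ 2 * Nat.card P :=
    card_le_two_mul fun u hu hu' w hw hw' => ⟨mul_mem hu hw, mem_cz.2
      (S.anti_mul hu hw hv (fun h => hu' ⟨hu, mem_cz.2 h⟩) fun h => hw' ⟨hw, mem_cz.2 h⟩)⟩
  rw [S.card] at hPJ
  have hzP : zs S ≤ P := fun w hw => ⟨S.inZ_mem hw, mem_cz.2 (S.inZ_comm hw hv).symm⟩
  let R : Subgroup G := J ⊓ Subgroup.centralizer (P : Set G)
  have hR : Nat.card R * Nat.card P ≤ 4096 := S.card_perp_le inf_le_left hzP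
  let V : Subgroup G := zs S ⊔ Subgroup.zpowers v
  have hVR : V ≤ R := sup_le (fun w hw => ⟨S.inZ_mem hw, Subgroup.mem_centralizer_iff.2
      fun j hj => S.inZ_comm hw hj.1⟩)
    (Subgroup.zpowers_le.2 ⟨hv, Subgroup.mem_centralizer_iff.2 fun j hj => mem_cz.1 hj.2⟩)
  have hV : 8 ≤ Nat.card V := by
    have := two_mul_card_le (le_sup_left : zs S ≤ V)
      fun h => hvZ (h (le_sup_right (a := zs S) (Subgroup.mem_zpowers v)))
    rwa [card_zs] at this
  have hRV : R ≤ V := (Subgroup.eq_of_le_of_card_ge hVR (by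
    by_contra hlt
    push Not at hlt
    have : 9 * 512 ≤ 4096 := le_trans (Nat.mul_le_mul (by omega) (by omega)) hR
    norm_num at this)).ge
  let A : Subgroup G :=
    { carrier := {u | InZ z a u ∨ InZ z a (v * u)}
      one_mem' := Or.inl (Or.inl rfl)
      mul_mem' := by
        rintro u w (hu | hu) (hw | hw)
        · exact Or.inl (S.inZ_mul hu hw)
        · refine Or.inr ?_
          rw [← mul_assoc, S.inZ_comm hu hv, mul_assoc]
          exact S.inZ_mul hu hw
        · refine Or.inr ?_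
          rw [← mul_assoc]
          exact S.inZ_mul hu hw
        · refine Or.inl ?_
          have huv : v * u * v = v * (v * u) := (S.inZ_comm hu hv).symm
          have := S.inZ_mul hu hw
          rwa [← mul_assoc, huv, ← mul_assoc v v u, hv2, one_mul] at this
      inv_mem' := by
        rintro u (hu | hu)
        · exact Or.inl (by rw [S.inZ_inv hu]; exact hu)
        · refine Or.inr ?_
          have hv' : v⁻¹ = v := inv_eq_of_mul_eq_one_right hv2
          have hu2 := S.inZ_inv hu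
          rw [mul_inv_rev, hv'] at hu2
          have hc : v * (v * u) = v * u * v := S.inZ_comm hu hv
          rw [← mul_assoc, hv2, one_mul] at hc
          have e : v * u⁻¹ = v * u := by
            calc v * u⁻¹ = v * (u⁻¹ * v) * v := by simp [mul_assoc, hv2]
              _ = v * (v * u) * v := by rw [hu2]
              _ = v * v * (u * v) := by simp [mul_assoc]
              _ = v * u * v * v := by rw [hv2, one_mul]; exact congrArg (· * v) hc
              _ = v * u := by rw [mul_assoc, hv2, mul_one]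
          rw [e]
          exact hu }
  have hVA : V ≤ A := sup_le (fun w hw => Or.inl hw)
    (Subgroup.zpowers_le.2 (Or.inr (by rw [hv2]; exact Or.inl rfl)))
  refine S.mem_of_stab hd fun k hk => ?_
  have hcJ : d * k * d⁻¹ * k⁻¹ ∈ J := mul_mem (S.norm d hd.1 k hk) (inv_mem hk)
  have hmem : d * k * d⁻¹ * k⁻¹ ∈ A := hVA (hRV ⟨hcJ, Subgroup.mem_centralizer_iff.2 fun j hj =>
    (S.iv_comm_cv hd.1 (com_mem_iv S hk) (S.pj_le_cvs d ⟨hj.1, mem_cz.2 (hfix j hj).symm⟩)).symm⟩)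
  rcases hmem with hw | hw
  · refine ⟨_, hw, ?_⟩
    rw [S.inZ_comm hw hk, inv_mul_cancel_right]
  · exfalso
    set w := v * (d * k * d⁻¹ * k⁻¹) with hwdef
    have e1 : d * k * d⁻¹ = v * w * k := by rw [hwdef, ← mul_assoc, hv2, one_mul, inv_mul_cancel_right]
    have hkv : ¬ k * v = v * k := by
      intro h
      have h1 : d * k * d⁻¹ = k := mul_inv_eq_iff_eq_mul.2 (hfix k ⟨hk, mem_cz.2 h⟩)
      have h2 : v * w = 1 := mul_right_cancel (b := k) (by rw [← e1, h1, one_mul])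
      exact hvZ (by rw [eq_inv_of_mul_eq_one_left h2, S.inZ_inv hw]; exact hw)
    have hd' : d * (k * k) * d⁻¹ = k * k := by
      rcases S.sq k hk with f | f <;> rw [f]
      · simp
      · exact mem_cz_conj.1 hd.1
    have hwk : w * k = k * w := (S.inZ_comm hw hk).symm
    have hwv : w * v = v * w := (S.inZ_comm hw hv).symm
    have e2 : d * (k * k) * d⁻¹ = k * k * z := by
      calc d * (k * k) * d⁻¹ = d * k * d⁻¹ * (d * k * d⁻¹) := by group
        _ = v * w * k * (v * w * k) := by rw [e1]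
        _ = v * (w * k) * (v * (w * k)) := by simp [mul_assoc]
        _ = v * (k * w) * (v * (k * w)) := by rw [hwk]
        _ = v * k * (w * v) * (k * w) := by simp [mul_assoc]
        _ = v * k * (v * w) * (k * w) := by rw [hwv]
        _ = v * (k * v) * (w * k) * w := by simp [mul_assoc]
        _ = v * (v * k * z) * (k * w) * w := by rw [S.anti hk hv hkv, hwk]
        _ = v * v * k * (z * k) * (w * w) := by simp [mul_assoc]
        _ = _ := by rw [hv2, S.inZ_sq hw, ← S.z_cent k hk, one_mul, mul_one]; simp [mul_assoc]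
    rw [hd'] at e2
    exact S.z_ne (left_eq_mul.1 e2)

end Hyp

end Cfsg.Agent.Lib.Fi22Recog95
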