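import Cfsg.Agent.Lib.Fi22Recog95.Fusion
import Cfsg.Agent.Lib.Fi22Recog95.Congr

/-!
Recognition of Fi22: when `C(z)` moves `a` and `z` is not isolated in `C(a)`, the centraliser of `a` has
no complement to `⟨a⟩`.
-/

set_option autoImplicit false
set_option linter.unusedSectionVars false

namespace Cfsg.Agent.Lib.Fi22Recog95

variable {G : Type*} [Group G]

/-- `C(z)` moves `a`, `C(a) = ⟨a⟩ × L`, and `z` is linked over `a`. -/
structure Split (z a : G) (J H1 L : Subgroup G) : Prop where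
  ctx : Ctx z a J H1
  moves : ¬ cz z ≤ cz a
  links : LFacts z a J H1
  le : L ≤ cz a
  a_not : a ∉ L
  norm : ∀ u ∈ cz a, ∀ v ∈ L, u * v * u⁻¹ ∈ L
  cover : ∀ u ∈ cz a, u ∈ L ∨ a * u ∈ L

/-- a conjugate of `z` linked to it over `a` -/
def Link (z a y : G) : Prop := ∃ g ∈ cz a, g * z * g⁻¹ = y ∧ y ≠ z ∧ Commute z y

namespace Split

variable {z a : G} {J H1 L : Subgroup G} (T : Split z a J H1 L)
include T

theorem comm_mem {u v : G} (hu : u ∈ cz a) (hv : v ∈ cz a) : u * v * u⁻¹ * v⁻¹ ∈ L := by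
  have hS := T.ctx.hyp
  have red : ∀ w, w ∈ cz a → ∃ l ∈ L, ∃ i : G, (i = 1 ∨ i = a) ∧ w = i * l := by
    intro w hw
    rcases T.cover w hw with h | h
    · exact ⟨w, h, 1, Or.inl rfl, (one_mul _).symm⟩
    · exact ⟨a * w, h, a, Or.inr rfl, by rw [← mul_assoc, hS.aa, one_mul]⟩
  obtain ⟨l, hl, i, hi, rfl⟩ := red u hu
  obtain ⟨m, hm, k, hk, rfl⟩ := red v hv
  have hcen : ∀ j : G, j = 1 ∨ j = a → ∀ w ∈ cz a, Commute j w := by
    rintro j (rfl | rfl) w hw
    exacts [Commute.one_left w, (mem_cz.1 hw).symm]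
  have hmc := T.le hm
  have hlc := T.le hl
  have hk' : k ∈ cz a := by
    rcases hk with rfl | rfl
    · exact one_mem _
    · exact mem_cz.2 rfl
  have e : i * l * (k * m) * (i * l)⁻¹ * (k * m)⁻¹ = l * m * l⁻¹ * m⁻¹ := by
    have c1 : Commute i (l * (k * m) * l⁻¹) :=
      hcen i hi _ (mul_mem (mul_mem hlc (mul_mem hk' hmc)) (inv_mem hlc))
    have c2 : Commute k l := hcen k hk l hlc
    calc i * l * (k * m) * (i * l)⁻¹ * (k * m)⁻¹
        = i * (l * (k * m) * l⁻¹) * i⁻¹ * (m⁻¹ * k⁻¹) := by group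
      _ = l * (k * m) * l⁻¹ * (m⁻¹ * k⁻¹) := by rw [c1.eq, mul_inv_cancel_right]
      _ = (l * k) * m * l⁻¹ * m⁻¹ * k⁻¹ := by group
      _ = k * (l * m * l⁻¹ * m⁻¹) * k⁻¹ := by rw [← c2.eq]; group
      _ = _ := by
          rw [(hcen k hk _ (mul_mem (mul_mem (mul_mem hlc hmc) (inv_mem hlc)) (inv_mem hmc))).eq,
            mul_inv_cancel_right]
  rw [e]
  exact mul_mem (mul_mem (mul_mem hl hm) (inv_mem hl)) (inv_mem hm)

theorem z_mem : z ∈ L := by
  have hS := T.ctx.hyp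
  obtain ⟨x, hx, y, hy, hxy⟩ := hS.nonab
  have h := T.comm_mem (hS.le_cza hx).2 (hS.le_cza hy).2
  rwa [hxy, hS.z_cent y hy, mul_inv_cancel_right] at h

theorem inZ_mem_L {w : G} (hw : InZ z a w) (h : w ∈ L) : w = 1 ∨ w = z := by
  rcases hw with rfl | rfl | rfl | rfl
  · exact Or.inl rfl
  · exact Or.inr rfl
  · exact absurd h T.a_not
  · refine absurd ?_ T.a_not
    have := mul_mem (inv_mem T.z_mem) h
    rwa [inv_mul_cancel_left] at this

/-- the derived group of `C(Z)` -/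
def der (_T : Split z a J H1 L) : Subgroup G := ⁅cza z a, cza z a⁆

theorem der_le : T.der ≤ L := Subgroup.commutator_le.2 fun _ hu _ hv => T.comm_mem hu.2 hv.2

theorem der_conj {s d : G} (hs : s ∈ cz z) (hd : d ∈ T.der) : s * d * s⁻¹ ∈ T.der := by
  have hS := T.ctx.hyp
  have h : T.der.map (MulAut.conj s).toMonoidHom ≤ T.der := by
    show (⁅cza z a, cza z a⁆).map _ ≤ _
    rw [Subgroup.map_commutator]
    have hle : (cza z a).map (MulAut.conj s).toMonoidHom ≤ cza z a := by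
      rintro _ ⟨u, hu, rfl⟩
      exact hS.cza_normal hs hu
    exact Subgroup.commutator_mono hle hle
  exact h ⟨d, hd, rfl⟩

theorem z_der : z ∈ T.der := by
  have hS := T.ctx.hyp
  obtain ⟨x, hx, y, hy, hxy⟩ := hS.nonab
  have h : x * y * x⁻¹ * y⁻¹ ∈ T.der := Subgroup.commutator_mem_commutator (hS.le_cza hx) (hS.le_cza hy)
  rwa [hxy, hS.z_cent y hy, mul_inv_cancel_right] at h

/-- The natural module. -/
theorem nat [Finite G] : NatFacts z a J H1 :=
  T.ctx.mod.cases.resolve_right fun N => T.ctx.six_not_linked N T.links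

theorem eq_h1 : H1 = cza z a := by
  refine le_antisymm T.ctx.mod.inner.le fun d hd => by_contra fun hd1 => ?_
  obtain ⟨s, hs, hsa⟩ := SetLike.not_le_iff_exists.1 T.moves
  have hs1 : s ∉ H1 := fun h => hsa (T.ctx.h1_le h).2
  have h2 := T.ctx.mod.inner.prod s hs d hd.1 hs1 hd1
  exact hsa (by simpa using (cz a).mul_mem (T.ctx.h1_le h2).2 ((cz a).inv_mem hd.2))

variable [Finite G]

/-- `L ∩ C(Z)` is the derived group of `C(Z)`. -/
theorem mem_der {u : G} (hu : u ∈ cza z a) (huL : u ∈ L) : u ∈ T.der := by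
  have hS := T.ctx.hyp
  have hI := T.ctx.mod.inner
  obtain ⟨n, h, hg, -⟩ := T.nat.five
  -- the derived group is not inside `J`
  have hDJ : ¬ T.der ≤ J := by
    intro hle
    have hn := hI.le hg.n_mem
    have hh := hI.le hg.h_mem
    have e : ∀ i : ℕ, EqJ J (n ^ i * h * (n ^ i)⁻¹) h := fun i =>
      hle (Subgroup.commutator_mem_commutator (pow_mem hn i) hh)
    have e1 : EqJ J (n * h * n⁻¹) h := by simpa using e 1
    have hnc : ∀ i : ℕ, n ^ i ∈ cz z := fun i => pow_mem hn.1 i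
    have hc : ∀ i : ℕ, n ^ i * h * (n ^ i)⁻¹ ∈ cz z := fun i =>
      mul_mem (mul_mem (hnc i) hh.1) (inv_mem (hnc i))
    have hn1 : n * h * n⁻¹ ∈ cz z := mul_mem (mul_mem hn.1 hh.1) (inv_mem hn.1)
    have h2 := hS.eqJ_mul (mul_mem hh.1 hn1) (hS.eqJ_mul hh.1 (Hyp.eqJ_refl h) e1) (e 2)
    have h3 := hS.eqJ_mul (mul_mem (mul_mem hh.1 hn1) (hc 2)) h2 (e 3)
    have h4 := hS.eqJ_mul (mul_mem (mul_mem (mul_mem hh.1 hn1) (hc 2)) (hc 3)) h3 (e 4)
    have h5 : h * h * h * h * h ∈ J := by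
      have := mul_mem (inv_mem h4) hg.prod
      simp only [mul_inv_rev, inv_inv, mul_assoc, inv_mul_cancel_left] at this ⊢
      simpa [mul_assoc] using this
    have h6 := mul_mem (mul_mem (inv_mem hg.h_inv.1) (inv_mem hg.h_inv.1)) h5
    exact hg.h_inv.2 (by simpa [mul_assoc] using h6)
  -- so it covers `C(Z)` modulo `J`
  have hnormJ : ∀ g ∈ cza z a, ∀ v ∈ J, g * v * g⁻¹ ∈ J := fun g hg v hv => hS.norm g hg.1 v hv
  have hN : T.der ⊔ J = H1 := by
    refine (hI.simple _ le_sup_right (sup_le ?_ hI.ge) ?_).resolve_left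
      fun h => hDJ (le_sup_left.trans h.le)
    · exact (Subgroup.commutator_le.2 fun x hx y hy =>
        mul_mem (mul_mem (mul_mem hx hy) (inv_mem hx)) (inv_mem hy)).trans T.eq_h1.ge
    · intro g hg' v hv
      have hle : (T.der ⊔ J).map (MulAut.conj g).toMonoidHom ≤ T.der ⊔ J := by
        rw [Subgroup.map_sup]
        refine sup_le_sup ?_ ?_
        · rintro _ ⟨d, hd, rfl⟩; exact T.der_conj (T.ctx.h1_le hg').1 hd
        · rintro _ ⟨d, hd, rfl⟩; exact hS.norm g (T.ctx.h1_le hg').1 d hd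
      exact hle ⟨v, hv, rfl⟩
  -- and contains `J ∩ L`
  have hJL : ∀ j ∈ J, j ∈ L → j ∈ T.der := by
    intro j hj hjL
    have hn := hI.le hg.n_mem
    obtain ⟨k, hk, w, hw, e⟩ := hS.mem_iv hn hj fun v hv => by
      rw [hS.inZ_comm (hg.free hv) hj]
    have hd : n * k * n⁻¹ * k⁻¹ ∈ T.der := Subgroup.commutator_mem_commutator hn (hS.le_cza hk)
    have hwL : w ∈ L := by
      have := mul_mem (inv_mem (T.der_le hd)) hjL
      rwa [e, inv_mul_cancel_left] at this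
    rw [e]
    rcases T.inZ_mem_L hw hwL with rfl | rfl
    · rwa [mul_one]
    · exact mul_mem hd T.z_der
  have hu1 : u ∈ T.der ⊔ J := hN.ge (T.eq_h1.ge hu)
  have hnD : ∀ d ∈ T.der, d ∈ Subgroup.normalizer (J : Set G) := by
    intro d hd
    have hd' : d ∈ cza z a := by
      have : d ∈ H1 := hN ▸ Subgroup.mem_sup_left hd
      exact hI.le this
    refine Subgroup.mem_normalizer_iff.2 fun v => ⟨hnormJ d hd' v, fun h => ?_⟩
    simpa [mul_assoc] using hnormJ d⁻¹ (inv_mem hd') _ h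
  have hu2 : u ∈ ((T.der ⊔ J : Subgroup G) : Set G) := hu1
  rw [Subgroup.coe_mul_of_left_le_normalizer_right _ _ hnD] at hu2
  obtain ⟨d, hd, j, hj, rfl⟩ := hu2
  refine mul_mem hd (hJL j hj ?_)
  have := mul_mem (inv_mem (T.der_le hd)) huL
  rwa [inv_mul_cancel_left] at this

omit [Finite G] in
theorem sq_mem {u : G} (hu : u ∈ cz a) : u * u ∈ L := by
  rcases T.cover u hu with h | h
  · exact mul_mem h h
  · have e : u * u = a * u * (a * u) := by
      calc u * u = a * a * (u * u) := by rw [T.ctx.hyp.aa, one_mul]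
        _ = a * (a * u) * u := by simp [mul_assoc]
        _ = a * (u * a) * u := by rw [mem_cz.1 hu]
        _ = _ := by simp [mul_assoc]
    rw [e]; exact mul_mem h h

/-- A linked conjugate lies in the derived group over a transvection and is fixed by its fixed space. -/
theorem link_data {y : G} (hy : Link z a y) : y ∈ H1 ∧ y ∉ J ∧ y * y = 1 ∧ y ∈ T.der ∧
    Nat.card (CV z a J y) = 256 ∧ ∀ j ∈ CV z a J y, y * j = j * y := by
  have hS := T.ctx.hyp
  obtain ⟨g, hg, rfl, hne, hc⟩ := hy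
  obtain ⟨hH, hJ, h256⟩ := T.links.link g hg hne hc
  set y := g * z * g⁻¹ with hy
  have hyy : y * y = 1 := sq_conj hS.zz
  have hsub : {j | j ∈ J ∧ Commute y j} ⊆ CV z a J y := fun j hj =>
    hS.pj_le_cvs y ⟨hj.1, mem_cz.2 hj.2.eq.symm⟩
  have hle := Nat.card_mono (Set.toFinite _) hsub
  have hcard := T.ctx.cv_card_eq T.nat hH ⟨by rw [hyy]; exact one_mem _, hJ⟩ (by omega)
  have heq : {j | j ∈ J ∧ Commute y j} = CV z a J y := Set.eq_of_subset_of_ncard_le hsub (by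
    rw [← Nat.card_coe_set_eq, ← Nat.card_coe_set_eq, h256, hcard]) (Set.toFinite _)
  refine ⟨hH, hJ, hyy, T.mem_der (T.ctx.h1_le hH) ?_, hcard, fun j hj => (heq.ge hj).2.eq⟩
  rw [hy]; exact T.norm g hg z T.z_mem

omit [Finite G] in
theorem link_conj {u y : G} (hu : u ∈ cza z a) (hy : Link z a y) : Link z a (u * y * u⁻¹) := by
  obtain ⟨g, hg, rfl, hne, hc⟩ := hy
  have hz := mem_cz_conj.1 hu.1
  refine ⟨u * g, mul_mem hu.2 hg, by group, fun h => hne ?_, ?_⟩
  · exact (MulAut.conj u).injective (h.trans hz.symm)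
  · calc z * (u * (g * z * g⁻¹) * u⁻¹) = u * z * u⁻¹ * (u * (g * z * g⁻¹) * u⁻¹) := by rw [hz]
      _ = u * (z * (g * z * g⁻¹)) * u⁻¹ := by group
      _ = u * (g * z * g⁻¹ * z) * u⁻¹ := by rw [hc.eq]
      _ = u * (g * z * g⁻¹) * u⁻¹ * (u * z * u⁻¹) := by group
      _ = _ := by rw [hz]

/-- Linked conjugates commuting modulo `J` commute. -/
theorem link_comm {y₁ y₂ : G} (h1 : Link z a y₁) (h2 : Link z a y₂) (hc : CommMod J y₁ y₂) :
    Commute y₁ y₂ := by
  have hS := T.ctx.hyp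
  obtain ⟨g₁, hg₁, rfl, -, -⟩ := h1
  obtain ⟨g₂, hg₂, rfl, -, -⟩ := h2
  set g := g₁⁻¹ * g₂ with hg
  have hga : g ∈ cz a := mul_mem (inv_mem hg₁) hg₂
  have e : g₁ * (g * z * g⁻¹) * g₁⁻¹ = g₂ * z * g₂⁻¹ := by rw [hg]; group
  by_cases hzg : Commute z (g * z * g⁻¹)
  · rw [← e]
    exact hzg.map (MulAut.conj g₁).toMonoidHom
  · have h6 := T.links.braid g hga hzg
    set u := g₁ * z * g₁⁻¹ with hu
    set v := g₂ * z * g₂⁻¹ with hv
    have hu2 : u * u = 1 := sq_conj hS.zz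
    have hv2 : v * v = 1 := sq_conj hS.zz
    have huv : u * v = g₁ * (z * (g * z * g⁻¹)) * g₁⁻¹ := by rw [← e, hu]; group
    have h6' : (u * v) ^ 6 = 1 := by rw [huv, conj_pow, h6]; group
    have hui : u⁻¹ = u := inv_eq_of_mul_eq_one_right hu2
    have hvi : v⁻¹ = v := inv_eq_of_mul_eq_one_right hv2
    have hq : u * v * (u * v) ∈ J := by
      unfold CommMod at hc
      rwa [hui, hvi, show u * v * u * v = u * v * (u * v) by group] at hc
    have h1' : u * v * (u * v) = 1 := by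
      have hodd : (u * v * (u * v)) ^ 3 = 1 := by rw [← pow_two, ← pow_mul]; exact h6'
      exact hS.eq_one_of_odd hq ((show Odd 3 by decide).of_dvd_nat (orderOf_dvd_of_pow_eq_one hodd))
    show u * v = v * u
    calc u * v = (u * v)⁻¹ := (inv_eq_of_mul_eq_one_right h1').symm
      _ = v * u := by rw [mul_inv_rev, hui, hvi]

/-- An element exchanging `a` and `z a` takes linked conjugates out of the linked class. -/
theorem not_link_swap {s y : G} (hs : s ∈ cz z) (hsa : s ∉ cz a) (hy : Link z a y) :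
    ¬ Link z a (s * y * s⁻¹) := by
  have hS := T.ctx.hyp
  obtain ⟨g₀, hg₀, rfl, -, -⟩ := hy
  rintro ⟨g, hg, hgy, hne, -⟩
  have hza : s * a * s⁻¹ = z * a := (hS.conj_a hs).resolve_left fun e => hsa (mem_cz_conj.2 e)
  have hsz := mem_cz_conj.1 hs
  set g₁ := s * g₀ * s⁻¹ with hg₁
  have hg₁za : g₁ * (z * a) * g₁⁻¹ = z * a := by
    calc g₁ * (z * a) * g₁⁻¹ = g₁ * (s * a * s⁻¹) * g₁⁻¹ := by rw [hza]
      _ = s * (g₀ * a * g₀⁻¹) * s⁻¹ := by rw [hg₁]; group
      _ = _ := by rw [mem_cz_conj.1 hg₀, hza]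
  have hg₁z : g₁ * z * g₁⁻¹ = s * (g₀ * z * g₀⁻¹) * s⁻¹ := by
    calc g₁ * z * g₁⁻¹ = g₁ * (s * z * s⁻¹) * g₁⁻¹ := by rw [hsz]
      _ = _ := by rw [hg₁]; group
  set f := g⁻¹ * g₁ with hf
  have hfz : f ∈ cz z := mem_cz_conj.2 (by
    calc f * z * f⁻¹ = g⁻¹ * (g₁ * z * g₁⁻¹) * g := by rw [hf]; group
      _ = g⁻¹ * (g * z * g⁻¹) * g := by rw [hg₁z, hgy]
      _ = z := by group)
  have e : f * (z * a) * f⁻¹ = g⁻¹ * z * g * a := by
    calc f * (z * a) * f⁻¹ = g⁻¹ * (g₁ * (z * a) * g₁⁻¹) * g := by rw [hf]; group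
      _ = g⁻¹ * z * g * (g⁻¹ * a * g) := by rw [hg₁za]; group
      _ = _ := by rw [show g⁻¹ * a * g = a by rw [mul_assoc, ← mem_cz.1 hg, inv_mul_cancel_left]]
  rw [hS.conj_za hfz] at e
  rcases hS.conj_a hfz with f' | f' <;> rw [f'] at e
  · refine hne ?_
    have h3 : g⁻¹ * z * g = z := (mul_right_cancel e).symm
    rw [← hgy]
    calc g * z * g⁻¹ = g * (g⁻¹ * z * g) * g⁻¹ := by rw [h3]
      _ = z := by group
  · rw [← mul_assoc z z a, hS.zz, one_mul] at e
    have h1 : g⁻¹ * z * g = 1 := right_eq_mul.1 e |>.symm ▸ rfl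
    have h2 : z = g * (g⁻¹ * z * g) * g⁻¹ := by group
    exact hS.z_ne (by rw [h2, h1]; group)

/-- Every transvection coset contains a linked conjugate. -/
theorem exists_link {h : G} (hh : h ∈ H1) (hi : Inv2 J h) (hc : Nat.card (CV z a J h) = 256) :
    ∃ y, Link z a y ∧ EqJ J y h := by
  have hS := T.ctx.hyp
  obtain ⟨g, hg, hne, hcm⟩ := T.links.ne
  have hl : Link z a (g * z * g⁻¹) := ⟨g, hg, rfl, hne, hcm⟩
  obtain ⟨hH, hJ, hyy, -, hcard, -⟩ := T.link_data hl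
  obtain ⟨r, hr, hrh⟩ := T.nat.t_conj _ hH h hh ⟨by rw [hyy]; exact one_mem _, hJ⟩ hi hcard hc
  refine ⟨_, T.link_conj (T.ctx.h1_le hr) hl, ?_⟩
  unfold EqJ
  have h2 := mul_mem hrh (inv_mem hi.1)
  rwa [show r * (g * z * g⁻¹) * r⁻¹ * h * (h * h)⁻¹ = r * (g * z * g⁻¹) * r⁻¹ * h⁻¹ by group] at h2

theorem exists_swap : ∃ s, s ∈ cz z ∧ s ∉ cz a := SetLike.not_le_iff_exists.1 T.moves

/-- The image of a linked conjugate, or that times `z`, is linked. -/
theorem link_or {y' : G} (hy' : y' ∈ H1) (hJ : y' ∉ J) (h2 : y' * y' = 1) (hL : y' ∈ L)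
    (hc : Nat.card (CV z a J y') = 256) (hall : ∀ j ∈ CV z a J y', y' * j = j * y') :
    Link z a y' ∨ Link z a (y' * z) := by
  have hS := T.ctx.hyp
  obtain ⟨y, hy, hyy'⟩ := T.exists_link hy' ⟨by rw [h2]; exact one_mem _, hJ⟩ hc
  obtain ⟨hH, -, hsq, hD, -, hyall⟩ := T.link_data hy
  have hyz := (T.ctx.h1_le hH).1
  set e := y * y' with he
  have heJ : e ∈ J := by
    have h3 : y * y'⁻¹ ∈ J := hyy'
    rwa [inv_eq_of_mul_eq_one_right h2] at h3
  have hcv : CV z a J y = CV z a J y' := hS.cv_eqJ hyz (T.ctx.h1_le hy').1 hyy'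
  have hep : ∀ j ∈ CV z a J y, e * j = j * e := by
    intro j hj
    have h3 := hall j (hcv ▸ hj)
    rw [he, mul_assoc, h3, ← mul_assoc, hyall j hj, mul_assoc]
  obtain ⟨k, hk, w, hw, hew⟩ := hS.mem_iv (T.ctx.h1_le hH) heJ hep
  have hy'e : y' = k * y * k⁻¹ * w := by
    calc y' = y * e := by rw [he, ← mul_assoc, hsq, one_mul]
      _ = y * (y * k * y⁻¹ * k⁻¹ * w) := by rw [hew]
      _ = y * y * (k * y⁻¹ * k⁻¹) * w := by simp [mul_assoc]
      _ = _ := by rw [hsq, inv_eq_of_mul_eq_one_right hsq, one_mul]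
  have hl := T.link_conj (hS.le_cza hk) hy
  have hwL : w ∈ L := by
    have := mul_mem (inv_mem (T.der_le (T.link_data hl).2.2.2.1)) hL
    rwa [hy'e, inv_mul_cancel_left] at this
  rcases T.inZ_mem_L hw hwL with rfl | rfl
  · left; rw [hy'e, mul_one]; exact hl
  · right; rw [hy'e, mul_assoc, hS.zz, mul_one]; exact hl

/-- The swap sends a linked conjugate to `z` times one. -/
theorem swap_link {s y : G} (hs : s ∈ cz z) (hsa : s ∉ cz a) (hy : Link z a y) :
    Link z a (s * y * s⁻¹ * z) := by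
  have hS := T.ctx.hyp
  obtain ⟨hH, hJ, hsq, hD, hcard, hall⟩ := T.link_data hy
  refine (T.link_or (T.ctx.mod.inner.norm s hs y hH) (fun h => hJ ?_) (sq_conj hsq)
    (T.der_le (T.der_conj hs hD)) (by rw [hS.card_cv_conj hs]; exact hcard) ?_).resolve_left
      (T.not_link_swap hs hsa hy)
  · simpa [mul_assoc] using hS.norm s⁻¹ (inv_mem hs) _ h
  · intro j hj
    have h3 := hS.mem_cv_conj (inv_mem hs) hj
    rw [show s⁻¹ * (s * y * s⁻¹) * s⁻¹⁻¹ = y by group] at h3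
    calc s * y * s⁻¹ * j = s * (y * (s⁻¹ * j * s⁻¹⁻¹)) * s⁻¹ := by group
      _ = s * (s⁻¹ * j * s⁻¹⁻¹ * y) * s⁻¹ := by rw [hall _ h3]
      _ = _ := by group

/-- No two linked conjugates differ by `z`. -/
theorem link_z {y : G} (hy : Link z a y) : ¬ Link z a (y * z) := by
  intro h
  obtain ⟨s, hs, hsa⟩ := T.exists_swap
  have hS := T.ctx.hyp
  have h1 := T.swap_link hs hsa h
  have e : s * (y * z) * s⁻¹ * z = s * y * s⁻¹ := by
    calc s * (y * z) * s⁻¹ * z = s * y * s⁻¹ * (s * z * s⁻¹ * z) := by group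
      _ = _ := by rw [mem_cz_conj.1 hs, hS.zz, mul_one]
  rw [e] at h1
  exact T.not_link_swap hs hsa hy h1

end Split

end Cfsg.Agent.Lib.Fi22Recog95
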