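import Cfsg.Agent.Lib.Fi22Recog95.Unlinked
import Cfsg.Agent.Lib.Fi22Recog95.Classes

/-!
Recognition of Fi22: every conjugate commuting with `z` is linked to it over `a`.
-/

set_option autoImplicit false
set_option linter.unusedSectionVars false

namespace Cfsg.Agent.Lib.Fi22Recog95

variable {G : Type*} [Group G] [Finite G] {z a : G} {J H1 : Subgroup G}

/-- The fusion context from the hypotheses on `H` and the module. -/
theorem Ctx.mk' (S : Hyp z a J) (M : ModFacts z a J H1) : Ctx z a J H1 :=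
  ⟨S, M, S.not_conj_a, S.not_conj_za, fun hI => S.not_conj_a_za hI⟩

/-- A commuting conjugate inside a centraliser where `z` is isolated is `z`. -/
theorem KFacts.eq {t g : G} (K : KFacts z t) (zz : z * z = 1) (hg : g ∈ cz t)
    (hc : g * z * g⁻¹ * z = z * (g * z * g⁻¹)) : g * z * g⁻¹ = z := by
  have hx := sq_conj (g := g) zz
  have ho := K g hg
  have h2 : (z * (g * z * g⁻¹)) ^ 2 = 1 := by
    rw [pow_two]
    calc z * (g * z * g⁻¹) * (z * (g * z * g⁻¹)) = z * (g * z * g⁻¹ * z) * (g * z * g⁻¹) := by group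
      _ = z * z * (g * z * g⁻¹ * (g * z * g⁻¹)) := by rw [hc]; group
      _ = 1 := by rw [zz, hx, one_mul]
  have h1 : orderOf (z * (g * z * g⁻¹)) = 1 := by
    rcases (Nat.dvd_prime Nat.prime_two).1 (orderOf_dvd_of_pow_eq_one h2) with h | h
    · exact h
    · rw [h] at ho; exact absurd ho (by decide)
  have h3 := eq_inv_of_mul_eq_one_right (orderOf_eq_one_iff.1 h1)
  rwa [inv_eq_of_mul_eq_one_right zz] at h3

namespace Ctx

variable (X : Ctx z a J H1) {g : G}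
include X

/-- Inner pairs are linked. -/
theorem linked_of_inner (C : Comp z a J H1) (hc : g * z * g⁻¹ * z = z * (g * z * g⁻¹))
    (hne : g * z * g⁻¹ ≠ z) (hfix : g * z * g⁻¹ ∈ cz a) (hcd : g * a * g⁻¹ ∈ cz z) :
    LFacts z a J H1 ∧ cz z ≤ cz a ∧ g * a * g⁻¹ = a := by
  have S := X.hyp
  -- replacing `g` by `g s` exchanges the companions
  have hswap : ¬ cz z ≤ cz a → ∃ s, s * a * s⁻¹ = z * a ∧ s * (z * a) * s⁻¹ = a ∧
      g * s * z * (g * s)⁻¹ = g * z * g⁻¹ := by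
    intro hI
    obtain ⟨s, hs, hsa⟩ := SetLike.not_le_iff_exists.1 hI
    have e := (S.conj_a hs).resolve_left fun e => hsa (mem_cz_conj.2 e)
    refine ⟨s, e, by rw [S.conj_za hs, e, ← mul_assoc, S.zz, one_mul], ?_⟩
    calc g * s * z * (g * s)⁻¹ = g * (s * z * s⁻¹) * g⁻¹ := by group
      _ = _ := by rw [mem_cz_conj.1 hs]
  have hza : g * (z * a) * g⁻¹ = z * a → False := fun h =>
    hne (C.kza.eq S.zz (mem_cz_conj.2 h) hc)
  by_cases hu : InZ z a (g * a * g⁻¹)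
  · rcases hu with h | h | h | h
    · exact absurd (conj_eq_one_iff.1 h) S.a_ne
    · exact absurd (eq_conj_iff.1 h) (X.nc_a _)
    · rcases C.kla with K | L
      · exact absurd (K.eq S.zz (mem_cz_conj.2 h) hc) hne
      · refine ⟨L, ?_, h⟩
        by_contra hI
        exact hne ((C.swap hI).eq S.zz (mem_cz_conj.2 h) hc)
    · by_cases hI : cz z ≤ cz a
      · exact absurd h (X.nab hI g)
      · obtain ⟨s, -, hs2, hs3⟩ := hswap hI
        refine absurd ?_ hne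
        rw [← hs3] at hc ⊢
        refine C.kza.eq S.zz (mem_cz_conj.2 ?_) hc
        calc g * s * (z * a) * (g * s)⁻¹ = g * (s * (z * a) * s⁻¹) * g⁻¹ := by group
          _ = z * a := by rw [hs2, h]
  by_cases hv : InZ z a (g * (z * a) * g⁻¹)
  · rcases hv with h | h | h | h
    · exact absurd (conj_eq_one_iff.1 h) S.za_ne
    · exact absurd (eq_conj_iff.1 h) (X.nc_za _)
    · by_cases hI : cz z ≤ cz a
      · exact absurd (eq_conj_iff.1 h) (X.nab hI _)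
      · obtain ⟨s, hs1, -, hs3⟩ := hswap hI
        refine absurd ?_ hne
        rw [← hs3] at hc ⊢
        refine (C.swap hI).eq S.zz (mem_cz_conj.2 ?_) hc
        calc g * s * a * (g * s)⁻¹ = g * (s * a * s⁻¹) * g⁻¹ := by group
          _ = a := by rw [hs1, h]
    · exact (hza h).elim
  exact (X.no_ipair C ⟨hc, hne, hfix, hcd, hu, hv⟩).elim

/-- If `z` fixes the companions of `x`, then `x` fixes `a`. -/
theorem fix_of_cd (C : Comp z a J H1) (hc : g * z * g⁻¹ * z = z * (g * z * g⁻¹))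
    (hcd : g * a * g⁻¹ ∈ cz z) : g * z * g⁻¹ ∈ cz a := by
  by_contra hfix
  have S := X.hyp
  by_cases hI : cz z ≤ cz a
  · exact hfix (hI (mem_cz.2 hc))
  have Ka := C.swap hI
  have hxz : g * z * g⁻¹ ∈ cz z := mem_cz.2 hc
  have hxa := (S.conj_a hxz).resolve_left fun e => hfix (mem_cz_conj.2 e)
  have hx2 : g * z * g⁻¹ * (g * z * g⁻¹) = 1 := sq_conj S.zz
  -- some companion commutes with `a`
  obtain ⟨t, Kt, het⟩ : ∃ t, KFacts z t ∧ a ∈ cz (g * t * g⁻¹) := by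
    rcases S.conj_a hcd with e | e
    · exact ⟨a, Ka, mem_cz_symm (mem_cz_conj.2 e)⟩
    · refine ⟨z * a, C.kza, mem_cz_symm (mem_cz_conj.2 ?_)⟩
      calc g * (z * a) * g⁻¹ * a * (g * (z * a) * g⁻¹)⁻¹
          = g * z * g⁻¹ * (g * a * g⁻¹ * a * (g * a * g⁻¹)⁻¹) * (g * z * g⁻¹)⁻¹ := by group
        _ = z * (z * a) := by rw [e, S.conj_za hxz, hxa]
        _ = a := by rw [← mul_assoc, S.zz, one_mul]
  have ho := Kt.conj het
  have hax : a * (g * z * g⁻¹) * a⁻¹ = z * (g * z * g⁻¹) := by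
    have e : g * z * g⁻¹ * a = z * a * (g * z * g⁻¹) := mul_inv_eq_iff_eq_mul.1 hxa
    rw [mul_inv_eq_iff_eq_mul, mul_assoc z (g * z * g⁻¹) a, e]
    simp [← mul_assoc, S.zz]
  rw [hax, ← mul_assoc, hc, mul_assoc, hx2, mul_one, orderOf_eq_prime (p := 2) (by rw [pow_two, S.zz]) S.z_ne] at ho
  exact absurd ho (by decide)

/-- If `x` fixes `a`, then `z` fixes the companions of `x`. -/
theorem cd_of_fix (C : Comp z a J H1) (hc : g * z * g⁻¹ * z = z * (g * z * g⁻¹))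
    (hfix : g * z * g⁻¹ ∈ cz a) : g * a * g⁻¹ ∈ cz z := by
  have h := X.fix_of_cd C (g := g⁻¹) (conj_comm_symm hc) (conj_mem_cz hfix)
  have h' := conj_mem_cz h
  rwa [inv_inv] at h'

/-- No commuting conjugate exchanges `a` and `z a`. -/
theorem fix_all (C : Comp z a J H1) (hc : g * z * g⁻¹ * z = z * (g * z * g⁻¹)) :
    g * z * g⁻¹ ∈ cz a := by
  have S := X.hyp
  by_contra hfix
  have hxz : g * z * g⁻¹ ∈ cz z := mem_cz.2 hc
  have hI : ¬ cz z ≤ cz a := fun h => hfix (h hxz)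
  set x := g * z * g⁻¹ with hx
  have hx2 : x * x = 1 := sq_conj S.zz
  have hxi : x⁻¹ = x := inv_eq_of_mul_eq_one_right hx2
  have hx' : g⁻¹ * z * g⁻¹⁻¹ ∈ cz z := mem_cz.2 (conj_comm_symm hc)
  have hx'a : g⁻¹ * z * g⁻¹⁻¹ ∉ cz a := fun h => by
    have h' := X.cd_of_fix C (g := g⁻¹) (conj_comm_symm hc) h
    have h'' := conj_mem_cz h'
    rw [inv_inv] at h''
    exact hfix h''
  -- elements commuting with `x` inside `J` are involutions
  have hel : ∀ j ∈ PJ J x, j * j = 1 := by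
    intro j hj
    rcases S.sq j hj.1 with e | e
    · exact e
    · refine absurd ?_ hx'a
      have h1 : g⁻¹ * j * g ∈ cz z := cz_conj hj.2
      rw [show g⁻¹ * z * g⁻¹⁻¹ = g⁻¹ * j * g * (g⁻¹ * j * g) by rw [← e]; group]
      by_cases h2 : g⁻¹ * j * g ∈ cz a
      · exact mul_mem h2 h2
      · exact (S.mul_mem_cza h1 h1 h2 h2).2
  -- commutators of order at most two are `1` or `z`
  have hq : ∀ k ∈ J, x * k * x⁻¹ * k⁻¹ * (x * k * x⁻¹ * k⁻¹) = 1 →
      x * k * x⁻¹ * k⁻¹ = 1 ∨ x * k * x⁻¹ * k⁻¹ = z := by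
    intro k hk h2
    set y := k * x * k⁻¹ with hy
    have hkz : k * z * k⁻¹ = z := mem_cz_conj.1 (S.le hk)
    have hyz : y * z = z * y := by
      calc y * z = k * x * k⁻¹ * (k * z * k⁻¹) := by rw [hkz]
        _ = k * (x * z) * k⁻¹ := by group
        _ = k * (z * x) * k⁻¹ := by rw [hc]
        _ = k * z * k⁻¹ * (k * x * k⁻¹) := by group
        _ = _ := by rw [hkz]
    have hq' : x * k * x⁻¹ * k⁻¹ = x * y := by rw [hy, hxi]; group
    rw [hq'] at h2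
    have hy2 : y * y = 1 := sq_conj hx2
    have hxy : x * y = y * x := by
      calc x * y = (x * y)⁻¹ := (inv_eq_of_mul_eq_one_right h2).symm
        _ = y * x := by rw [mul_inv_rev, hxi, inv_eq_of_mul_eq_one_right hy2]
    -- the conjugate of `x` by `k` or by `a k`
    obtain ⟨g₀, hg₀, hg₀fix, hg₀z⟩ : ∃ g₀, (g₀ * z * g₀⁻¹ = y ∨ g₀ * z * g₀⁻¹ = y * z) ∧
        g⁻¹ * (g₀ * z * g₀⁻¹) * g ∈ cz a ∧ g₀ * z * g₀⁻¹ * x = x * (g₀ * z * g₀⁻¹) := by
      have hgy : g⁻¹ * y * g ∈ cz z := cz_conj (mem_cz.2 hxy.symm : y ∈ cz x)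
      have h1 : k * g * z * (k * g)⁻¹ = y := by rw [hy, hx]; group
      by_cases h : g⁻¹ * y * g ∈ cz a
      · exact ⟨k * g, Or.inl h1, by rw [h1]; exact h, by rw [h1]; exact hxy.symm⟩
      · have hay : a * y * a⁻¹ = y * z := by
          have hka : k * a * k⁻¹ = a := mem_cz_conj.1 (S.le_cza hk).2
          have hxa := (S.conj_a hxz).resolve_left fun e => hfix (mem_cz_conj.2 e)
          have hya : y * a * y⁻¹ = z * a := by
            calc y * a * y⁻¹ = k * x * k⁻¹ * (k * a * k⁻¹) * (k * x * k⁻¹)⁻¹ := by rw [hka]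
              _ = k * (x * a * x⁻¹) * k⁻¹ := by group
              _ = k * z * k⁻¹ * (k * a * k⁻¹) := by rw [hxa]; group
              _ = _ := by rw [hkz, hka]
          rw [mul_inv_eq_iff_eq_mul] at hya ⊢
          calc a * y = z * (z * a * y) := by
                rw [mul_assoc z a y, ← mul_assoc z z (a * y), S.zz, one_mul]
            _ = z * (y * a) := by rw [hya]
            _ = _ := by rw [← mul_assoc, ← hyz]
        have h2 : a * k * g * z * (a * k * g)⁻¹ = y * z := by rw [← hay, hy, hx]; group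
        refine ⟨a * k * g, Or.inr h2, ?_, ?_⟩
        · rw [h2]
          have h4 := (S.mul_mem_cza hgy hx' h hx'a).2
          rwa [show g⁻¹ * y * g * (g⁻¹ * z * g⁻¹⁻¹) = g⁻¹ * (y * z) * g by group] at h4
        · rw [h2, mul_assoc, ← hc, ← mul_assoc, ← hxy, mul_assoc]
    have hconj : g⁻¹ * g₀ * z * (g⁻¹ * g₀)⁻¹ = g⁻¹ * (g₀ * z * g₀⁻¹) * g := by group
    have hcomm : g⁻¹ * g₀ * z * (g⁻¹ * g₀)⁻¹ * z = z * (g⁻¹ * g₀ * z * (g⁻¹ * g₀)⁻¹) := by
      rw [hconj]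
      exact mem_cz.1 (cz_conj (g := g) (mem_cz.2 hg₀z))
    have hfix' : g⁻¹ * g₀ * z * (g⁻¹ * g₀)⁻¹ ∈ cz a := by rw [hconj]; exact hg₀fix
    have heq : g₀ * z * g₀⁻¹ = x := by
      by_cases hne : g⁻¹ * g₀ * z * (g⁻¹ * g₀)⁻¹ = z
      · rw [hconj] at hne
        calc g₀ * z * g₀⁻¹ = g * (g⁻¹ * (g₀ * z * g₀⁻¹) * g) * g⁻¹ := by group
          _ = x := by rw [hne]
      · exact absurd (X.linked_of_inner C hcomm hne hfix' (X.cd_of_fix C hcomm hfix')).2.1 hI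
    rw [hq']
    rcases hg₀ with e | e <;> rw [e] at heq
    · left; rw [heq, hx2]
    · right
      rw [← heq, mul_assoc, ← hyz, ← mul_assoc, hy2, one_mul]
  -- the commutator map has image of order at most two modulo `⟨z⟩`
  have hcom : ∀ u ∈ J, ∀ v ∈ J, ∃ ε, (ε = 1 ∨ ε = z) ∧ x * (u * v) * x⁻¹ * (u * v)⁻¹ =
      x * u * x⁻¹ * u⁻¹ * (x * v * x⁻¹ * v⁻¹) * ε := by
    intro u hu v hv
    have hvJ : x * v * x⁻¹ * v⁻¹ ∈ J := mul_mem (S.norm x hxz v hv) (inv_mem hv)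
    have e : x * (u * v) * x⁻¹ * (u * v)⁻¹ =
        x * u * x⁻¹ * u⁻¹ * (u * (x * v * x⁻¹ * v⁻¹) * u⁻¹) := by group
    rcases S.comm u hu _ hvJ with f | f
    · exact ⟨1, Or.inl rfl, by rw [e, f, mul_one]⟩
    · exact ⟨z, Or.inr rfl, by rw [e, f, mul_assoc (x * u * x⁻¹ * u⁻¹)]⟩
  have h1z : ∀ ε, (ε = 1 ∨ ε = z) → ∀ δ, (δ = 1 ∨ δ = z) → ε * δ = 1 ∨ ε * δ = z := by
    rintro ε (rfl | rfl) δ (rfl | rfl)
    · exact Or.inl (one_mul _)
    · exact Or.inr (one_mul _)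
    · exact Or.inr (mul_one _)
    · exact Or.inl S.zz
  let X0 : Subgroup G :=
    { carrier := {k | k ∈ J ∧ (x * k * x⁻¹ * k⁻¹ = 1 ∨ x * k * x⁻¹ * k⁻¹ = z)}
      one_mem' := ⟨one_mem _, Or.inl (by group)⟩
      mul_mem' := by
        rintro u v ⟨hu, hu'⟩ ⟨hv, hv'⟩
        refine ⟨mul_mem hu hv, ?_⟩
        obtain ⟨ε, hε, e⟩ := hcom u hu v hv
        rw [e]
        exact h1z _ (h1z _ hu' _ hv') _ hε
      inv_mem' := by
        rintro u ⟨hu, hu'⟩
        refine ⟨inv_mem hu, ?_⟩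
        rw [show x * u⁻¹ * x⁻¹ * u⁻¹⁻¹ = u⁻¹ * (x * u * x⁻¹ * u⁻¹)⁻¹ * u by group]
        rcases hu' with f | f <;> rw [f]
        · left; group
        · right; rw [S.zinv, mul_assoc, ← S.z_cent u hu, inv_mul_cancel_left] }
  have hX0 : Nat.card J ≤ 2 * Nat.card X0 := by
    refine card_le_two_mul fun u hu hu' v hv hv' => ⟨mul_mem hu hv, ?_⟩
    have hsq : ∀ w ∈ J, w ∉ X0 → x * w * x⁻¹ * w⁻¹ * (x * w * x⁻¹ * w⁻¹) = z := by
      intro w hw hw'
      have hwJ : x * w * x⁻¹ * w⁻¹ ∈ J := mul_mem (S.norm x hxz w hw) (inv_mem hw)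
      exact (S.sq _ hwJ).resolve_left fun h => hw' ⟨hw, hq w hw h⟩
    set q₁ := x * u * x⁻¹ * u⁻¹ with hq₁
    set q₂ := x * v * x⁻¹ * v⁻¹ with hq₂
    have hq₂J : q₂ ∈ J := mul_mem (S.norm x hxz v hv) (inv_mem hv)
    have hq₁J : q₁ ∈ J := mul_mem (S.norm x hxz u hu) (inv_mem hu)
    have hcv : q₂ ∈ CV z a J x := by
      refine ⟨hq₂J, ?_⟩
      have e1 : x * q₂ * x⁻¹ * q₂ = x * x * v * (x * x)⁻¹ * v⁻¹ := by rw [hq₂]; group
      rw [show x * q₂ * x⁻¹ * q₂⁻¹ = x * q₂ * x⁻¹ * q₂ * (q₂ * q₂)⁻¹ by group, e1, hx2,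
        one_mul, inv_one, mul_one, mul_inv_cancel, one_mul, hsq v hv hv', S.zinv]
      exact Or.inr (Or.inl rfl)
    have hcm : q₁ * q₂ = q₂ * q₁ := S.iv_comm_cv hxz (Hyp.com_mem_iv S hu) hcv
    obtain ⟨ε, hε, e⟩ := hcom u hu v hv
    refine hq _ (mul_mem hu hv) ?_
    have hεJ : InZ z a ε := hε.elim (fun h => Or.inl h) fun h => Or.inr (Or.inl h)
    rw [e]
    calc q₁ * q₂ * ε * (q₁ * q₂ * ε) = q₁ * q₂ * (ε * (q₁ * q₂)) * ε := by simp [mul_assoc]
      _ = q₁ * q₂ * (q₁ * q₂ * ε) * ε := by rw [← S.inZ_comm hεJ (mul_mem hq₁J hq₂J)]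
      _ = q₁ * (q₂ * q₁) * q₂ * (ε * ε) := by simp [mul_assoc]
      _ = q₁ * q₁ * (q₂ * q₂) * (ε * ε) := by rw [← hcm]; simp [mul_assoc]
      _ = 1 := by rw [hsq u hu hu', hsq v hv hv', S.inZ_sq hεJ, S.zz, one_mul]
  have hPJ : Nat.card X0 ≤ 2 * Nat.card (PJ J x) := by
    refine card_le_two_mul fun u hu hu' v hv hv' => ⟨mul_mem hu.1 hv.1, mem_cz.2 ?_⟩
    have hz' : ∀ w ∈ X0, w ∉ PJ J x → x * w * x⁻¹ = z * w := fun w hw hw' =>
      mul_inv_eq_iff_eq_mul.1 (hw.2.resolve_left fun h =>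
        hw' ⟨hw.1, mem_cz.2 (mul_inv_eq_iff_eq_mul.1 (mul_inv_eq_one.1 h)).symm⟩)
    refine (mul_inv_eq_iff_eq_mul.1 ?_).symm
    calc x * (u * v) * x⁻¹ = x * u * x⁻¹ * (x * v * x⁻¹) := by group
      _ = z * u * (z * v) := by rw [hz' u hu hu', hz' v hv hv']
      _ = z * (u * z) * v := by simp [mul_assoc]
      _ = u * v := by rw [S.z_cent u hu.1, ← mul_assoc, S.zz, one_mul]
  have h64 : Nat.card (PJ J x) ≤ 64 := S.elem_le inf_le_left hel
  rw [S.card] at hX0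
  omega

/-- Every conjugate commuting with `z` is linked to it over `a`. -/
theorem linked (C : Comp z a J H1) (hc : g * z * g⁻¹ * z = z * (g * z * g⁻¹))
    (hne : g * z * g⁻¹ ≠ z) : LFacts z a J H1 ∧ cz z ≤ cz a ∧ g * a * g⁻¹ = a :=
  X.linked_of_inner C hc hne (X.fix_all C hc) (X.cd_of_fix C hc (X.fix_all C hc))

/-- If `z` is isolated in `C(a)` and in `C(z a)`, it is isolated in `G`. -/
theorem isolated (Ka : KFacts z a) (Kb : KFacts z (z * a))
    (hc : g * z * g⁻¹ * z = z * (g * z * g⁻¹)) : g * z * g⁻¹ = z := by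
  by_contra hne
  obtain ⟨-, -, h⟩ := X.linked ⟨Kb, Or.inl Ka, fun _ => Ka⟩ hc hne
  exact hne (Ka.eq X.hyp.zz (mem_cz_conj.2 h) hc)

end Ctx

end Cfsg.Agent.Lib.Fi22Recog95
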