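import Cfsg.Agent.Lib.Fi22Recog95.Setting

/-!
Recognition of Fi22: what the fusion analysis needs from the module `J / Z(J)` of `H / J` and from
the centralisers of the two other involutions of `Z(J)`.
-/

set_option autoImplicit false

namespace Cfsg.Agent.Lib.Fi22Recog95

variable {G : Type*} [Group G]

/-- membership in the centre `{1, z, a, z a}` of the core -/
def InZ (z a w : G) : Prop := w = 1 ∨ w = z ∨ w = a ∨ w = z * a

/-- the preimage in `J` of the fixed points of `h` on `J / Z` -/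
def CV (z a : G) (J : Subgroup G) (h : G) : Set G := {j | j ∈ J ∧ InZ z a (h * j * h⁻¹ * j⁻¹)}

/-- the preimage in `J` of the image of `h - 1` on `J / Z` -/
def IV (z a : G) (J : Subgroup G) (h : G) : Set G :=
  {j | ∃ k ∈ J, ∃ w, InZ z a w ∧ j = h * k * h⁻¹ * k⁻¹ * w}

/-- `h` is an involution modulo `J` -/
def Inv2 (J : Subgroup G) (h : G) : Prop := h * h ∈ J ∧ h ∉ J

/-- the commutator of `g` and `h` lies in `J` -/
def CommMod (J : Subgroup G) (g h : G) : Prop := g * h * g⁻¹ * h⁻¹ ∈ J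

/-- The subgroup `H1` of `C(z) ∩ C(a)` over the simple subgroup of index at most two of `C(z) / J`. -/
structure Inner (z a : G) (J H1 : Subgroup G) : Prop where
  le : H1 ≤ cza z a
  ge : J ≤ H1
  norm : ∀ g ∈ cz z, ∀ h ∈ H1, g * h * g⁻¹ ∈ H1
  prod : ∀ g ∈ cz z, ∀ h ∈ cz z, g ∉ H1 → h ∉ H1 → g * h ∈ H1
  card : Nat.card H1 = 1024 * 25920
  simple : ∀ N : Subgroup G, J ≤ N → N ≤ H1 → (∀ g ∈ H1, ∀ n ∈ N, g * n * g⁻¹ ∈ N) → N = J ∨ N = H1

/-- `n` has order five without fixed points and the transvection cosets `n^i h n^-i J` form a line: they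
commute and their product is trivial. -/
structure GoodFive (z a : G) (J H1 : Subgroup G) (n h : G) : Prop where
  n_mem : n ∈ H1
  n_five : n ^ 5 = 1
  n_ne : n ≠ 1
  free : CV z a J n ⊆ {w | InZ z a w}
  h_mem : h ∈ H1
  h_inv : Inv2 J h
  h_card : Nat.card (CV z a J h) = 256
  comm : ∀ i : ℕ, CommMod J h (n ^ i * h * (n ^ i)⁻¹)
  prod : h * (n * h * n⁻¹) * (n ^ 2 * h * (n ^ 2)⁻¹) * (n ^ 3 * h * (n ^ 3)⁻¹) *
    (n ^ 4 * h * (n ^ 4)⁻¹) ∈ J

/-- The natural module: fixed points of involutions, and elements without fixed points. -/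
structure NatFacts (z a : G) (J H1 : Subgroup G) : Prop where
  size : ∀ h ∈ H1, Inv2 J h → Nat.card (CV z a J h) = 256 ∨ Nat.card (CV z a J h) = 64
  /-- the fixed space of a rank two involution is totally singular and equals its image -/
  r_elem : ∀ h ∈ H1, Inv2 J h → Nat.card (CV z a J h) = 64 →
    (∀ j ∈ CV z a J h, j * j = 1) ∧ CV z a J h ⊆ IV z a J h
  /-- a fixed point free element centralising a rank two involution and no other one with the same
  fixed space -/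
  r_fix : ∀ h ∈ H1, Inv2 J h → Nat.card (CV z a J h) = 64 →
    ∃ n ∈ H1, Odd (orderOf n) ∧ CV z a J n ⊆ {w | InZ z a w} ∧ CommMod J n h ∧
      ∀ g ∈ H1, Inv2 J g → Nat.card (CV z a J g) = 64 → CV z a J h ⊆ CV z a J g → CommMod J n g →
        g * h ∈ J
  t_fix : ∀ h ∈ H1, Inv2 J h → Nat.card (CV z a J h) = 256 →
    ∃ n ∈ H1, Odd (orderOf n) ∧ CV z a J n ⊆ {w | InZ z a w} ∧ CommMod J n h
  /-- half of the fixed space determines a transvection -/
  t_rigid : ∀ h ∈ H1, Inv2 J h → Nat.card (CV z a J h) = 256 → ∀ g ∈ H1, Inv2 J g →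
    128 ≤ Nat.card (CV z a J h ∩ CV z a J g : Set G) → g * h ∈ J
  t_conj : ∀ h ∈ H1, ∀ k ∈ H1, Inv2 J h → Inv2 J k → Nat.card (CV z a J h) = 256 →
    Nat.card (CV z a J k) = 256 → ∃ g ∈ H1, g * h * g⁻¹ * k ∈ J
  t_prod : ∀ h ∈ H1, ∀ k ∈ H1, ∀ l ∈ H1, Inv2 J h → Inv2 J k → Inv2 J l →
    Nat.card (CV z a J h) = 256 → Nat.card (CV z a J k) = 256 → Nat.card (CV z a J l) = 256 →
    CommMod J h k → h * k * l ∉ J
  /-- the lines of an element of order five are permuted transitively by its normaliser -/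
  five : ∃ n h, GoodFive z a J H1 n h ∧ ∀ h', GoodFive z a J H1 n h' →
    ∃ r ∈ H1, ∃ k i : ℕ, r * n * r⁻¹ * (n ^ k)⁻¹ ∈ J ∧
      r * h' * r⁻¹ * (n ^ i * h * (n ^ i)⁻¹)⁻¹ ∈ J
  /-- an outer involution is semilinear: it fixes few vectors of the fixed space of an inner one -/
  outer : ∀ g ∈ cza z a, g ∉ H1 → g * g ∈ J → ∀ h ∈ H1, Inv2 J h →
    Nat.card (CV z a J g ∩ CV z a J h : Set G) ^ 2 ≤ 4 * Nat.card (CV z a J h)

/-- The sum of the six-dimensional module and a plane. -/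
structure SixFacts (z a : G) (J H1 : Subgroup G) : Prop where
  size : ∀ h ∈ H1, Inv2 J h → Nat.card (CV z a J h) = 256
  four : ∀ g ∈ cza z a, Inv2 J (g * g) →
    Nat.card (CV z a J g) ≤ 128 ∧ (g ∈ H1 → Nat.card (CV z a J g) ≤ 64)
  /-- an outer element of order four centralises no other involution on half of its square's fixed space -/
  four_comm : ∀ g ∈ cza z a, Inv2 J (g * g) → ∀ h ∈ H1, Inv2 J h → CommMod J g h →
    128 ≤ Nat.card (CV z a J g ∩ CV z a J h : Set G) → g * g * h ∈ J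
  /-- a non-singular vector fixed by the whole centraliser -/
  triv : ∃ e ∈ J, e * e = z ∧ ∀ h ∈ cza z a, InZ z a (h * e * h⁻¹ * e⁻¹)
  /-- an inner involution fixing much of the fixed space of an outer one fixes one of its non-singular images -/
  outer : ∀ d ∈ cza z a, d ∉ H1 → d * d ∈ J → ∀ x ∈ H1, Inv2 J x → CommMod J d x →
    128 ≤ Nat.card (CV z a J d ∩ CV z a J x : Set G) → ∃ v ∈ IV z a J d, v ∈ CV z a J x ∧ v * v = z
  sing : ∀ h ∈ H1, Inv2 J h → (∀ j ∈ IV z a J h, j * j = 1) →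
    ∃ n ∈ H1, Odd (orderOf n) ∧ CommMod J n h ∧ ∀ j ∈ IV z a J h, j ∈ CV z a J n → InZ z a j

/-- What is known about the module. -/
structure ModFacts (z a : G) (J H1 : Subgroup G) : Prop where
  inner : Inner z a J H1
  /-- an inner involution moves its fixed points by `z` at most -/
  split : ∀ h ∈ H1, h * h ∈ J → ∀ j ∈ CV z a J h,
    h * j * h⁻¹ * j⁻¹ = 1 ∨ h * j * h⁻¹ * j⁻¹ = z
  cases : NatFacts z a J H1 ∨ SixFacts z a J H1

/-- `z` is isolated in `C(t)`: a product with a conjugate there has odd order. -/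
def KFacts (z t : G) : Prop := ∀ g ∈ cz t, Odd (orderOf (z * (g * z * g⁻¹)))

/-- `C(t) / ⟨t⟩` is U6(2), possibly extended: the conjugates of `z` commuting with it lie over
transvections, the others braid with it. -/
structure LFacts (z t : G) (J H1 : Subgroup G) : Prop where
  link : ∀ g ∈ cz t, g * z * g⁻¹ ≠ z → Commute z (g * z * g⁻¹) →
    g * z * g⁻¹ ∈ H1 ∧ g * z * g⁻¹ ∉ J ∧
      Nat.card ({j | j ∈ J ∧ Commute (g * z * g⁻¹) j} : Set G) = 256
  braid : ∀ g ∈ cz t, ¬ Commute z (g * z * g⁻¹) → (z * (g * z * g⁻¹)) ^ 6 = 1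
  ne : ∃ g ∈ cz t, g * z * g⁻¹ ≠ z ∧ Commute z (g * z * g⁻¹)

end Cfsg.Agent.Lib.Fi22Recog95
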