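import Cfsg.Agent.Lib.Fi22Recog95.Pair

/-!
Recognition of Fi22: no unlinked commuting conjugate `x` lies in the core `J`, and none lies over an
involution of the simple part of `H / J`.
-/

set_option autoImplicit false
set_option linter.unusedSectionVars false

namespace Cfsg.Agent.Lib.Fi22Recog95

variable {G : Type*} [Group G] [Finite G] {z a : G} {J H1 : Subgroup G}

namespace Ctx

variable (X : Ctx z a J H1) {g : G}
include X

theorem cv_card_eq {h : G} (N : NatFacts z a J H1) (hh : h ∈ H1) (h2 : Inv2 J h)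
    (hlt : 64 < Nat.card (CV z a J h)) : Nat.card (CV z a J h) = 256 :=
  (N.size h hh h2).resolve_right (by omega)

/-- The fixed space of a rank two involution is centralised. -/
theorem r_fix_all {h : G} (N : NatFacts z a J H1) (hh : h ∈ H1) (h2 : h * h = 1) (hJ : h ∉ J)
    (hc : Nat.card (CV z a J h) = 64) : ∀ j ∈ CV z a J h, h * j = j * h := by
  obtain ⟨hel, him⟩ := N.r_elem h hh ⟨by rw [h2]; exact one_mem _, hJ⟩ hc
  intro j hj
  have e := X.hyp.iv_inv (X.h1_le hh) h2 (him hj)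
  rw [inv_eq_of_mul_eq_one_right (hel j hj)] at e
  exact mul_inv_eq_iff_eq_mul.1 e

/-- `d` is not in `J` unless `x` is. -/
theorem d_not_mem (C : Comp z a J H1) (P : IPair z a g) (hxJ : g * z * g⁻¹ ∉ J) :
    g * (z * a) * g⁻¹ ∉ J :=
  fun h => hxJ (X.x_mem_of P C.kza X.hyp.za_za h P.und)

/-- `x` is not in `J`. -/
theorem not_mem_J (C : Comp z a J H1) (P : IPair z a g) : g * z * g⁻¹ ∉ J := by
  intro hxJ
  have S := X.hyp
  set x := g * z * g⁻¹ with hxdef
  set c := g * a * g⁻¹ with hcdef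
  set d := g * (z * a) * g⁻¹ with hddef
  have hdxc : d = x * c := d_eq X
  have hxc : c * x = x * c := X.cx_comm
  have hdC : d ∈ cza z a := X.d_cza P
  have hxZ : ¬ InZ z a x := by
    rintro (h | h | h | h)
    · exact S.z_ne (conj_eq_one_iff.1 h)
    · exact P.ne h
    · exact X.nc_a g h
    · exact X.nc_za g h
  -- `d` is outside `J`
  have hdJ : d ∉ J := by
    intro hd
    have hle : PJ J d ≤ PJ J x := X.pj_le C.kza (x_mem P)
    have hP : ∀ u ∈ J, ∀ v ∈ J, ∀ e ∈ J, u ∉ PJ J e → v ∉ PJ J e → u * v ∈ PJ J e :=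
      fun u hu v hv e he hu' hv' => ⟨mul_mem hu hv, mem_cz.2 (S.anti_mul hu hv he
        (fun h => hu' ⟨hu, mem_cz.2 h⟩) fun h => hv' ⟨hv, mem_cz.2 h⟩)⟩
    have hPd : Nat.card J ≤ 2 * Nat.card (PJ J d) :=
      card_le_two_mul fun u hu hu' v hv hv' => hP u hu v hv d hd hu' hv'
    have hPx : ¬ J ≤ PJ J x := fun h => hxZ (S.cen x hxJ fun j hj => (mem_cz.1 (h hj).2).symm)
    have hPx2 : 2 * Nat.card (PJ J x) ≤ Nat.card J := two_mul_card_le inf_le_left hPx
    have heq : PJ J d = PJ J x := Subgroup.eq_of_le_of_card_ge hle (by omega)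
    -- then `c = x d` centralises the whole of `J`
    have hcJ : c ∈ J := by
      have := mul_mem hxJ hd
      rwa [hdxc, ← mul_assoc, X.x_sq, one_mul] at this
    refine P.unc (S.cen c hcJ fun j hj => ?_)
    have hce : c = x * d := by rw [hdxc, ← mul_assoc, X.x_sq, one_mul]
    rw [hce]
    by_cases h : j ∈ PJ J x
    · have h' : j ∈ PJ J d := heq ▸ h
      exact (Commute.mul_right (mem_cz.1 h.2) (mem_cz.1 h'.2)).symm
    · refine S.anti_mul hxJ hd hj (fun e => h ⟨hj, mem_cz.2 e.symm⟩) fun e => ?_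
      have h' : j ∈ PJ J x := heq ▸ (⟨hj, mem_cz.2 e.symm⟩ : j ∈ PJ J d)
      exact h h'
  -- some element centralising `x` exchanges the companions
  by_cases hfix : ∀ j ∈ PJ J x, d * j = j * d
  · exact hdJ (S.mem_of_fix_hyperplane hdC hxJ X.x_sq hxZ hfix)
  push Not at hfix
  obtain ⟨j, hj, hjd⟩ := hfix
  have hnI : ¬ cz z ≤ cz a := by
    intro hI
    have h1 : g⁻¹ * j * g ∈ cz a := hI (cz_conj hj.2)
    apply hjd
    rw [hdxc, mul_assoc, show c * j = j * c by
      rw [hcdef]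
      calc g * a * g⁻¹ * j = g * (a * (g⁻¹ * j * g)) * g⁻¹ := by group
        _ = g * (g⁻¹ * j * g * a) * g⁻¹ := by rw [mem_cz.1 h1]
        _ = _ := by group, ← mul_assoc, ← mem_cz.1 hj.2, mul_assoc]
  have Ka := C.swap hnI
  have hd1 : d ∈ H1 := by
    by_contra hd
    have hcz : d ∈ cz z := hdC.1
    -- in this case the simple part is the whole of `C(Z)`
    obtain ⟨s, hs, hsa⟩ := SetLike.not_le_iff_exists.1 hnI
    have hs1 : s ∉ H1 := fun h => hsa (X.h1_le h).2
    have h2 := X.mod.inner.prod s hs d hcz hs1 hd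
    exact hsa (by simpa using (cz a).mul_mem (X.h1_le h2).2 ((cz a).inv_mem hdC.2))
  -- `j` sends `c` to `d`
  have hjc : j * c * j⁻¹ = d := by
    have h1 : g⁻¹ * j * g ∈ cz z := cz_conj hj.2
    rcases S.conj_a h1 with e | e
    · refine absurd ?_ hjd
      have hjc : j * c * j⁻¹ = c := by
        rw [hcdef]
        calc j * (g * a * g⁻¹) * j⁻¹ = g * (g⁻¹ * j * g * a * (g⁻¹ * j * g)⁻¹) * g⁻¹ := by group
          _ = _ := by rw [e]
      rw [hdxc, mul_assoc, ← mul_inv_eq_iff_eq_mul.1 hjc, ← mul_assoc, ← mem_cz.1 hj.2, mul_assoc]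
    · rw [hcdef, hddef]
      calc j * (g * a * g⁻¹) * j⁻¹ = g * (g⁻¹ * j * g * a * (g⁻¹ * j * g)⁻¹) * g⁻¹ := by group
        _ = _ := by rw [e]
  have hdd : d * d = 1 := X.d_sq
  -- the centraliser of `x` and `c` in `J` has index four and is the fixed space of `d`
  have hX0 : 256 ≤ Nat.card (PJ J x ⊓ cz c : Subgroup G) := by
    have h1 : Nat.card (PJ J x) ≤ 2 * Nat.card (PJ J x ⊓ cz c : Subgroup G) := by
      refine card_le_two_mul fun u hu hu' v hv hv' => ⟨mul_mem hu hv, ?_⟩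
      have hout : ∀ w ∈ PJ J x, w ∉ cz c → g⁻¹ * w * g ∈ cz z ∧ g⁻¹ * w * g ∉ cz a := by
        intro w hw hw'
        refine ⟨cz_conj hw.2, fun h => hw' (mem_cz_conj.2 ?_)⟩
        rw [hcdef]
        calc w * (g * a * g⁻¹) * w⁻¹ = g * (g⁻¹ * w * g * a * (g⁻¹ * w * g)⁻¹) * g⁻¹ := by group
          _ = _ := by rw [mem_cz_conj.1 h]
      have h2 : ¬ u ∈ cz c := fun h => hu' ⟨hu, h⟩
      have h3 : ¬ v ∈ cz c := fun h => hv' ⟨hv, h⟩
      obtain ⟨u1, u2⟩ := hout u hu h2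
      obtain ⟨v1, v2⟩ := hout v hv h3
      have h4 := (S.mul_mem_cza u1 v1 u2 v2).2
      refine mem_cz_conj.2 ?_
      rw [hcdef]
      calc u * v * (g * a * g⁻¹) * (u * v)⁻¹
          = g * (g⁻¹ * u * g * (g⁻¹ * v * g) * a * (g⁻¹ * u * g * (g⁻¹ * v * g))⁻¹) * g⁻¹ := by group
        _ = _ := by rw [mem_cz_conj.1 h4]
    have h2 : Nat.card J ≤ 2 * Nat.card (PJ J x) :=
      card_le_two_mul fun u hu hu' v hv hv' => ⟨mul_mem hu hv, mem_cz.2 (S.anti_mul hu hv hxJ
        (fun h => hu' ⟨hu, mem_cz.2 h⟩) fun h => hv' ⟨hv, mem_cz.2 h⟩)⟩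
    rw [S.card] at h2
    omega
  have hX0d : ∀ u ∈ (PJ J x ⊓ cz c : Subgroup G), d * u = u * d := fun u hu => by
    rw [hdxc, mul_assoc, ← mem_cz.1 hu.2, ← mul_assoc, ← mem_cz.1 hu.1.2, mul_assoc]
  have hinv : Inv2 J d := ⟨by rw [hdd]; exact one_mem _, hdJ⟩
  have hle : (PJ J x ⊓ cz c : Subgroup G) ≤ Hyp.cvs S d := fun u hu =>
    S.pj_le_cvs d ⟨hu.1.1, mem_cz.2 (hX0d u hu).symm⟩
  have h256 : Nat.card (CV z a J d) = 256 := by
    rcases X.mod.cases with N | N
    · refine X.cv_card_eq N hd1 hinv ?_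
      have h := Subgroup.card_le_of_le hle
      change _ ≤ Nat.card (CV z a J d) at h
      omega
    · exact N.size d hd1 hinv
  have hCV : ∀ u ∈ CV z a J d, d * u = u * d := by
    have heq : (PJ J x ⊓ cz c : Subgroup G) = Hyp.cvs S d :=
      Subgroup.eq_of_le_of_card_ge hle (by
        show Nat.card (CV z a J d) ≤ _
        rw [h256]; exact hX0)
    intro u hu
    exact hX0d u (heq.ge hu)
  have hIV : x ∈ IV z a J d := by
    refine ⟨j, hj.1, 1, Or.inl rfl, ?_⟩
    rw [mul_one]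
    have hdi : d⁻¹ = d := inv_eq_of_mul_eq_one_right hdd
    -- `d j d⁻¹ j⁻¹ = d (j d j⁻¹) = d c`
    have hjd' : j * d * j⁻¹ = c := by
      calc j * d * j⁻¹ = j * x * j⁻¹ * (j * c * j⁻¹) := by rw [hdxc]; group
        _ = x * d := by rw [hjc, mul_inv_eq_iff_eq_mul.2 (mem_cz.1 hj.2)]
        _ = c := by rw [hdxc, ← mul_assoc, X.x_sq, one_mul]
    calc x = x * (c * c) := by rw [X.c_sq, mul_one]
      _ = d * c := by rw [hdxc]; exact (mul_assoc _ _ _).symm
      _ = d * (j * d⁻¹ * j⁻¹) := by rw [hdi, hjd']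
      _ = _ := by group
  obtain ⟨n, hn, hno, hnc, hnfree⟩ : ∃ n ∈ H1, Odd (orderOf n) ∧ CommMod J n d ∧
      ∀ u ∈ IV z a J d, u ∈ CV z a J n → InZ z a u := by
    rcases X.mod.cases with N | N
    · obtain ⟨n, hn, ho, hf, hc⟩ := N.t_fix d hd1 hinv h256
      exact ⟨n, hn, ho, hc, fun u _ hu => hf hu⟩
    · refine N.sing d hd1 hinv fun u hu => ?_
      have e := S.iv_inv hdC hdd hu
      rw [mul_inv_eq_iff_eq_mul.2 (hCV u (S.iv_le_cv hdC (by rw [hdd]; exact one_mem _) hu))] at e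
      exact mul_eq_one_iff_eq_inv.2 e
  obtain ⟨m, hm, hmo, hmd, s, hms⟩ := S.lift hdC hdd (X.h1_le hn) hno hnc hCV
  have hmx : x * m = m * x := by
    have hK := C.kza.conj (g := g) (mem_cz.2 hmd)
    have hmem : x * (m * x * m⁻¹) ∈ J := mul_mem hxJ (S.norm m hm.1 x hxJ)
    have h := eq_inv_of_mul_eq_one_right (S.eq_one_of_odd hmem hK)
    rw [inv_eq_of_mul_eq_one_right X.x_sq, mul_inv_eq_iff_eq_mul] at h
    exact h.symm
  have hxm : x ∈ CV z a J m := ⟨hxJ, Or.inl (by rw [← hmx, mul_inv_cancel_right, mul_inv_cancel])⟩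
  exact hxZ (hnfree x hIV (S.cv_congr (pow_mem hm.1 s) hms (S.cv_pow hm.1 hxm s)))

/-- A fixed point free element centralising `x` forces the companion in `J` into the centre. -/
theorem free_final (P : IPair z a g) {n : G} (hn : n ∈ H1) (ho : Odd (orderOf n))
    (hf : CV z a J n ⊆ {w | InZ z a w}) (hc : CommMod J n (g * z * g⁻¹))
    (hP : ∀ j ∈ CV z a J (g * z * g⁻¹), g * z * g⁻¹ * j = j * (g * z * g⁻¹))
    (hcJ : g * a * g⁻¹ ∈ J) : False := by
  have S := X.hyp
  obtain ⟨m, hm, hmo, hmx, s, hms⟩ := S.lift (X.x_cza P) X.x_sq (X.h1_le hn) ho hc hP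
  have hmc := (X.odd_fix P hm.1 hmo hmx).1
  have hcm : g * a * g⁻¹ ∈ CV z a J m :=
    ⟨hcJ, Or.inl (by rw [mem_cz.1 hmc, mul_inv_cancel_right, mul_inv_cancel])⟩
  exact P.unc (hf (S.cv_congr (pow_mem hm.1 s) hms (S.cv_pow hm.1 hcm s)))

/-- Natural module, `x` inner: the companion `c` lies in `J`. -/
theorem nat_c_mem (C : Comp z a J H1) (N : NatFacts z a J H1) (P : IPair z a g)
    (hx1 : g * z * g⁻¹ ∈ H1) : g * a * g⁻¹ ∈ J := by
  have S := X.hyp
  have hxJ := X.not_mem_J C P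
  have hdJ := X.d_not_mem C P hxJ
  set x := g * z * g⁻¹ with hxdef
  set c := g * a * g⁻¹ with hcdef
  set d := g * (z * a) * g⁻¹ with hddef
  have hdxc : d = x * c := d_eq X
  have hxc : c * x = x * c := X.cx_comm
  have hinv : Inv2 J x := ⟨by rw [X.x_sq]; exact one_mem _, hxJ⟩
  have hdd : d * d ∈ J := by rw [X.d_sq]; exact one_mem _
  have hinter : Nat.card (PJ J x) ≤ Nat.card (CV z a J x ∩ CV z a J d : Set G) :=
    Subgroup.card_le_of_le (K := Hyp.cvs S x ⊓ Hyp.cvs S d) fun j hj =>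
      ⟨S.pj_le_cvs x hj, S.pj_le_cvs d ⟨hj.1, (X.pj_fix P hxJ hj).2⟩⟩
  have hd1 : d ∈ H1 := by
    by_contra hd
    have hout := N.outer d (X.d_cza P) hd hdd x hx1 hinv
    rw [Set.inter_comm] at hout
    have h2 := X.cv_le_two hx1 hinv.1
    rcases N.size x hx1 hinv with h | h <;> rw [h] at h2 hout
    · nlinarith
    · have hall := X.r_fix_all N hx1 X.x_sq hxJ h
      have : 64 ≤ Nat.card (PJ J x) := by
        rw [← h]
        show Nat.card (Hyp.cvs S x) ≤ _
        exact Subgroup.card_le_of_le fun j hj => ⟨hj.1, mem_cz.2 (hall j hj).symm⟩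
      nlinarith
  have hd2 : Inv2 J d := ⟨hdd, hdJ⟩
  have hdx : d * x = c := by rw [hdxc, mul_assoc, hxc, ← mul_assoc, X.x_sq, one_mul]
  rw [← hdx]
  rcases N.size x hx1 hinv with h | h
  · have h2 := X.cv_le_two hx1 hinv.1
    rw [h] at h2
    exact N.t_rigid x hx1 hinv h d hd1 hd2 (by omega)
  · have hall := X.r_fix_all N hx1 X.x_sq hxJ h
    have hle : PJ J d ≤ PJ J x := X.pj_le C.kza (x_mem P)
    have hsub : CV z a J x ⊆ CV z a J d := fun j hj =>
      S.pj_le_cvs d ⟨hj.1, (X.pj_fix P hxJ ⟨hj.1, mem_cz.2 (hall j hj).symm⟩).2⟩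
    have hxle : Nat.card (PJ J x) ≤ 64 := by
      rw [← h]
      exact Subgroup.card_le_of_le (K := Hyp.cvs S x) (S.pj_le_cvs x)
    have hd64 : Nat.card (CV z a J d) = 64 := (N.size d hd1 hd2).resolve_left fun h256 => by
      have h3 := X.cv_le_two hd1 hdd
      have h4 := Subgroup.card_le_of_le hle
      omega
    obtain ⟨n, hn, ho, -, hnx, huniq⟩ := N.r_fix x hx1 hinv h
    obtain ⟨m, hm, hmo, hmx, s, hms⟩ := S.lift (X.x_cza P) X.x_sq (X.h1_le hn) ho hnx hall
    refine huniq d hd1 hd2 hd64 hsub ?_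
    have hmd := (X.odd_fix P hm.1 hmo hmx).2
    -- `n ≡ m ^ s` centralises `d` modulo `J`
    set j₀ := (m ^ s)⁻¹ * n with hj₀
    have hms' : (m ^ s) * d * (m ^ s)⁻¹ = d := mem_cz_conj.1 (pow_mem hmd s)
    have hn' : n = m ^ s * j₀ := by rw [hj₀, mul_inv_cancel_left]
    have h5 : j₀ * (d * j₀⁻¹ * d⁻¹) ∈ J := mul_mem hms (S.norm d (X.d_cza P).1 _ (inv_mem hms))
    have h6 := S.norm (m ^ s) (pow_mem hm.1 s) _ h5
    unfold CommMod
    rw [hn', show m ^ s * j₀ * d * (m ^ s * j₀)⁻¹ * d⁻¹ =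
      m ^ s * (j₀ * (d * j₀⁻¹ * d⁻¹)) * (m ^ s)⁻¹ * (m ^ s * d * (m ^ s)⁻¹ * d⁻¹) by group,
      hms', mul_inv_cancel, mul_one]
    exact h6

/-- Natural module: an inner `x` whose fixed space it centralises does not occur. -/
theorem nat_free (C : Comp z a J H1) (N : NatFacts z a J H1) (P : IPair z a g)
    (hx1 : g * z * g⁻¹ ∈ H1)
    (hP : ∀ j ∈ CV z a J (g * z * g⁻¹), g * z * g⁻¹ * j = j * (g * z * g⁻¹)) : False := by
  have hxJ := X.not_mem_J C P
  have hinv : Inv2 J (g * z * g⁻¹) := ⟨by rw [X.x_sq]; exact one_mem _, hxJ⟩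
  have hcJ := X.nat_c_mem C N P hx1
  rcases N.size _ hx1 hinv with h | h
  · obtain ⟨n, hn, ho, hf, hc⟩ := N.t_fix _ hx1 hinv h
    exact X.free_final P hn ho hf hc hP hcJ
  · obtain ⟨n, hn, ho, hf, hc, -⟩ := N.r_fix _ hx1 hinv h
    exact X.free_final P hn ho hf hc hP hcJ

/-- Natural module: `x` is not inner. -/
theorem nat_inner (C : Comp z a J H1) (N : NatFacts z a J H1) (P : IPair z a g)
    (hx1 : g * z * g⁻¹ ∈ H1) : False := by
  have S := X.hyp
  have hxJ := X.not_mem_J C P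
  have hcJ := X.nat_c_mem C N P hx1
  set x := g * z * g⁻¹ with hxdef
  set c := g * a * g⁻¹ with hcdef
  set d := g * (z * a) * g⁻¹ with hddef
  have hinv : Inv2 J x := ⟨by rw [X.x_sq]; exact one_mem _, hxJ⟩
  by_cases hP : ∀ j ∈ CV z a J x, x * j = j * x
  · exact X.nat_free C N P hx1 hP
  push Not at hP
  obtain ⟨j, hj, hjx⟩ := hP
  have hjx' : x * j * x⁻¹ = z * j := by
    rcases X.mod.split x hx1 hinv.1 j hj with e | e
    · exact absurd (mul_inv_eq_iff_eq_mul.1 (mul_inv_eq_one.1 e)) hjx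
    · exact mul_inv_eq_iff_eq_mul.1 e
  by_cases hjc : c * j = j * c
  · -- `x z` is a conjugate linked to `x` over `c`
    have hjd : j ∈ cz (g * a * g⁻¹) := mem_cz.2 hjc.symm
    rcases C.kla with K | L
    · exact hjx (mem_cz.1 ((X.pj_le K (x_mem P) ⟨hj.1, hjd⟩ : j ∈ PJ J x)).2).symm
    have hjxj : j * x * j⁻¹ = x * z := by
      have e1 : x * j = z * j * x := mul_inv_eq_iff_eq_mul.1 hjx'
      have e2 : j * x = z * (x * j) := by
        rw [e1]
        calc j * x = 1 * (j * x) := (one_mul _).symm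
          _ = z * z * (j * x) := by rw [S.zz]
          _ = _ := by simp [mul_assoc]
      rw [mul_inv_eq_iff_eq_mul, e2, mem_cz.1 (x_mem P)]
      exact (mul_assoc z x j).symm
    set x' := g⁻¹ * z * g⁻¹⁻¹ with hx'def
    set g' := g⁻¹ * j * g with hg'def
    have hg' : g' ∈ cz a := cz_conj hjd
    have hy : g' * z * g'⁻¹ = z * x' := by
      calc g' * z * g'⁻¹ = g⁻¹ * (j * x * j⁻¹) * g := by rw [hg'def, hxdef]; group
        _ = _ := by rw [hjxj, hxdef, hx'def]; group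
    have hx'z : x' * z = z * x' := conj_comm_symm P.comm
    have hy1 : Commute z (g' * z * g'⁻¹) := by
      show z * (g' * z * g'⁻¹) = g' * z * g'⁻¹ * z
      rw [hy, mul_assoc, hx'z]
    have hy2 : g' * z * g'⁻¹ ≠ z := by
      rw [hy]
      exact fun h => S.z_ne (conj_eq_one_iff.1 (mul_eq_left.1 h))
    obtain ⟨hyH, hyJ, hy256⟩ := L.link g' hg' hy2 hy1
    rw [hy] at hyH hyJ hy256
    have hz1 : z ∈ H1 := X.j_le_h1 S.z_mem
    have hx'1 : x' ∈ H1 := by simpa [← mul_assoc, S.zz] using mul_mem hz1 hyH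
    have P' := X.symm P
    have hx'J : x' ∉ J := X.not_mem_J C P'
    have hinv' : Inv2 J x' := ⟨by rw [X.x_sq]; exact one_mem _, hx'J⟩
    have hset : {u | u ∈ J ∧ Commute (z * x') u} = ((PJ J x' : Subgroup G) : Set G) := by
      ext u
      constructor
      · rintro ⟨hu, hu'⟩
        refine ⟨hu, mem_cz.2 ?_⟩
        have e : z * (x' * u) = z * (u * x') := by
          rw [← mul_assoc, show z * x' * u = u * (z * x') from hu', ← mul_assoc, S.z_cent u hu, mul_assoc]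
        exact (mul_left_cancel e).symm
      · rintro ⟨hu, hu'⟩
        refine ⟨hu, ?_⟩
        show z * x' * u = u * (z * x')
        rw [mul_assoc, ← mem_cz.1 hu', ← mul_assoc, ← S.z_cent u hu, mul_assoc]
    rw [hset] at hy256
    have hle : PJ J x' ≤ Hyp.cvs S x' := S.pj_le_cvs x'
    have hcv : Nat.card (CV z a J x') = 256 := X.cv_card_eq N hx'1 hinv' (by
      have h := Subgroup.card_le_of_le hle
      change Nat.card (PJ J x') ≤ Nat.card (CV z a J x') at h
      change Nat.card (PJ J x') = 256 at hy256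
      omega)
    have heq : PJ J x' = Hyp.cvs S x' := Subgroup.eq_of_le_of_card_ge hle (by
      change Nat.card (CV z a J x') ≤ Nat.card (PJ J x')
      change Nat.card (PJ J x') = 256 at hy256
      omega)
    exact X.nat_free C N P' hx'1 fun u hu => (mem_cz.1 (heq.ge hu).2).symm
  · -- `d` centralises `j` but `x` does not
    have hcj : c * j = j * c * z := S.anti hcJ hj.1 hjc
    have hd' : d * j = j * d := by
      calc d * j = x * (c * j) := by rw [hddef, d_eq X]; exact mul_assoc _ _ _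
        _ = x * j * (c * z) := by rw [hcj]; simp [mul_assoc]
        _ = z * j * x * (z * c) := by rw [mul_inv_eq_iff_eq_mul.1 hjx', S.z_cent c hcJ]
        _ = z * j * (x * z) * c := by simp [mul_assoc]
        _ = z * j * z * (x * c) := by
            rw [show x * z = z * x from mem_cz.1 (x_mem P)]; simp [mul_assoc]
        _ = j * d := by rw [← S.z_cent j hj.1, mul_assoc j, S.zz, mul_one, hddef, d_eq X]
    exact hjx (mem_cz.1 (X.pj_le C.kza (x_mem P) ⟨hj.1, mem_cz.2 hd'.symm⟩).2).symm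

end Ctx

end Cfsg.Agent.Lib.Fi22Recog95
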