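import Cfsg.Agent.Lib.Fi22Recog95.Mod.NatOuter
import Cfsg.Agent.Lib.Fi22Recog95.Mod.Split

/-!
Recognition of Fi22: the facts on the module `J / {1, z, a, z a}` of `C(z) / J`.

Owner: helper7 (for helper95).
-/

set_option autoImplicit false
set_option linter.style.haveILetI false

namespace Cfsg.Agent.Lib.Fi22Recog95

universe u

theorem modFacts {G : Type u} [Group G] [Finite G] {z a : G} {J : Subgroup G} (S : Hyp z a J)
    {F : Type*} [Field F] [Fintype F] (hF : Fintype.card F = 3) [(J.subgroupOf (cz z)).Normal]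
    (e : (↥(cz z) ⧸ J.subgroupOf (cz z)) ≃* MulAut (Cfsg.PSp 2 F)) :
    ∃ H1 : Subgroup G, ModFacts z a J H1 := by
  obtain ⟨H1, hI, hcent, ψ, hψs, hψk⟩ := Mod.exists_inner S hF e
  obtain ⟨T⟩ := Mod.exists_frame S hI hF ψ hψs hψk
  refine ⟨H1, hI, fun h hh hsq j hj => T.split S hh hsq hj, ?_⟩
  rcases Nat.lt_or_ge T.m 2 with hm | hm
  · exact Or.inr
      { size := fun h hh h2 => T.six_size S hm hh h2
        four := fun g hg h2 => T.six_four S hm hcent hg h2
        four_comm := fun g hg h2 h hh hi hc hb => T.six_four_comm S hm hcent hg h2 hh hi hc hb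
        triv := T.six_triv S hm hcent
        outer := fun d hd hd1 hdd x hx hxi hc hb => T.six_outer S hm hcent hd hd1 hdd hx hxi hc hb
        sing := fun h hh h2 hs => T.six_sing S hm hh h2 hs }
  · have hm2 : T.m = 2 := by have := T.hm; omega
    exact Or.inl
      { size := fun h hh h2 => (T.natKind S hm2 hh h2).imp (fun ⟨_, _, _, e⟩ => e) fun ⟨_, _, _, e⟩ => e
        r_elem := fun h hh h2 hc => T.nat_r_elem S hm2 hh h2 hc
        r_fix := fun h hh h2 hc => by
          obtain ⟨n, hn, ho, hf, hcm, hu⟩ := T.nat_fix S hm2 hh h2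
          exact ⟨n, hn, ho, hf, hcm, hu hc⟩
        t_fix := fun h hh h2 _ => by
          obtain ⟨n, hn, ho, hf, hcm, -⟩ := T.nat_fix S hm2 hh h2
          exact ⟨n, hn, ho, hf, hcm⟩
        t_rigid := fun h hh h2 hc g hg g2 hb => T.nat_t_rigid S hm2 hh h2 hc hg g2 hb
        t_conj := fun h hh k hk h2 k2 hc kc => T.nat_t_conj S hm2 hh hk h2 k2 hc kc
        t_prod := fun h hh k hk l hl h2 k2 l2 hc kc lc hcm =>
          T.nat_t_prod S hm2 hh hk hl h2 k2 l2 hc kc lc hcm
        five := T.nat_five S hm2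
        outer := fun g hg hg1 hgg h hh h2 => T.nat_outer S hm2 hg hg1 hgg hh h2 }

end Cfsg.Agent.Lib.Fi22Recog95
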