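import Cfsg.Agent.Lib.Fi22Recog95.Core

/-!
Recognition of Fi22: a commuting pair of conjugates `z`, `x = g z g⁻¹` with companions `c = g a g⁻¹`
and `d = g (z a) g⁻¹`, and the lifting of odd elements centralising an involution modulo the core.
-/

set_option autoImplicit false
set_option linter.unusedSectionVars false

namespace Cfsg.Agent.Lib.Fi22Recog95

variable {G : Type*} [Group G]

/-- What the fusion analysis starts from. -/
structure Ctx (z a : G) (J H1 : Subgroup G) : Prop where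
  hyp : Hyp z a J
  mod : ModFacts z a J H1
  nc_a : ∀ g : G, g * z * g⁻¹ ≠ a
  nc_za : ∀ g : G, g * z * g⁻¹ ≠ z * a
  nab : cz z ≤ cz a → ∀ g : G, g * a * g⁻¹ ≠ z * a

/-- What the unlinked analysis assumes of `C(a)` and `C(z a)`. -/
structure Comp (z a : G) (J H1 : Subgroup G) : Prop where
  kza : KFacts z (z * a)
  kla : KFacts z a ∨ LFacts z a J H1
  swap : ¬ cz z ≤ cz a → KFacts z a

/-- `x = g z g⁻¹` is another conjugate commuting with `z`, each fixes the companions of the other, and the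
companions of the two are different. -/
structure IPair (z a : G) (g : G) : Prop where
  comm : g * z * g⁻¹ * z = z * (g * z * g⁻¹)
  ne : g * z * g⁻¹ ≠ z
  fix : g * z * g⁻¹ ∈ cz a
  cd : g * a * g⁻¹ ∈ cz z
  unc : ¬ InZ z a (g * a * g⁻¹)
  und : ¬ InZ z a (g * (z * a) * g⁻¹)

theorem conj_comm_symm {g u v : G} (h : g * u * g⁻¹ * v = v * (g * u * g⁻¹)) :
    g⁻¹ * v * g⁻¹⁻¹ * u = u * (g⁻¹ * v * g⁻¹⁻¹) := by
  calc g⁻¹ * v * g⁻¹⁻¹ * u = g⁻¹ * (v * (g * u * g⁻¹)) * g := by group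
    _ = g⁻¹ * (g * u * g⁻¹ * v) * g := by rw [h]
    _ = _ := by group

theorem eq_conj_iff {g u v : G} : g * u * g⁻¹ = v ↔ g⁻¹ * v * g⁻¹⁻¹ = u := by
  constructor <;> rintro rfl <;> group

theorem mem_cz_symm {u v : G} (h : u ∈ cz v) : v ∈ cz u := mem_cz.2 (mem_cz.1 h).symm

theorem conj_mem_cz {g u v : G} (h : g * u * g⁻¹ ∈ cz v) : g⁻¹ * v * g⁻¹⁻¹ ∈ cz u :=
  mem_cz.2 (conj_comm_symm (mem_cz.1 h))

theorem cz_conj {g h t : G} (hh : h ∈ cz (g * t * g⁻¹)) : g⁻¹ * h * g ∈ cz t := by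
  refine mem_cz.2 ?_
  calc g⁻¹ * h * g * t = g⁻¹ * (h * (g * t * g⁻¹)) * g := by group
    _ = g⁻¹ * (g * t * g⁻¹ * h) * g := by rw [mem_cz.1 hh]
    _ = _ := by group

theorem sq_conj {g u : G} (h : u * u = 1) : g * u * g⁻¹ * (g * u * g⁻¹) = 1 := by
  calc g * u * g⁻¹ * (g * u * g⁻¹) = g * (u * u) * g⁻¹ := by group
    _ = 1 := by rw [h]; group

namespace Hyp

variable {z a : G} {J : Subgroup G} (S : Hyp z a J)
include S

/-- An element of odd order in `J` is trivial. -/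
theorem eq_one_of_odd {j : G} (hj : j ∈ J) (ho : Odd (orderOf j)) : j = 1 := by
  obtain ⟨k, hk⟩ := IsPGroup.iff_orderOf.1 S.two ⟨j, hj⟩
  rw [Subgroup.orderOf_mk] at hk
  rw [← orderOf_eq_one_iff, hk]
  rcases k with _ | k
  · rfl
  · exact absurd ho (by rw [hk, pow_succ']; simp)

/-- An involution inverts its images. -/
theorem iv_inv {h c : G} (hh : h ∈ cza z a) (h2 : h * h = 1) (hc : c ∈ IV z a J h) :
    h * c * h⁻¹ = c⁻¹ := by
  obtain ⟨k, hk, w, hw, rfl⟩ := hc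
  have hcJ : h * k * h⁻¹ * k⁻¹ ∈ J := mul_mem (S.norm h hh.1 k hk) (inv_mem hk)
  have hi : h⁻¹ = h := inv_eq_of_mul_eq_one_right h2
  calc h * (h * k * h⁻¹ * k⁻¹ * w) * h⁻¹ =
      h * h * k * h⁻¹ * k⁻¹ * h⁻¹ * (h * w * h⁻¹) := by group
    _ = (h * k * h⁻¹ * k⁻¹)⁻¹ * w := by rw [S.inZ_fix hh hw, h2, hi]; simp [mul_assoc, hi]
    _ = w * (h * k * h⁻¹ * k⁻¹)⁻¹ := S.inZ_comm hw (inv_mem hcJ)
    _ = _ := by rw [mul_inv_rev _ w, S.inZ_inv hw]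

theorem pow_mul_mem {u n : G} (hu : u ∈ J) (hn : n ∈ cz z) (i : ℕ) :
    (u * n) ^ i * (n ^ i)⁻¹ ∈ J := by
  induction i with
  | zero => simp
  | succ i ih =>
    rw [pow_succ', pow_succ',
      show u * n * (u * n) ^ i * (n * n ^ i)⁻¹ = u * (n * ((u * n) ^ i * (n ^ i)⁻¹) * n⁻¹) by group]
    exact mul_mem hu (S.norm n hn _ ih)

variable [Finite G]

/-- An odd element centralising the involution `x` modulo `J` can be changed inside `J` to centralise `x`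
when `x` centralises its fixed space. -/
theorem lift {x n : G} (hx : x ∈ cza z a) (hx2 : x * x = 1) (hn : n ∈ cza z a)
    (ho : Odd (orderOf n)) (hc : CommMod J n x) (hP : ∀ j ∈ CV z a J x, x * j = j * x) :
    ∃ m ∈ cza z a, Odd (orderOf m) ∧ m * x = x * m ∧ ∃ s : ℕ, (m ^ s)⁻¹ * n ∈ J := by
  have hxi : x⁻¹ = x := inv_eq_of_mul_eq_one_right hx2
  set e := x * (n * x * n⁻¹) with he
  have heJ : e ∈ J := by
    have h1 := S.norm x hx.1 _ hc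
    rwa [show x * (n * x * n⁻¹ * x⁻¹) * x⁻¹ = e * (x * x)⁻¹ by rw [he]; group, hx2, inv_one,
      mul_one] at h1
  have hep : ∀ j ∈ CV z a J x, e * j = j * e := by
    intro j hj
    have hj' : n⁻¹ * j * n ∈ CV z a J x := by
      refine ⟨by simpa using S.norm n⁻¹ (inv_mem hn.1) j hj.1, ?_⟩
      have h1 : InZ z a (x * e * j * (x * e)⁻¹ * j⁻¹) :=
        (S.cv_mul hx.1 hj (S.cv_of_mem heJ hj.1)).2
      have h2 : x * e = n * x * n⁻¹ := by rw [he, ← mul_assoc, hx2, one_mul]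
      rw [show x * (n⁻¹ * j * n) * x⁻¹ * (n⁻¹ * j * n)⁻¹ =
          n⁻¹ * (n * x * n⁻¹ * j * (n * x * n⁻¹)⁻¹ * j⁻¹) * n⁻¹⁻¹ by group, ← h2]
      exact S.inZ_conj (inv_mem hn.1) h1
    have h3 : n * x * n⁻¹ * j = j * (n * x * n⁻¹) := by
      calc n * x * n⁻¹ * j = n * (x * (n⁻¹ * j * n)) * n⁻¹ := by group
        _ = n * (n⁻¹ * j * n * x) * n⁻¹ := by rw [hP _ hj']
        _ = _ := by group
    rw [he, mul_assoc, h3, ← mul_assoc, hP j hj, mul_assoc]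
  obtain ⟨k, hk, w, hw, hew⟩ := S.mem_iv hx heJ hep
  have hn' : n * x * n⁻¹ = k * x * k⁻¹ * w := by
    calc n * x * n⁻¹ = x * e := by rw [he, ← mul_assoc, hx2, one_mul]
      _ = x * (x * k * x⁻¹ * k⁻¹ * w) := by rw [hew]
      _ = x * x * k * x⁻¹ * k⁻¹ * w := by simp [mul_assoc]
      _ = _ := by rw [hx2, hxi, one_mul]
  set m₀ := k⁻¹ * n with hm₀def
  have hm₀ : m₀ ∈ cza z a := mul_mem (inv_mem (S.le_cza hk)) hn
  have hm₁ : m₀ * x * m₀⁻¹ = x * w := by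
    calc m₀ * x * m₀⁻¹ = k⁻¹ * (n * x * n⁻¹) * k := by rw [hm₀def]; group
      _ = x * (k⁻¹ * w * k⁻¹⁻¹) := by rw [hn']; group
      _ = _ := by rw [S.inZ_fix (inv_mem (S.le_cza hk)) hw]
  have hm₂ : m₀ ^ 2 * x = x * m₀ ^ 2 := by
    rw [← mul_inv_eq_iff_eq_mul]
    calc m₀ ^ 2 * x * (m₀ ^ 2)⁻¹ = m₀ * (m₀ * x * m₀⁻¹) * m₀⁻¹ := by rw [pow_two]; group
      _ = m₀ * x * m₀⁻¹ * (m₀ * w * m₀⁻¹) := by conv_lhs => rw [hm₁]
                                                group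
      _ = x := by rw [hm₁, S.inZ_fix hm₀ hw, mul_assoc, S.inZ_sq hw, mul_one]
  obtain ⟨i, q, hq, hiq⟩ : ∃ i q, Odd q ∧ orderOf m₀ = 2 ^ i * q :=
    Nat.exists_eq_two_pow_mul_odd (orderOf_pos m₀).ne'
  refine ⟨m₀ ^ 2 ^ (i + 1), pow_mem hm₀ _, hq.of_dvd_nat (orderOf_dvd_of_pow_eq_one ?_), ?_, ?_⟩
  · rw [← pow_mul]
    refine orderOf_dvd_iff_pow_eq_one.1 (hiq ▸ ⟨2, ?_⟩)
    ring
  · rw [pow_succ', pow_mul]
    exact (show Commute (m₀ ^ 2) x from hm₂).pow_left _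
  · obtain ⟨s, hs⟩ := exists_pow_eq_self_of_coprime (x := n) (n := 2 ^ (i + 1))
      (Nat.Coprime.pow_left _ (Nat.coprime_two_left.2 ho))
    refine ⟨s, ?_⟩
    rw [← pow_mul] at hs ⊢
    have h1 := inv_mem (S.pow_mul_mem (inv_mem hk) hn.1 (2 ^ (i + 1) * s))
    rw [hs, mul_inv_rev, inv_inv] at h1
    have h2 := S.norm n⁻¹ (inv_mem hn.1) _ h1
    rwa [show n⁻¹ * (n * ((k⁻¹ * n) ^ (2 ^ (i + 1) * s))⁻¹) * n⁻¹⁻¹ =
      ((k⁻¹ * n) ^ (2 ^ (i + 1) * s))⁻¹ * n by group] at h2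

end Hyp

variable {z a : G} {J H1 : Subgroup G}

/-- the conjugate of an odd order fact -/
theorem KFacts.conj {t g h : G} (K : KFacts z t) (hh : h ∈ cz (g * t * g⁻¹)) :
    Odd (orderOf (g * z * g⁻¹ * (h * (g * z * g⁻¹) * h⁻¹))) := by
  have := K _ (cz_conj hh)
  rw [← MulEquiv.orderOf_eq (MulAut.conj g)] at this
  rwa [MulAut.conj_apply, show g * (z * (g⁻¹ * h * g * z * (g⁻¹ * h * g)⁻¹)) * g⁻¹ =
    g * z * g⁻¹ * (h * (g * z * g⁻¹) * h⁻¹) by group] at this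

namespace Ctx

variable (X : Ctx z a J H1)
include X

theorem h1_le {h : G} (hh : h ∈ H1) : h ∈ cza z a := X.mod.inner.le hh

theorem j_le_h1 {h : G} (hh : h ∈ J) : h ∈ H1 := X.mod.inner.ge hh

theorem sq_mem_h1 {h : G} (hh : h ∈ cz z) : h * h ∈ H1 := by
  by_cases h1 : h ∈ H1
  · exact mul_mem h1 h1
  · exact X.mod.inner.prod h hh h hh h1 h1

/-- An inner involution fixes at least half of its fixed space. -/
theorem cv_le_two [Finite G] {h : G} (hh : h ∈ H1) (h2 : h * h ∈ J) :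
    Nat.card (CV z a J h) ≤ 2 * Nat.card (PJ J h) := by
  have S := X.hyp
  show Nat.card (Hyp.cvs S h) ≤ _
  have key : ∀ j ∈ Hyp.cvs S h, j ∉ PJ J h → h * j * h⁻¹ = z * j := by
    intro j hj hj'
    rcases X.mod.split h hh h2 j hj with e | e
    · exact absurd ⟨hj.1, mem_cz.2 (mul_inv_eq_iff_eq_mul.1 (mul_inv_eq_one.1 e)).symm⟩ hj'
    · exact mul_inv_eq_iff_eq_mul.1 e
  refine card_le_two_mul fun u hu hu' v hv hv' => ⟨mul_mem hu.1 hv.1, mem_cz.2 ?_⟩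
  refine (mul_inv_eq_iff_eq_mul.1 ?_).symm
  calc h * (u * v) * h⁻¹ = h * u * h⁻¹ * (h * v * h⁻¹) := by group
    _ = z * u * (z * v) := by rw [key u hu hu', key v hv hv']
    _ = z * z * (u * v) := by
        rw [mul_assoc z u, ← mul_assoc u z, S.z_cent u hu.1]; simp [mul_assoc]
    _ = u * v := by rw [S.zz, one_mul]

variable {g : G} (P : IPair z a g)

omit X in
theorem x_mem (P : IPair z a g) : g * z * g⁻¹ ∈ cz z := mem_cz.2 P.comm

theorem d_eq : g * (z * a) * g⁻¹ = g * z * g⁻¹ * (g * a * g⁻¹) := by group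

theorem x_sq : g * z * g⁻¹ * (g * z * g⁻¹) = 1 := sq_conj X.hyp.zz

theorem c_sq : g * a * g⁻¹ * (g * a * g⁻¹) = 1 := sq_conj X.hyp.aa

theorem d_sq : g * (z * a) * g⁻¹ * (g * (z * a) * g⁻¹) = 1 := sq_conj X.hyp.za_za

theorem cx_comm : g * a * g⁻¹ * (g * z * g⁻¹) = g * z * g⁻¹ * (g * a * g⁻¹) := by
  calc g * a * g⁻¹ * (g * z * g⁻¹) = g * (a * z) * g⁻¹ := by group
    _ = g * (z * a) * g⁻¹ := by rw [X.hyp.za_comm]
    _ = _ := by group

theorem c_ne_x : g * a * g⁻¹ ≠ g * z * g⁻¹ := fun h => X.hyp.az ((MulAut.conj g).injective h)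

include P

theorem x_cza : g * z * g⁻¹ ∈ cza z a := ⟨x_mem P, P.fix⟩

theorem c_cza : g * a * g⁻¹ ∈ cza z a := by
  have S := X.hyp
  refine ⟨P.cd, mem_cz_conj.2 ((S.conj_a P.cd).resolve_right fun e => ?_)⟩
  -- otherwise `a` exchanges the companions and `x` is the commutator `z`
  have h1 : g⁻¹ * a * g ∈ cz z := cz_conj (mem_cz_symm P.fix)
  have h2 : a * (g * a * g⁻¹) * a⁻¹ ≠ g * a * g⁻¹ := fun h => S.za_ne_a (by
    rw [← e, mul_inv_eq_iff_eq_mul, ← mul_inv_eq_iff_eq_mul.1 h])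
  have h3 : a * (g * a * g⁻¹) * a⁻¹ = g * (z * a) * g⁻¹ := by
    calc a * (g * a * g⁻¹) * a⁻¹ = g * (g⁻¹ * a * g * a * (g⁻¹ * a * g)⁻¹) * g⁻¹ := by group
      _ = _ := by
        rcases S.conj_a h1 with f | f <;> rw [f]
        exact absurd (show a * (g * a * g⁻¹) * a⁻¹ = g * a * g⁻¹ by
          rw [show a * (g * a * g⁻¹) * a⁻¹ =
            g * (g⁻¹ * a * g * a * (g⁻¹ * a * g)⁻¹) * g⁻¹ by group, f]) h2
  have hci : (g * a * g⁻¹)⁻¹ = g * a * g⁻¹ := inv_eq_of_mul_eq_one_right X.c_sq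
  have h5 : a * (g * a * g⁻¹ * a * (g * a * g⁻¹)⁻¹) = g * z * g⁻¹ := by
    calc a * (g * a * g⁻¹ * a * (g * a * g⁻¹)⁻¹)
        = a * (g * a * g⁻¹) * a⁻¹ * (g * a * g⁻¹) := by rw [hci, S.ainv]; simp [mul_assoc]
      _ = g * z * g⁻¹ * (g * a * g⁻¹ * (g * a * g⁻¹)) := by rw [h3, d_eq X]; simp [mul_assoc]
      _ = _ := by rw [X.c_sq, mul_one]
  rw [e, ← mul_assoc, ← S.za_comm, mul_assoc, S.aa, mul_one] at h5
  exact P.ne h5.symm

theorem d_cza : g * (z * a) * g⁻¹ ∈ cza z a := by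
  rw [d_eq X]
  exact mul_mem (X.x_cza P) (X.c_cza P)

theorem symm : IPair z a g⁻¹ := by
  have key : ∀ u v : G, g * u * g⁻¹ ≠ v → g⁻¹ * v * g⁻¹⁻¹ ≠ u := fun u v h e => h (eq_conj_iff.2 e)
  refine ⟨conj_comm_symm P.comm, key _ _ P.ne, conj_mem_cz P.cd, conj_mem_cz P.fix, ?_, ?_⟩
  · rintro (h | h | h | h)
    · exact X.hyp.a_ne (conj_eq_one_iff.1 h)
    · exact X.nc_a _ (eq_conj_iff.1 h)
    · exact P.unc (Or.inr (Or.inr (Or.inl (eq_conj_iff.2 h))))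
    · exact P.und (Or.inr (Or.inr (Or.inl (eq_conj_iff.2 h))))
  · rintro (h | h | h | h)
    · exact X.hyp.za_ne (conj_eq_one_iff.1 h)
    · exact X.nc_za _ (eq_conj_iff.1 h)
    · exact P.unc (Or.inr (Or.inr (Or.inr (eq_conj_iff.2 h))))
    · exact P.und (Or.inr (Or.inr (Or.inr (eq_conj_iff.2 h))))

variable [Finite G]

omit P in
/-- A companion with an isolated `z` centralises the conjugate inside `J`. -/
theorem pj_le {t : G} (K : KFacts z t) (hx : g * z * g⁻¹ ∈ cz z) :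
    PJ J (g * t * g⁻¹) ≤ PJ J (g * z * g⁻¹) := by
  have S := X.hyp
  intro j hj
  refine ⟨hj.1, mem_cz.2 ?_⟩
  have hxi : (g * z * g⁻¹)⁻¹ = g * z * g⁻¹ := inv_eq_of_mul_eq_one_right X.x_sq
  have hmem : g * z * g⁻¹ * (j * (g * z * g⁻¹) * j⁻¹) ∈ J := by
    have h1 := mul_mem (S.norm _ hx j hj.1) (inv_mem hj.1)
    rwa [hxi, show g * z * g⁻¹ * j * (g * z * g⁻¹) * j⁻¹ =
      g * z * g⁻¹ * (j * (g * z * g⁻¹) * j⁻¹) by group] at h1
  have h2 := S.eq_one_of_odd hmem (K.conj hj.2)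
  have h3 := eq_inv_of_mul_eq_one_right h2
  rw [hxi, mul_inv_eq_iff_eq_mul] at h3
  exact h3

/-- A companion in `J` with an isolated `z` puts `x` into `J`. -/
theorem x_mem_of {t : G} (K : KFacts z t) (h2 : t * t = 1) (he : g * t * g⁻¹ ∈ J)
    (heZ : ¬ InZ z a (g * t * g⁻¹)) : g * z * g⁻¹ ∈ J :=
  X.hyp.mem_of_fix_hyperplane (X.x_cza P) he (sq_conj h2) heZ
    fun j hj => (mem_cz.1 (X.pj_le K (x_mem P) hj).2).symm

/-- The centraliser of `x` in `J` fixes both companions, unless `x` lies in `J`. -/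
theorem pj_fix {j : G} (hxJ : g * z * g⁻¹ ∉ J) (hj : j ∈ PJ J (g * z * g⁻¹)) :
    j ∈ cz (g * a * g⁻¹) ∧ j ∈ cz (g * (z * a) * g⁻¹) := by
  have S := X.hyp
  have h1 : g⁻¹ * j * g ∈ cz z := cz_conj hj.2
  have hc : j ∈ cz (g * a * g⁻¹) := by
    rcases S.conj_a h1 with e | e
    · refine mem_cz_conj.2 ?_
      calc j * (g * a * g⁻¹) * j⁻¹ = g * (g⁻¹ * j * g * a * (g⁻¹ * j * g)⁻¹) * g⁻¹ := by group
        _ = _ := by rw [e]
    · refine absurd ?_ hxJ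
      have e2 : j * (g * a * g⁻¹) * j⁻¹ = g * z * g⁻¹ * (g * a * g⁻¹) := by
        calc j * (g * a * g⁻¹) * j⁻¹ = g * (g⁻¹ * j * g * a * (g⁻¹ * j * g)⁻¹) * g⁻¹ := by group
          _ = _ := by rw [e]; group
      have h4 : j * (g * a * g⁻¹ * j⁻¹ * (g * a * g⁻¹)⁻¹) ∈ J :=
        mul_mem hj.1 (S.norm _ (X.c_cza P).1 _ (inv_mem hj.1))
      rwa [show j * (g * a * g⁻¹ * j⁻¹ * (g * a * g⁻¹)⁻¹) =
        j * (g * a * g⁻¹) * j⁻¹ * (g * a * g⁻¹)⁻¹ by group, e2, mul_inv_cancel_right] at h4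
  refine ⟨hc, mem_cz.2 ?_⟩
  rw [d_eq X, ← mul_assoc, mem_cz.1 hj.2, mul_assoc, mem_cz.1 hc, ← mul_assoc]

/-- An element of odd order centralising `x` fixes the companions. -/
theorem odd_fix {m : G} (hm : m ∈ cz z) (ho : Odd (orderOf m))
    (hx : m * (g * z * g⁻¹) = g * z * g⁻¹ * m) :
    m ∈ cz (g * a * g⁻¹) ∧ m ∈ cz (g * (z * a) * g⁻¹) := by
  have S := X.hyp
  have h1 : g⁻¹ * m * g ∈ cz z := cz_conj (mem_cz.2 hx)
  have h2 : g⁻¹ * m * g ∈ cz a := by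
    by_contra h2
    set u := g⁻¹ * m * g with hu
    have hsq : u * u ∈ cza z a := S.mul_mem_cza h1 h1 h2 h2
    obtain ⟨r, hr⟩ := ho
    have hou : u ^ (2 * r + 1) = 1 := by
      rw [hu, show g⁻¹ * m * g = g⁻¹ * m * g⁻¹⁻¹ by group, conj_pow, ← hr, pow_orderOf_eq_one]
      group
    have : u = ((u * u) ^ r)⁻¹ := by
      rw [eq_inv_iff_mul_eq_one, ← pow_two, ← pow_mul, ← pow_succ']
      exact hou
    exact h2 (this ▸ (cz a).inv_mem (pow_mem hsq.2 r))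
  have hc : m ∈ cz (g * a * g⁻¹) := mem_cz_conj.2 (by
    calc m * (g * a * g⁻¹) * m⁻¹ = g * (g⁻¹ * m * g * a * (g⁻¹ * m * g)⁻¹) * g⁻¹ := by group
      _ = _ := by rw [mem_cz_conj.1 h2])
  refine ⟨hc, mem_cz.2 ?_⟩
  rw [d_eq X, ← mul_assoc, hx, mul_assoc, mem_cz.1 hc, ← mul_assoc]

end Ctx

end Cfsg.Agent.Lib.Fi22Recog95
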