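import Cfsg.Agent.Lib.Fi22Recog95.Classes
import Cfsg.Agent.Lib.Fi22Recog95.Iface
import Cfsg.Agent.Lib.U62Cent47.Fused
import Cfsg.Agent.Lib.U62End7.Main

/-!
Recognition of Fi22: the fusion of `z` in `C(a) / ⟨a⟩` read in `C(a)`.

Owner: helper95.
-/

set_option autoImplicit false
set_option linter.unusedSectionVars false

namespace Cfsg.Agent.Lib.Fi22Recog95

variable {G : Type*} [Group G]

/-- `⟨a⟩` in `C(a)` -/
def acen (a : G) : Subgroup ↥(cz a) := Subgroup.zpowers ⟨a, mem_cz.2 rfl⟩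

instance acen_normal (a : G) : (acen a).Normal := ⟨fun n hn g => by
  obtain ⟨k, rfl⟩ := hn
  have h : Commute g (⟨a, mem_cz.2 rfl⟩ : ↥(cz a)) := Subtype.ext (mem_cz.1 g.2)
  rw [(h.zpow_right k).eq, mul_inv_cancel_right]
  exact ⟨k, rfl⟩⟩

/-- `C(a) / ⟨a⟩` -/
abbrev Qa (a : G) := ↥(cz a) ⧸ acen a

/-- the image of `z` in `C(a) / ⟨a⟩` -/
def zq {a : G} (z : ↥(cz a)) : Qa a := QuotientGroup.mk z

/-- the image of a subgroup in `C(a) / ⟨a⟩` -/
def qimg (a : G) (B : Subgroup G) : Subgroup (Qa a) :=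
  (B.subgroupOf (cz a)).map (QuotientGroup.mk' (acen a))

theorem mk_eq_mk {a : G} (ha : a * a = 1) {u v : ↥(cz a)} :
    (QuotientGroup.mk u : Qa a) = QuotientGroup.mk v ↔ (v : G) = u ∨ (v : G) = u * a := by
  rw [QuotientGroup.eq, acen, Subgroup.mem_zpowers_iff]
  constructor
  · rintro ⟨k, hk⟩
    have h := congrArg Subtype.val hk
    simp only [SubgroupClass.coe_zpow, Subgroup.coe_mul, Subgroup.coe_inv] at h
    rcases Int.even_or_odd k with ⟨m, rfl⟩ | ⟨m, rfl⟩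
    · left
      rw [← two_mul, zpow_mul, zpow_two, ha, one_zpow] at h
      exact (inv_mul_eq_one.1 h.symm).symm
    · right
      rw [zpow_add, zpow_mul, zpow_two, ha, one_zpow, one_mul, zpow_one] at h
      exact inv_mul_eq_iff_eq_mul.1 h.symm
  · rintro (h | h)
    · exact ⟨0, Subtype.ext (by simp [h])⟩
    · exact ⟨1, Subtype.ext (by simp [h])⟩

theorem mem_qimg {a : G} (ha : a * a = 1) {B : Subgroup G} (haB : a ∈ B) {u : ↥(cz a)} :
    (QuotientGroup.mk u : Qa a) ∈ qimg a B ↔ (u : G) ∈ B := by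
  refine ⟨?_, fun h => ⟨u, h, rfl⟩⟩
  rintro ⟨v, hv, e⟩
  rcases (mk_eq_mk ha).1 e with h | h
  · rw [h]; exact hv
  · rw [h]; exact B.mul_mem hv haB

section Isolation

/-- A commuting conjugate accompanies every product of even order. -/
theorem odd_of_isolated [Finite G] {z t : G} (zz : z * z = 1) (hz : z ∈ cz t)
    (h : ∀ g ∈ cz t, Commute z (g * z * g⁻¹) → g * z * g⁻¹ = z) : KFacts z t := by
  intro g hg
  set y := g * z * g⁻¹ with hy
  set x := z * y with hx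
  have hyy : y * y = 1 := by
    rw [hy, show g * z * g⁻¹ * (g * z * g⁻¹) = g * (z * z) * g⁻¹ by group, zz, mul_one, mul_inv_cancel]
  have hxt : x ∈ cz t := mul_mem hz (mul_mem (mul_mem hg hz) (inv_mem hg))
  have hzi : z⁻¹ = z := inv_eq_of_mul_eq_one_right zz
  have hzx : ∀ n : ℕ, z * x ^ n = (x ^ n)⁻¹ * z := fun n => by
    have h1 : MulAut.conj z x = x⁻¹ := by
      rw [MulAut.conj_apply, hx, hzi, mul_inv_rev, hzi, inv_eq_of_mul_eq_one_right hyy,
        ← mul_assoc, ← mul_assoc, zz, one_mul]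
    have h2 : MulAut.conj z (x ^ n) = (x ^ n)⁻¹ := by rw [map_pow, h1, inv_pow]
    rw [MulAut.conj_apply] at h2
    exact (mul_inv_eq_iff_eq_mul.1 h2)
  by_contra hno
  obtain ⟨k, hk⟩ := even_iff_two_dvd.1 (Nat.not_odd_iff_even.1 hno)
  have hk0 : 0 < k := by
    have := orderOf_pos x
    omega
  have hne : x ^ k ≠ 1 := fun e => by
    have := Nat.le_of_dvd hk0 (orderOf_dvd_of_pow_eq_one e)
    omega
  have hinv : (x ^ k)⁻¹ = x ^ k := inv_eq_of_mul_eq_one_right (by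
    rw [← pow_add, ← two_mul, ← hk, pow_orderOf_eq_one])
  have hcom : Commute z (z * x ^ k) := by
    show z * (z * x ^ k) = z * x ^ k * z
    rw [mul_assoc z (x ^ k) z]
    exact congrArg (z * ·) (by rw [hzx, hinv])
  -- the product is a conjugate of `z` in `C(t)`
  obtain ⟨c, hc, hcz⟩ : ∃ c ∈ cz t, c * z * c⁻¹ = z * x ^ k := by
    rcases Nat.even_or_odd' k with ⟨i, rfl | rfl⟩
    · refine ⟨(x ^ i)⁻¹, inv_mem (pow_mem hxt i), ?_⟩
      rw [inv_inv, ← hzx, mul_assoc, ← pow_add, ← two_mul]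
    · refine ⟨(x ^ i)⁻¹ * g, mul_mem (inv_mem (pow_mem hxt i)) hg, ?_⟩
      have hzxy : z * x = y := by rw [hx, ← mul_assoc, zz, one_mul]
      calc (x ^ i)⁻¹ * g * z * ((x ^ i)⁻¹ * g)⁻¹ = (x ^ i)⁻¹ * y * x ^ i := by rw [hy]; group
        _ = (x ^ i)⁻¹ * (z * x) * x ^ i := by rw [hzxy]
        _ = z * x ^ i * x * x ^ i := by rw [hzx]; simp only [mul_assoc]
        _ = z * x ^ (2 * i + 1) := by rw [mul_assoc, mul_assoc, ← pow_succ', ← pow_add]; ring_nf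
  have e := h c hc (hcz ▸ hcom)
  rw [hcz] at e
  exact hne (mul_eq_left.1 e)

end Isolation

variable [Finite G] {z a : G} {J H1 : Subgroup G}

namespace Hyp

variable (S : Hyp z a J)
include S

/-- `z` in `C(a)` -/
theorem z_cza_right : z ∈ cz a := S.z_mem_cza.2

/-- a conjugate of `z` in `C(a)` is determined by its image -/
theorem cls_mk_inj {g k : G} (hg : g ∈ cz a) {u v : ↥(cz a)} (hu : (u : G) = g * z * g⁻¹)
    (hv : (v : G) = k * z * k⁻¹) (e : (QuotientGroup.mk u : Qa a) = QuotientGroup.mk v) : (v : G) = u := by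
  rcases (mk_eq_mk S.aa).1 e with h | h
  · exact h
  refine absurd ?_ (S.not_conj_za (g⁻¹ * k))
  calc g⁻¹ * k * z * (g⁻¹ * k)⁻¹ = g⁻¹ * (k * z * k⁻¹) * g := by group
    _ = g⁻¹ * (g * z * g⁻¹ * a) * g := by rw [← hv, h, hu]
    _ = z * (g⁻¹ * a * g⁻¹⁻¹) := by group
    _ = z * a := by rw [mem_cz_conj.1 (inv_mem hg)]

/-- `z` as a member of `C(a)` -/
def zc : ↥(cz a) := ⟨z, S.z_cza_right⟩

/-- the centraliser of the image of `z` is the image of `C(z, a)` -/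
theorem mem_cen_zq {u : ↥(cz a)} :
    (QuotientGroup.mk u : Qa a) ∈ Subgroup.centralizer ({zq S.zc} : Set (Qa a)) ↔ (u : G) ∈ cz z := by
  rw [Subgroup.mem_centralizer_singleton_iff]
  constructor
  · intro h
    rw [mem_cz_conj]
    have e : (QuotientGroup.mk S.zc : Qa a) = QuotientGroup.mk (u * S.zc * u⁻¹) := by
      rw [QuotientGroup.mk_mul, QuotientGroup.mk_mul, QuotientGroup.mk_inv]
      exact (mul_inv_eq_iff_eq_mul.2 h).symm
    exact S.cls_mk_inj (g := 1) (k := (u : G)) (one_mem _) (by simp [zc]) (by simp [zc]) e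
  · intro h
    show QuotientGroup.mk (u * S.zc) = (QuotientGroup.mk (S.zc * u) : Qa a)
    exact congrArg _ (Subtype.ext (mem_cz.1 h))

/-- the members of the class of the image of `z` -/
theorem mem_cls_zq {y : Qa a} :
    y ∈ U62Cent47.cls (zq S.zc) ↔
      ∃ g, ∃ hg : g ∈ cz a, y = QuotientGroup.mk (⟨g, hg⟩ * S.zc * (⟨g, hg⟩ : ↥(cz a))⁻¹) := by
  constructor
  · rintro ⟨q, rfl⟩
    obtain ⟨⟨g, hg⟩, rfl⟩ := QuotientGroup.mk_surjective q
    exact ⟨g, hg, rfl⟩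
  · rintro ⟨g, hg, rfl⟩
    exact ⟨QuotientGroup.mk ⟨g, hg⟩, rfl⟩

theorem commute_zq {u : ↥(cz a)} :
    Commute (zq S.zc) (QuotientGroup.mk u) ↔ Commute z (u : G) := by
  show zq S.zc * _ = _ * zq S.zc ↔ z * u = u * z
  rw [eq_comm, ← Subgroup.mem_centralizer_singleton_iff, S.mem_cen_zq, mem_cz, eq_comm]

/-- an isolated image gives an isolated element -/
theorem kfacts_of_isolated (h : U62Cent47.Isolated (zq S.zc)) : KFacts z a := by
  refine odd_of_isolated S.zz S.z_cza_right fun g hg hc => ?_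
  have e := h _ (S.mem_cls_zq.2 ⟨g, hg, rfl⟩) (S.commute_zq.2 hc).symm
  exact (S.cls_mk_inj (g := 1) (k := g) (one_mem _) (by simp [zc]) (by simp [zc]) e.symm)

/-- the orbit of a conjugate under `J` read in the quotient -/
theorem card_fix {g : G} (hg : g ∈ cz a)
    (h : {q : Qa a | ∃ j ∈ qimg a J,
      j * QuotientGroup.mk (⟨g, hg⟩ * S.zc * (⟨g, hg⟩ : ↥(cz a))⁻¹) * j⁻¹ = q}.ncard = 4) :
    Nat.card ({j | j ∈ J ∧ Commute (g * z * g⁻¹) j} : Set G) = 256 := by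
  set u : ↥(cz a) := ⟨g, hg⟩ * S.zc * (⟨g, hg⟩ : ↥(cz a))⁻¹ with hu
  let act : MulAction ↥J G := MulAction.compHom G ((MulAut.conj : G →* MulAut G).comp J.subtype)
  have hsmul : ∀ (j : ↥J), j • (g * z * g⁻¹) = (j : G) * (g * z * g⁻¹) * (j : G)⁻¹ := fun _ => rfl
  have horb : Nat.card (MulAction.orbit ↥J (g * z * g⁻¹)) = 4 := by
    rw [← h, ← Nat.card_coe_set_eq]
    have hj : ∀ w ∈ MulAction.orbit ↥J (g * z * g⁻¹), w ∈ cz a := by
      rintro _ ⟨j, rfl⟩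
      show j • (g * z * g⁻¹) ∈ cz a
      rw [hsmul]
      exact mul_mem (mul_mem (S.le_cza j.2).2 u.2) (inv_mem (S.le_cza j.2).2)
    let f : MulAction.orbit ↥J (g * z * g⁻¹) → {q : Qa a | ∃ j ∈ qimg a J,
        j * QuotientGroup.mk u * j⁻¹ = q} := fun w => ⟨QuotientGroup.mk ⟨w.1, hj w.1 w.2⟩, by
      obtain ⟨w, j, rfl⟩ := w
      exact ⟨QuotientGroup.mk ⟨j, (S.le_cza j.2).2⟩, (mem_qimg S.aa S.a_mem).2 j.2, rfl⟩⟩
    refine Nat.card_congr (Equiv.ofBijective f ⟨?_, ?_⟩)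
    · rintro ⟨w₁, j₁, rfl⟩ ⟨w₂, j₂, rfl⟩ e
      apply Subtype.ext
      exact (S.cls_mk_inj (g := (j₁ : G) * g) (k := (j₂ : G) * g) (mul_mem (S.le_cza j₁.2).2 hg)
        ((hsmul j₁).trans (by group)) ((hsmul j₂).trans (by group)) (congrArg Subtype.val e)).symm
    · rintro ⟨q, j, hj, rfl⟩
      obtain ⟨⟨j, hja⟩, rfl⟩ := QuotientGroup.mk_surjective j
      exact ⟨⟨_, ⟨j, (mem_qimg S.aa S.a_mem).1 hj⟩, rfl⟩, Subtype.ext rfl⟩
  have h1 := Nat.card_congr (MulAction.orbitProdStabilizerEquivGroup ↥J (g * z * g⁻¹))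
  rw [Nat.card_prod, horb, S.card] at h1
  have e : Nat.card ({j | j ∈ J ∧ Commute (g * z * g⁻¹) j} : Set G) =
      Nat.card (MulAction.stabilizer ↥J (g * z * g⁻¹)) := by
    have hst : ∀ j : ↥J, j ∈ MulAction.stabilizer ↥J (g * z * g⁻¹) ↔ Commute (g * z * g⁻¹) (j : G) :=
      fun j => by
        rw [MulAction.mem_stabilizer_iff, hsmul, mul_inv_eq_iff_eq_mul]
        exact eq_comm
    exact Nat.card_congr
      { toFun := fun j => ⟨⟨j.1, j.2.1⟩, (hst _).2 j.2.2⟩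
        invFun := fun j => ⟨j.1.1, j.1.2, (hst _).1 j.2⟩
        left_inv := fun _ => rfl
        right_inv := fun _ => rfl }
  omega

/-- the fused outcome in the quotient gives the links and the braiding -/
theorem lfacts_of_fused (hI : Inner z a J H1) {C : U62Cent47.Ctx (zq S.zc)}
    (hH : C.H0 = qimg a H1) (hJ : C.J = qimg a J) (F : U62Cent47.Fused C) : LFacts z a J H1 := by
  have hperp : ∀ g (hg : g ∈ cz a), g * z * g⁻¹ ≠ z → Commute z (g * z * g⁻¹) →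
      QuotientGroup.mk (⟨g, hg⟩ * S.zc * (⟨g, hg⟩ : ↥(cz a))⁻¹) ∈
        U62Recog47.perp (U62Cent47.cls (zq S.zc)) (zq S.zc) := fun g hg hne hc =>
    ⟨S.mem_cls_zq.2 ⟨g, hg, rfl⟩,
      fun e => hne (S.cls_mk_inj (g := 1) (k := g) (one_mem _) (by simp [zc]) (by simp [zc]) e.symm),
      S.commute_zq.2 hc⟩
  refine ⟨fun g hg hne hc => ?_, fun g hg hc => ?_, ?_⟩
  · have hp := hperp g hg hne hc
    obtain ⟨h0, hj⟩ := F.inner _ hp
    rw [hH, mem_qimg S.aa (hI.ge S.a_mem)] at h0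
    rw [hJ, mem_qimg S.aa S.a_mem] at hj
    refine ⟨h0, hj, S.card_fix hg ?_⟩
    have := F.orbit _ hp
    rwa [hJ] at this
  · have hend := (U62End7.main F.endData).1
    have hcomp := (U62Recog47.main F.endData.host).2.2.1
    have hm : ∀ x ∈ U62Cent47.cls (zq S.zc),
        x ∈ U62Recog47.comp (U62Cent47.cls (zq S.zc)) (zq S.zc) := fun x hx => hend ▸ hx
    have h3 := hcomp (zq S.zc) (hm _ F.endData.host.mem) _ (hm _ (S.mem_cls_zq.2 ⟨g, hg, rfl⟩))
      fun e => hc (S.commute_zq.1 e)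
    set v : ↥(cz a) := (S.zc * (⟨g, hg⟩ * S.zc * (⟨g, hg⟩ : ↥(cz a))⁻¹)) ^ 3 with hv
    have h4 : (QuotientGroup.mk (1 : ↥(cz a)) : Qa a) = QuotientGroup.mk v := h3.symm
    have h5 : (v : G) = 1 ∨ (v : G) = a := by
      simpa using (mk_eq_mk S.aa).1 h4
    have h6 : (v : G) = (z * (g * z * g⁻¹)) ^ 3 := rfl
    rw [show (6 : ℕ) = 3 * 2 from rfl, pow_mul, ← h6, pow_two]
    rcases h5 with e | e <;> rw [e]
    · exact mul_one _
    · exact S.aa
  · obtain ⟨x, hx⟩ := F.nonempty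
    obtain ⟨g, hg, rfl⟩ := S.mem_cls_zq.1 hx.1
    refine ⟨g, hg, fun e => hx.2.1 ?_, S.commute_zq.1 hx.2.2⟩
    exact congrArg _ (Subtype.ext e)

end Hyp

end Cfsg.Agent.Lib.Fi22Recog95
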