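import Cfsg.Agent.Lib.Fi22Recog95.Setting
import Cfsg.Agent.Lib.Extraspecial.Basic
import Cfsg.Agent.Lib.FusionP3.GenExtra.Iso
import Cfsg.Prelude.Def_TwoFusion

/-!
Recognition of Fi22: the setting from `J = 2 × 2^{1+8}` with derived group `⟨z⟩`.

Owner: helper95.
-/

set_option autoImplicit false

open scoped commutatorElement

namespace Cfsg.Agent.Lib.Fi22Recog95

universe u

/-- an extraspecial complement to `⟨a⟩` in `J` -/
def ExtraCompl {G : Type u} [Group G] (z a : G) (J : Subgroup G) : Prop :=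
  ∃ E : Subgroup G, E ≤ J ∧ z ∈ E ∧ a ∉ E ∧ Cfsg.IsExtraspecial 2 ↥E ∧ Nat.card ↥E = 512

variable {G : Type u} [Group G] [Finite G] {z : G}

/-- The core with its central involution `a` outside `⟨z⟩`. -/
theorem exists_hyp (hz : orderOf z = 2) (A E : Subgroup ↥(cz z))
    (hAE : Cfsg.IsInternalDirectProduct A E (Cfsg.pCore 2 ↥(cz z))) (hA : Nat.card ↥A = 2)
    (hE : Cfsg.IsExtraspecial 2 ↥E) (hEc : Nat.card ↥E = 2 ^ 9) (zc : ↥(cz z)) (hzc : (zc : G) = z)
    (hJ' : ⁅Cfsg.pCore 2 ↥(cz z), Cfsg.pCore 2 ↥(cz z)⁆ = Subgroup.zpowers zc)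
    (hCJ : Subgroup.centralizer ((Cfsg.pCore 2 ↥(cz z)) : Set ↥(cz z)) ≤ Cfsg.pCore 2 ↥(cz z))
    [hJn : (Cfsg.pCore 2 ↥(cz z)).Normal] :
    ∃ a0 : ↥(cz z), a0 ∈ Cfsg.pCore 2 ↥(cz z) ∧
      Hyp z (a0 : G) ((Cfsg.pCore 2 ↥(cz z)).map (cz z).subtype) ∧
      ExtraCompl z (a0 : G) ((Cfsg.pCore 2 ↥(cz z)).map (cz z).subtype) := by
  classical
  haveI : Fact (Nat.Prime 2) := ⟨Nat.prime_two⟩
  obtain ⟨hAP, hEP, hcomm, hinf, hsup⟩ := hAE
  set P := Cfsg.pCore 2 ↥(cz z) with hP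
  obtain ⟨a0, b0, hab, huniv⟩ := Nat.card_eq_two_iff.1 hA
  -- the non-trivial element of `A`
  obtain ⟨a, ha1⟩ : ∃ a : ↥A, a ≠ 1 := by
    by_cases h : a0 = 1
    · exact ⟨b0, fun e => hab (h.trans e.symm)⟩
    · exact ⟨a0, h⟩
  have hAel : ∀ x : ↥A, x = 1 ∨ x = a := fun x => by
    by_contra h
    push Not at h
    have h3 : ({1, a, x} : Finset ↥A).card = 3 := by
      rw [Finset.card_insert_of_notMem (by simp [ha1.symm, h.1.symm]), Finset.card_pair h.2.symm]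
    have hf : ({1, a, x} : Set ↥A).ncard ≤ Nat.card ↥A := Set.ncard_le_card _
    rw [show ({1, a, x} : Set ↥A) = (({1, a, x} : Finset ↥A) : Set ↥A) by simp, Set.ncard_coe_finset,
      h3, hA] at hf
    omega
  have haa : a * a = 1 := (hAel (a * a)).resolve_right fun e => ha1 (mul_eq_left.1 e)
  -- every element of the core is a product
  let pr : ↥A × ↥E →* ↥(cz z) :=
    MonoidHom.noncommCoprod A.subtype E.subtype fun x y => hcomm x x.2 y y.2
  have hpr : ∀ p, pr p = (p.1 : ↥(cz z)) * p.2 := fun _ => rfl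
  have hrange : pr.range = P := by
    refine (MonoidHom.noncommCoprod_range _ _ _).trans ?_
    rw [Subgroup.range_subtype, Subgroup.range_subtype, hsup]
  have hpin : Function.Injective pr := by
    rw [injective_iff_map_eq_one]
    intro p hp
    rw [hpr] at hp
    have h1 : (p.1 : ↥(cz z)) ∈ A ⊓ E :=
      ⟨p.1.2, by rw [eq_inv_of_mul_eq_one_left hp]; exact E.inv_mem p.2.2⟩
    rw [hinf, Subgroup.mem_bot] at h1
    rw [h1, one_mul] at hp
    exact Prod.ext (Subtype.ext h1) (Subtype.ext hp)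
  have hform : ∀ j ∈ P, ∃ (x : ↥A) (y : ↥E), j = x * y := fun j hj => by
    rw [← hrange] at hj
    obtain ⟨⟨x, y⟩, rfl⟩ := hj
    exact ⟨x, y, rfl⟩
  have hacen : ∀ j ∈ P, (a : ↥(cz z)) * j = j * a := fun j hj => by
    obtain ⟨x, y, rfl⟩ := hform j hj
    have h1 : (a : ↥(cz z)) * x = x * a := by
      rcases hAel x with rfl | rfl <;> simp
    rw [← mul_assoc, h1, mul_assoc, hcomm a a.2 y y.2, mul_assoc]
  -- the centre of `E`
  obtain ⟨zE, hes⟩ := Cfsg.Agent.Lib.Extraspecial.exists_esData hE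
  have hzE2 : zE * zE = 1 := by rw [← pow_two]; exact hes.z_pow
  have hzpow : ∀ w : ↥E, w ∈ Subgroup.zpowers zE → w = 1 ∨ w = zE := fun w hw => by
    obtain ⟨k, rfl⟩ := hw
    rcases Int.even_or_odd k with ⟨t, rfl⟩ | ⟨t, rfl⟩
    · left; show zE ^ (t + t) = 1; rw [← two_mul, zpow_mul, zpow_two, hzE2, one_zpow]
    · right
      show zE ^ (2 * t + 1) = zE
      rw [zpow_add, zpow_mul, zpow_two, hzE2, one_zpow, one_mul, zpow_one]
  have hcm : ∀ x ∈ P, ∀ y ∈ P, ∃ w : ↥E, (w = 1 ∨ w = zE) ∧ ⁅x, y⁆ = (w : ↥(cz z)) := by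
    intro x hx y hy
    obtain ⟨x1, x2, rfl⟩ := hform x hx
    obtain ⟨y1, y2, rfl⟩ := hform y hy
    refine ⟨⁅x2, y2⁆, hzpow _ (hes.comm_mem x2 y2), ?_⟩
    have h1 : ∀ (u : ↥A) (j : ↥(cz z)), j ∈ P → Commute (u : ↥(cz z)) j := fun u j hj => by
      rcases hAel u with rfl | rfl
      · exact Commute.one_left j
      · exact hacen j hj
    show ⁅(x1 : ↥(cz z)) * x2, (y1 : ↥(cz z)) * y2⁆ = ⁅(x2 : ↥(cz z)), (y2 : ↥(cz z))⁆
    have c2 : Commute (y1 : ↥(cz z)) x2 := h1 y1 _ (hEP x2.2)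
    have c3 : Commute (x1 : ↥(cz z)) ((y1 : ↥(cz z)) * y2) :=
      h1 x1 _ (mul_mem (hAP y1.2) (hEP y2.2))
    rw [commutatorElement_def, commutatorElement_def, mul_inv_rev]
    calc (x1 : ↥(cz z)) * x2 * (y1 * y2) * ((x2 : ↥(cz z))⁻¹ * (x1 : ↥(cz z))⁻¹) * (y1 * y2 : ↥(cz z))⁻¹
        = (x1 : ↥(cz z)) * (x2 * (y1 * y2) * (x2 : ↥(cz z))⁻¹) * (x1 : ↥(cz z))⁻¹ *
            (y1 * y2 : ↥(cz z))⁻¹ := by group
      _ = (x2 : ↥(cz z)) * (y1 * y2) * (x2 : ↥(cz z))⁻¹ * (y1 * y2 : ↥(cz z))⁻¹ := by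
          rw [(h1 x1 _ (mul_mem (mul_mem (hEP x2.2) (mul_mem (hAP y1.2) (hEP y2.2)))
            (inv_mem (hEP x2.2)))).eq, mul_inv_cancel_right]
      _ = _ := by
          rw [← mul_assoc (x2 : ↥(cz z)) (y1 : ↥(cz z)), ← c2.eq, mul_inv_rev]
          rw [show ((y1 : ↥(cz z)) * x2 * y2 * (x2 : ↥(cz z))⁻¹) * ((y2 : ↥(cz z))⁻¹ * (y1 : ↥(cz z))⁻¹) =
            y1 * ((x2 : ↥(cz z)) * y2 * (x2 : ↥(cz z))⁻¹ * (y2 : ↥(cz z))⁻¹) * (y1 : ↥(cz z))⁻¹ by group,
            (h1 y1 _ (mul_mem (mul_mem (mul_mem (hEP x2.2) (hEP y2.2)) (inv_mem (hEP x2.2)))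
              (inv_mem (hEP y2.2)))).eq, mul_inv_cancel_right]
  have hz1 : z ≠ 1 := fun e => by rw [e, orderOf_one] at hz; omega
  have hzz : z * z = 1 := by have := pow_orderOf_eq_one z; rwa [hz, pow_two] at this
  have hzc1 : zc ≠ 1 := fun e => hz1 (by rw [← hzc, e]; rfl)
  -- `zc` is the commutator of `E`
  have hle : ⁅P, P⁆ ≤ (Subgroup.zpowers zE).map E.subtype := Subgroup.commutator_le.2 fun x hx y hy => by
    obtain ⟨w, hw, e⟩ := hcm x hx y hy
    refine ⟨w, ?_, e.symm⟩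
    rcases hw with rfl | rfl
    exacts [one_mem _, Subgroup.mem_zpowers _]
  rw [hJ'] at hle
  have hzE : zc = (zE : ↥(cz z)) := by
    obtain ⟨w, hw, e⟩ := hle (Subgroup.mem_zpowers zc)
    rcases hzpow w hw with rfl | rfl
    · exact absurd e.symm hzc1
    · exact e.symm
  have hzcP : zc ∈ P := hzE ▸ hEP zE.2
  have hne_az : (a : ↥(cz z)) ≠ zc := fun e => ha1 (Subtype.ext (by
    have h1 : (a : ↥(cz z)) ∈ A ⊓ E := ⟨a.2, by rw [e, hzE]; exact zE.2⟩
    rwa [hinf, Subgroup.mem_bot] at h1))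
  have hmem : ∀ {g : G}, g ∈ P.map (cz z).subtype → ∃ j ∈ P, (j : G) = g := fun {g} hg => hg
  refine ⟨a, hAP a.2, ?_, E.map (cz z).subtype, Subgroup.map_mono hEP, ⟨zE, zE.2, ?_⟩, ?_, ?_, ?_⟩
  rotate_left
  · rw [← hzE]; exact hzc
  · intro h
    have h1 : (a : ↥(cz z)) ∈ E := (Subgroup.mem_map_iff_mem (cz z).subtype_injective).1 h
    have h2 : (a : ↥(cz z)) ∈ A ⊓ E := ⟨a.2, h1⟩
    rw [hinf, Subgroup.mem_bot] at h2
    exact ha1 (Subtype.ext h2)
  · exact Cfsg.Agent.Lib.FusionP3.GenExtra.isExtraspecial_congr (E.equivMapOfInjective _ (cz z).subtype_injective) hE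
  · rw [Subgroup.card_map_of_injective (cz z).subtype_injective, hEc]; norm_num
  refine ⟨hzz, hz1, congrArg (fun x : ↥A => ((x : ↥(cz z)) : G)) haa, fun e => ha1 (Subtype.ext (Subtype.ext e)),
    fun e => hne_az (Subtype.ext (e.trans hzc.symm)), Subgroup.map_subtype_le _, ?_, ?_,
    ⟨zc, hzcP, hzc⟩, Subgroup.mem_map_of_mem _ (hAP a.2),
    (Cfsg.Agent.Lib.Cores.pCore_isPGroup 2).map _, ?_, ?_, ?_, ?_, ?_, ?_, ?_⟩
  · intro h hh g hg
    obtain ⟨j, hj, rfl⟩ := hmem hg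
    exact Subgroup.mem_map_of_mem _ (hJn.conj_mem j hj ⟨h, hh⟩)
  · rw [Subgroup.card_map_of_injective (cz z).subtype_injective, ← hrange,
      ← Nat.card_congr (MonoidHom.ofInjective hpin).toEquiv, Nat.card_prod, hA, hEc]
    norm_num
  · intro N hN hnorm h2
    haveI : (N.subgroupOf (cz z)).Normal := ⟨fun n hn h => hnorm h h.2 n hn⟩
    intro n hn
    exact Subgroup.mem_map_of_mem _ (Cfsg.Agent.Lib.Cores.le_pCore (p := 2) (N := N.subgroupOf (cz z))
      (h2.comap_of_injective (cz z).subtype (cz z).subtype_injective)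
      (show (⟨n, hN hn⟩ : ↥(cz z)) ∈ N.subgroupOf (cz z) from hn))
  · intro h hh hc
    refine Subgroup.mem_map_of_mem _ (hCJ (Subgroup.mem_centralizer_iff.2 fun j hj => ?_) :
      (⟨h, hh⟩ : ↥(cz z)) ∈ P)
    exact Subtype.ext (hc j (Subgroup.mem_map_of_mem _ hj)).symm
  · intro g hg
    obtain ⟨j, hj, rfl⟩ := hmem hg
    exact (congrArg Subtype.val (hacen j hj)).symm
  · intro q hq hcen
    obtain ⟨j, hj, rfl⟩ := hmem hq
    obtain ⟨x, y, rfl⟩ := hform j hj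
    have hy : y ∈ Subgroup.zpowers zE := by
      refine (hes.mem_center y).1 (Subgroup.mem_center_iff.2 fun w => ?_)
      have h1 : (x : ↥(cz z)) * y * w = w * (x * y) :=
        Subtype.ext (hcen _ (Subgroup.mem_map_of_mem _ (hEP w.2)))
      rw [← mul_assoc, ← hcomm x x.2 w w.2, mul_assoc, mul_assoc] at h1
      exact Subtype.ext (mul_left_cancel h1).symm
    rcases hAel x with hx | hx <;> rcases hzpow y hy with hy' | hy' <;> rw [hx, hy']
    · left; simp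
    · right; left
      refine (congrArg Subtype.val ?_).trans hzc
      show ((1 : ↥A) : ↥(cz z)) * zE = zc
      rw [hzE]; simp
    · right; right; left; simp
    · right; right; right
      refine (congrArg Subtype.val (hcomm a a.2 zE zE.2)).trans ?_
      rw [← hzE]
      show (zc : G) * (a : ↥(cz z)) = _
      rw [hzc]
  · intro g hg
    obtain ⟨j, hj, rfl⟩ := hmem hg
    obtain ⟨x, y, rfl⟩ := hform j hj
    have h1 : ((x : ↥(cz z)) * y) * (x * y) = ((y * y : ↥E) : ↥(cz z)) := by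
      rcases hAel x with hx | hx <;> rw [hx]
      · simp
      · rw [mul_assoc, ← mul_assoc (y : ↥(cz z)), ← hcomm a a.2 y y.2, ← mul_assoc, ← mul_assoc,
          show ((a : ↥(cz z))) * a = 1 from congrArg Subtype.val haa, one_mul, Subgroup.coe_mul]
    have hy := hes.pow_mem y
    rw [pow_two] at hy
    rcases hzpow _ hy with e | e
    · left; rw [e] at h1; exact congrArg Subtype.val h1
    · right; rw [e, ← hzE] at h1; exact (congrArg Subtype.val h1).trans hzc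
  · intro g hg k hk
    obtain ⟨j, hj, rfl⟩ := hmem hg
    obtain ⟨i, hi, rfl⟩ := hmem hk
    obtain ⟨w, hw, e⟩ := hcm j hj i hi
    have e' : j * i * j⁻¹ = (w : ↥(cz z)) * i := by
      rw [← e, commutatorElement_def]; group
    rcases hw with rfl | rfl
    · left; exact congrArg Subtype.val (e'.trans (one_mul i))
    · right
      rw [← hzE] at e'
      refine (congrArg Subtype.val e').trans ?_
      show (zc : G) * i = i * z
      rw [hzc]
      exact (mem_cz.1 i.2).symm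
  · by_contra hab'
    push Not at hab'
    refine hzc1 (Subgroup.mem_bot.1 (?_ : zc ∈ (⊥ : Subgroup ↥(cz z))))
    have hbot : ⁅P, P⁆ ≤ ⊥ := Subgroup.commutator_le.2 fun x hx y hy => by
      obtain ⟨w, hw, e⟩ := hcm x hx y hy
      rcases hw with rfl | rfl
      · exact Subgroup.mem_bot.2 e
      · exfalso
        refine hab' _ (Subgroup.mem_map_of_mem _ hx) _ (Subgroup.mem_map_of_mem _ hy) ?_
        rw [← hzE, commutatorElement_def] at e
        have e' : x * y * x⁻¹ = zc * y := by rw [← e]; group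
        refine (congrArg Subtype.val e').trans ?_
        show (zc : G) * y = y * z
        rw [hzc]
        exact (mem_cz.1 y.2).symm
    rw [hJ'] at hbot
    exact hbot (Subgroup.mem_zpowers zc)

/-- The quotient by the core. -/
theorem exists_quot {M : Type*} [Group M] [hJn : (Cfsg.pCore 2 ↥(cz z)).Normal]
    (e : (↥(cz z) ⧸ Cfsg.pCore 2 ↥(cz z)) ≃* M) :
    ∃ _h : (((Cfsg.pCore 2 ↥(cz z)).map (cz z).subtype).subgroupOf (cz z)).Normal,
      Nonempty ((↥(cz z) ⧸ ((Cfsg.pCore 2 ↥(cz z)).map (cz z).subtype).subgroupOf (cz z)) ≃* M) := by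
  have he : ((Cfsg.pCore 2 ↥(cz z)).map (cz z).subtype).subgroupOf (cz z) = Cfsg.pCore 2 ↥(cz z) :=
    Subgroup.comap_map_eq_self_of_injective (cz z).subtype_injective _
  have hn : (((Cfsg.pCore 2 ↥(cz z)).map (cz z).subtype).subgroupOf (cz z)).Normal := he.symm ▸ hJn
  refine ⟨hn, ⟨?_⟩⟩
  exact (QuotientGroup.quotientMulEquivOfEq he).trans e

end Cfsg.Agent.Lib.Fi22Recog95
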