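import Cfsg.Agent.Lib.Fi22Recog95.Quot
import Cfsg.Agent.Lib.Fi22Recog95.Setup

/-!
Recognition of Fi22: the centraliser of the image of `z` in `C(a) / ⟨a⟩`.

Owner: helper95.
-/

set_option autoImplicit false
set_option linter.unusedSectionVars false

namespace Cfsg.Agent.Lib.Fi22Recog95

universe u v

variable {G : Type u} [Group G] [Finite G] {z a : G} {J : Subgroup G}

theorem Hyp.swap_compl (S : Hyp z a J) (hE : ExtraCompl z a J) : ExtraCompl z (z * a) J := by
  obtain ⟨E, hle, hz, ha, he, hc⟩ := hE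
  exact ⟨E, hle, hz, fun h => ha (by simpa [← mul_assoc, S.zz] using E.mul_mem hz h), he, hc⟩

namespace Hyp

variable (S : Hyp z a J)
include S

/-- the centraliser of the image of `z` is the image of `C(z, a)` -/
theorem cen_eq_qimg :
    Subgroup.centralizer ({zq S.zc} : Set (Qa a)) = qimg a (cza z a) := by
  ext q
  obtain ⟨u, rfl⟩ := QuotientGroup.mk_surjective q
  rw [S.mem_cen_zq, mem_qimg S.aa (S.le_cza S.a_mem)]
  exact ⟨fun h => ⟨h, u.2⟩, fun h => h.1⟩

/-- the map of `C(z, a)` onto the centraliser of the image of `z` -/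
def toCen : ↥(cza z a) →* ↥(Subgroup.centralizer ({zq S.zc} : Set (Qa a))) :=
  ((QuotientGroup.mk' (acen a)).comp (Subgroup.inclusion inf_le_right)).codRestrict _ fun h => by
    exact S.mem_cen_zq.2 h.2.1

theorem toCen_surj : Function.Surjective S.toCen := by
  rintro ⟨q, hq⟩
  obtain ⟨u, rfl⟩ := QuotientGroup.mk_surjective q
  exact ⟨⟨u.1, S.mem_cen_zq.1 hq, u.2⟩, Subtype.ext rfl⟩

theorem toCen_ker {h : ↥(cza z a)} (hh : S.toCen h = 1) : (h : G) = 1 ∨ (h : G) = a := by
  have e : (QuotientGroup.mk (1 : ↥(cz a)) : Qa a) =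
      QuotientGroup.mk (Subgroup.inclusion (inf_le_right : cza z a ≤ cz a) h) :=
    (congrArg Subtype.val hh).symm
  simpa using (mk_eq_mk S.aa).1 e

/-- The core of the centraliser of the image of `z` is the image of `J`. -/
theorem core_data {M : Type v} [Group M] (f : ↥(cza z a) →* M) (hfs : Function.Surjective f)
    (hfk : ∀ h : ↥(cza z a), f h = 1 ↔ (h : G) ∈ J)
    (hM : ∀ N : Subgroup M, N.Normal → IsPGroup 2 N → N = ⊥) (hE : ExtraCompl z a J) :
    (Cfsg.pCore 2 ↥(Subgroup.centralizer ({zq S.zc} : Set (Qa a)))).map (Subgroup.subtype _) =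
        qimg a J ∧
      Cfsg.IsExtraspecial 2 ↥(Cfsg.pCore 2 ↥(Subgroup.centralizer ({zq S.zc} : Set (Qa a)))) ∧
      Nat.card ↥(Cfsg.pCore 2 ↥(Subgroup.centralizer ({zq S.zc} : Set (Qa a)))) = 2 ^ 9 ∧
      Subgroup.centralizer ((Cfsg.pCore 2 ↥(Subgroup.centralizer ({zq S.zc} : Set (Qa a)))) :
          Set ↥(Subgroup.centralizer ({zq S.zc} : Set (Qa a)))) ≤
        Cfsg.pCore 2 ↥(Subgroup.centralizer ({zq S.zc} : Set (Qa a))) ∧
      ∃ _h : (Cfsg.pCore 2 ↥(Subgroup.centralizer ({zq S.zc} : Set (Qa a)))).Normal,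
        Nonempty ((↥(Subgroup.centralizer ({zq S.zc} : Set (Qa a))) ⧸
          Cfsg.pCore 2 ↥(Subgroup.centralizer ({zq S.zc} : Set (Qa a)))) ≃* M) := by
  classical
  haveI : Fact (Nat.Prime 2) := ⟨Nat.prime_two⟩
  set P := Cfsg.pCore 2 ↥(Subgroup.centralizer ({zq S.zc} : Set (Qa a))) with hP
  set JJ := (J.subgroupOf (cza z a)).map S.toCen with hJJ
  have hJn : (J.subgroupOf (cza z a)).Normal := ⟨fun n hn k => S.norm k k.2.1 n hn⟩
  haveI hJJn : JJ.Normal := hJn.map _ S.toCen_surj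
  have hJJ2 : IsPGroup 2 JJ :=
    (S.two.comap_of_injective (cza z a).subtype (cza z a).subtype_injective).map _
  have hle : JJ ≤ P := Cores.le_pCore hJJ2
  have hPn : P.Normal := by
    refine ⟨fun n hn k => ?_⟩
    have hmap : P.map (MulAut.conj k).toMonoidHom = P := Cores.map_pCore_equiv (MulAut.conj k)
    exact hmap ▸ Subgroup.mem_map_of_mem (MulAut.conj k).toMonoidHom hn
  haveI := hPn
  have hker : IsPGroup 2 S.toCen.ker := fun x => by
    refine ⟨1, Subtype.ext (Subtype.ext ?_)⟩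
    rcases S.toCen_ker x.2 with e | e <;> simp [e, pow_two, S.aa]
  have hpre : P.comap S.toCen ≤ J.subgroupOf (cza z a) := by
    have hc2 : IsPGroup 2 (P.comap S.toCen) :=
      (Cores.pCore_isPGroup 2).comap_of_ker_isPGroup _ hker
    have hb := hM _ ((hPn.comap S.toCen).map f hfs) (hc2.map f)
    intro h hh
    have h1 := Subgroup.mem_map_of_mem f hh
    rw [hb, Subgroup.mem_bot] at h1
    exact (hfk h).1 h1
  have hPJ : P = JJ := le_antisymm (fun x hx => by
    obtain ⟨h, rfl⟩ := S.toCen_surj x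
    exact Subgroup.mem_map_of_mem _ (hpre hx)) hle
  have hmem : ∀ h : ↥(cza z a), S.toCen h ∈ P ↔ (h : G) ∈ J := fun h =>
    ⟨fun hh => hpre hh, fun hh => hle (Subgroup.mem_map_of_mem _ hh)⟩
  have hmapeq : P.map (Subgroup.subtype _) = qimg a J := by
    ext q
    constructor
    · rintro ⟨x, hx, rfl⟩
      obtain ⟨h, rfl⟩ := S.toCen_surj x
      exact (mem_qimg S.aa S.a_mem).2 ((hmem h).1 hx)
    · intro hq
      obtain ⟨u, rfl⟩ := QuotientGroup.mk_surjective q
      have hu := (mem_qimg S.aa S.a_mem).1 hq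
      exact ⟨S.toCen ⟨u.1, S.le hu, u.2⟩, (hmem _).2 hu, rfl⟩
  -- the extraspecial complement maps onto the core
  obtain ⟨E, hEJ, hzE, haE, hEs, hEc⟩ := hE
  let g : ↥E →* ↥(Subgroup.centralizer ({zq S.zc} : Set (Qa a))) :=
    S.toCen.comp (Subgroup.inclusion (hEJ.trans S.le_cza))
  have hgi : Function.Injective g := (injective_iff_map_eq_one g).2 fun x hx => by
    rcases S.toCen_ker hx with e | e
    · exact Subtype.ext e
    · exact absurd (show a ∈ E from (e : (x : G) = a) ▸ x.2) haE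
  have hEsup : ∀ j ∈ J, j ∈ E ∨ j * a ∈ E := by
    intro j hj
    have h2 : Nat.card J = 2 * Nat.card E := by rw [S.card, hEc]
    have hidx : (E.subgroupOf J).index = 2 := by
      have h1 := (E.subgroupOf J).card_mul_index
      rw [Nat.card_congr (Subgroup.subgroupOfEquivOfLe hEJ).toEquiv, h2, hEc] at h1
      omega
    have haJ : (⟨a, S.a_mem⟩ : ↥J) ∉ E.subgroupOf J := haE
    by_cases h : j ∈ E
    · exact Or.inl h
    · refine Or.inr ?_
      have := (Subgroup.mul_mem_iff_of_index_two hidx (a := ⟨j, hj⟩) (b := ⟨a, S.a_mem⟩)).2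
        (iff_of_false h haJ)
      exact this
  have hgr : g.range = P := by
    refine le_antisymm ?_ fun x hx => ?_
    · rintro _ ⟨x, rfl⟩
      exact (hmem _).2 (hEJ x.2)
    · obtain ⟨h, rfl⟩ := S.toCen_surj x
      rcases hEsup _ ((hmem h).1 hx) with h1 | h1
      · exact ⟨⟨h, h1⟩, rfl⟩
      · refine ⟨⟨(h : G) * a, h1⟩, ?_⟩
        refine Subtype.ext ((mk_eq_mk S.aa).2 (Or.inr ?_)).symm
        rfl
  let eE : ↥E ≃* ↥P := (MonoidHom.ofInjective hgi).trans (MulEquiv.subgroupCongr hgr)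
  refine ⟨hmapeq, FusionP3.GenExtra.isExtraspecial_congr eE hEs,
    by rw [← Nat.card_congr eE.toEquiv, hEc]; norm_num, ?_, hPn, ⟨?_⟩⟩
  · intro x hx
    obtain ⟨h, rfl⟩ := S.toCen_surj x
    refine (hmem h).2 (S.mem_of_stab h.2 fun j hj => ?_)
    have h1 := Subgroup.mem_centralizer_iff.1 hx (S.toCen ⟨j, S.le_cza hj⟩) ((hmem _).2 hj)
    rw [← map_mul, ← map_mul] at h1
    have h2 : S.toCen ((⟨j, S.le_cza hj⟩ * h)⁻¹ * (h * ⟨j, S.le_cza hj⟩)) = 1 := by
      rw [map_mul, map_inv, h1, inv_mul_cancel]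
    have hha : (h : G) * a = a * h := mem_cz.1 h.2.2
    rcases S.toCen_ker h2 with e | e
    · refine ⟨1, Or.inl rfl, ?_⟩
      simp only [Subgroup.coe_mul, Subgroup.coe_inv] at e
      rw [mul_one, mul_inv_eq_iff_eq_mul, (inv_mul_eq_one.1 e)]
    · refine ⟨a, Or.inr (Or.inr (Or.inl rfl)), ?_⟩
      simp only [Subgroup.coe_mul, Subgroup.coe_inv] at e
      rw [mul_inv_eq_iff_eq_mul, inv_mul_eq_iff_eq_mul.1 e, mul_assoc, hha, mul_assoc]
  · let k : ↥(cza z a) →* ↥(Subgroup.centralizer ({zq S.zc} : Set (Qa a))) ⧸ P :=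
      (QuotientGroup.mk' P).comp S.toCen
    have hks : Function.Surjective k := (QuotientGroup.mk'_surjective P).comp S.toCen_surj
    have hkk : k.ker = f.ker := by
      ext h
      rw [MonoidHom.mem_ker, MonoidHom.mem_ker, hfk, ← hmem]
      exact QuotientGroup.eq_one_iff _
    exact (QuotientGroup.quotientKerEquivOfSurjective k hks).symm.trans
      ((QuotientGroup.quotientMulEquivOfEq hkk).trans (QuotientGroup.quotientKerEquivOfSurjective f hfs))

end Hyp

end Cfsg.Agent.Lib.Fi22Recog95
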