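import Cfsg.Agent.Lib.Cores.Basic
import Cfsg.Agent.Lib.HalfClasses.Local
import Cfsg.Prelude.Def_Solvable

/-!
Recognition of Fi22 from a centraliser `(2 × 2^{1+8}).U4(2).2`: the centraliser `H` of `z`, its core `J`
with centre `{1, z, a, z a}`, Sylow subgroups and fusion inside the centre of `J`.
-/

set_option autoImplicit false
set_option linter.unusedSectionVars false

namespace Cfsg.Agent.Lib.Fi22Recog95

variable {G : Type*} [Group G]

/-- The centraliser of `z`. -/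
abbrev cz (z : G) : Subgroup G := Subgroup.centralizer ({z} : Set G)

/-- The centraliser of `z` and `a`. -/
abbrev cza (z a : G) : Subgroup G := cz z ⊓ cz a

theorem mem_cz {z g : G} : g ∈ cz z ↔ g * z = z * g := Subgroup.mem_centralizer_singleton_iff

theorem mem_cz_conj {z g : G} : g ∈ cz z ↔ g * z * g⁻¹ = z := by
  rw [mem_cz, mul_inv_eq_iff_eq_mul]

/-- The core `J` of `H = C(z)`, with centre `{1, z, a, z a}` and derived group `{1, z}`. -/
structure Hyp (z a : G) (J : Subgroup G) : Prop where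
  zz : z * z = 1
  z_ne : z ≠ 1
  aa : a * a = 1
  a_ne : a ≠ 1
  az : a ≠ z
  le : J ≤ cz z
  norm : ∀ h ∈ cz z, ∀ j ∈ J, h * j * h⁻¹ ∈ J
  card : Nat.card J = 1024
  z_mem : z ∈ J
  a_mem : a ∈ J
  two : IsPGroup 2 J
  core : ∀ N : Subgroup G, N ≤ cz z → (∀ h ∈ cz z, ∀ n ∈ N, h * n * h⁻¹ ∈ N) → IsPGroup 2 N → N ≤ J
  selfc : ∀ h ∈ cz z, (∀ j ∈ J, h * j = j * h) → h ∈ J
  a_cent : ∀ j ∈ J, j * a = a * j
  cen : ∀ q ∈ J, (∀ j ∈ J, q * j = j * q) → q = 1 ∨ q = z ∨ q = a ∨ q = z * a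
  sq : ∀ j ∈ J, j * j = 1 ∨ j * j = z
  comm : ∀ x ∈ J, ∀ y ∈ J, x * y * x⁻¹ = y ∨ x * y * x⁻¹ = y * z
  nonab : ∃ x ∈ J, ∃ y ∈ J, x * y * x⁻¹ = y * z

namespace Hyp

variable {z a : G} {J : Subgroup G} (S : Hyp z a J)
include S

theorem z_cent : ∀ j ∈ J, j * z = z * j := fun _ hj => mem_cz.1 (S.le hj)

theorem za_comm : z * a = a * z := S.a_cent z S.z_mem

theorem zinv : z⁻¹ = z := inv_eq_of_mul_eq_one_right S.zz

theorem ainv : a⁻¹ = a := inv_eq_of_mul_eq_one_right S.aa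

theorem za_za : z * a * (z * a) = 1 := by
  rw [mul_assoc, ← mul_assoc a, ← S.za_comm, mul_assoc, S.aa, mul_one, S.zz]

theorem za_ne : z * a ≠ 1 := fun h => S.az (by
  have := congrArg (z * ·) h
  simpa [← mul_assoc, S.zz] using this)

theorem za_ne_z : z * a ≠ z := fun h => S.a_ne (mul_eq_left.1 h)

theorem za_ne_a : z * a ≠ a := fun h => S.z_ne (mul_eq_right.1 h)

theorem za_mem : z * a ∈ J := mul_mem S.z_mem S.a_mem

theorem cen_za : ∀ j ∈ J, j * (z * a) = z * a * j := fun j hj => by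
  rw [← mul_assoc, S.z_cent j hj, mul_assoc, S.a_cent j hj, ← mul_assoc]

theorem z_mem_cza : z ∈ cza z a :=
  ⟨mem_cz.2 rfl, mem_cz.2 S.za_comm⟩

theorem le_cza : J ≤ cza z a := fun j hj => ⟨S.le hj, mem_cz.2 (S.a_cent j hj)⟩

/-- An element of `H` fixes `a` or exchanges it with `z a`. -/
theorem conj_a {h : G} (hh : h ∈ cz z) : h * a * h⁻¹ = a ∨ h * a * h⁻¹ = z * a := by
  have hz := mem_cz_conj.1 hh
  have hc : ∀ j ∈ J, h * a * h⁻¹ * j = j * (h * a * h⁻¹) := by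
    intro j hj
    have hj' : h⁻¹ * j * h ∈ J := by
      simpa using S.norm h⁻¹ (inv_mem hh) j hj
    calc h * a * h⁻¹ * j = h * (a * (h⁻¹ * j * h)) * h⁻¹ := by group
      _ = h * (h⁻¹ * j * h * a) * h⁻¹ := by rw [S.a_cent _ hj']
      _ = _ := by group
  rcases S.cen _ (S.norm h hh a S.a_mem) hc with e | e | e | e
  · exact absurd (conj_eq_one_iff.1 e) S.a_ne
  · exact absurd ((MulAut.conj h).injective (e.trans hz.symm)) S.az
  · exact Or.inl e
  · exact Or.inr e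

theorem conj_za {h : G} (hh : h ∈ cz z) : h * (z * a) * h⁻¹ = z * (h * a * h⁻¹) := by
  calc h * (z * a) * h⁻¹ = (h * z * h⁻¹) * (h * a * h⁻¹) := by group
    _ = _ := by rw [mem_cz_conj.1 hh]

/-- Two elements moving `a` differ by one fixing it. -/
theorem mul_mem_cza {h k : G} (hh : h ∈ cz z) (hk : k ∈ cz z) (h1 : h ∉ cz a) (h2 : k ∉ cz a) :
    h * k ∈ cza z a := by
  refine ⟨mul_mem hh hk, mem_cz_conj.2 ?_⟩
  have e1 := (S.conj_a hh).resolve_left fun e => h1 (mem_cz_conj.2 e)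
  have e2 := (S.conj_a hk).resolve_left fun e => h2 (mem_cz_conj.2 e)
  calc h * k * a * (h * k)⁻¹ = h * (k * a * k⁻¹) * h⁻¹ := by group
    _ = z * (z * a) := by rw [e2, S.conj_za hh, e1]
    _ = a := by rw [← mul_assoc, S.zz, one_mul]

theorem cza_normal {h n : G} (hh : h ∈ cz z) (hn : n ∈ cza z a) : h * n * h⁻¹ ∈ cza z a := by
  refine ⟨(cz z).mul_mem ((cz z).mul_mem hh hn.1) ((cz z).inv_mem hh), mem_cz.2 ?_⟩
  have hna := mem_cz.1 hn.2
  have hnza : n * (z * a) = z * a * n := by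
    rw [← mul_assoc, mem_cz.1 hn.1, mul_assoc, hna, ← mul_assoc]
  have key : ∀ w : G, n * w = w * n → h * n * h⁻¹ * (h * w * h⁻¹) = h * w * h⁻¹ * (h * n * h⁻¹) := by
    intro w hw
    calc h * n * h⁻¹ * (h * w * h⁻¹) = h * (n * w) * h⁻¹ := by group
      _ = h * (w * n) * h⁻¹ := by rw [hw]
      _ = _ := by group
  rcases S.conj_a hh with e | e
  · simpa only [e] using key a hna
  · have := key (z * a) hnza
    rwa [S.conj_za hh, e, ← mul_assoc z z a, S.zz, one_mul] at this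

/-- An element fixing `a` and acting trivially on `J` modulo its centre lies in `J`. -/
theorem mem_of_stab {h : G} (hh : h ∈ cza z a)
    (hs : ∀ j ∈ J, ∃ w, (w = 1 ∨ w = z ∨ w = a ∨ w = z * a) ∧ h * j * h⁻¹ = j * w) : h ∈ J := by
  let Ok : G → Prop := fun g =>
    g ∈ cza z a ∧ ∀ j ∈ J, ∃ w, (w = 1 ∨ w = z ∨ w = a ∨ w = z * a) ∧ g * j * g⁻¹ = j * w
  have hfix : ∀ g, g ∈ cza z a → ∀ w, (w = 1 ∨ w = z ∨ w = a ∨ w = z * a) → g * w * g⁻¹ = w := by
    intro g hg w hw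
    have h1 := mem_cz_conj.1 hg.1
    have h2 := mem_cz_conj.1 hg.2
    rcases hw with rfl | rfl | rfl | rfl
    · simp
    · exact h1
    · exact h2
    · rw [S.conj_za hg.1, h2]
  have hmul : ∀ w v, (w = 1 ∨ w = z ∨ w = a ∨ w = z * a) → (v = 1 ∨ v = z ∨ v = a ∨ v = z * a) →
      (w * v = 1 ∨ w * v = z ∨ w * v = a ∨ w * v = z * a) := by
    intro w v hw hv
    have e1 : a * (z * a) = z := by rw [S.za_comm, ← mul_assoc, S.aa, one_mul]
    have e2 : z * (z * a) = a := by rw [← mul_assoc, S.zz, one_mul]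
    have e3 : z * a * a = z := by rw [mul_assoc, S.aa, mul_one]
    have e4 : z * a * z = a := by rw [S.za_comm, mul_assoc, S.zz, mul_one]
    rcases hw with rfl | rfl | rfl | rfl <;> rcases hv with rfl | rfl | rfl | rfl <;>
      simp [S.zz, S.aa, S.za_za, e1, e2, e3, e4, ← S.za_comm]
  let N : Subgroup G :=
    { carrier := {g | Ok g}
      one_mem' := ⟨one_mem _, fun j _ => ⟨1, Or.inl rfl, by simp⟩⟩
      mul_mem' := by
        rintro g k ⟨hg, hg'⟩ ⟨hk, hk'⟩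
        refine ⟨mul_mem hg hk, fun j hj => ?_⟩
        obtain ⟨w, hw, e⟩ := hk' j hj
        obtain ⟨v, hv, e'⟩ := hg' j hj
        refine ⟨v * w, hmul v w hv hw, ?_⟩
        calc g * k * j * (g * k)⁻¹ = g * (k * j * k⁻¹) * g⁻¹ := by group
          _ = g * j * g⁻¹ * (g * w * g⁻¹) := by rw [e]; group
          _ = j * (v * w) := by rw [e', hfix g hg w hw, mul_assoc]
      inv_mem' := by
        rintro g ⟨hg, hg'⟩
        refine ⟨inv_mem hg, fun j hj => ?_⟩
        obtain ⟨w, hw, e⟩ := hg' j hj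
        have hw2 : w * w = 1 := by
          rcases hw with rfl | rfl | rfl | rfl
          exacts [one_mul _, S.zz, S.aa, S.za_za]
        refine ⟨w, hw, ?_⟩
        have e' : j = g * j * g⁻¹ * w := by rw [e, mul_assoc, hw2, mul_one]
        calc g⁻¹ * j * g⁻¹⁻¹ = g⁻¹ * (g * j * g⁻¹ * w) * g := by rw [inv_inv, ← e']
          _ = j * (g⁻¹ * w * g⁻¹⁻¹) := by group
          _ = j * w := by rw [hfix _ (inv_mem hg) w hw] }
  have hN2 : IsPGroup 2 N := by
    rintro ⟨g, hg, hg'⟩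
    have hgg : g * g ∈ J := S.selfc _ (mul_mem hg.1 hg.1) fun j hj => by
      obtain ⟨w, hw, e⟩ := hg' j hj
      have hw2 : w * w = 1 := by
        rcases hw with rfl | rfl | rfl | rfl
        exacts [one_mul _, S.zz, S.aa, S.za_za]
      rw [← mul_inv_eq_iff_eq_mul]
      calc g * g * j * (g * g)⁻¹ = g * (g * j * g⁻¹) * g⁻¹ := by group
        _ = g * j * g⁻¹ * (g * w * g⁻¹) := by conv_lhs => rw [e]
                                              group
        _ = j := by rw [e, hfix g hg w hw, mul_assoc, hw2, mul_one]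
    obtain ⟨k, hk⟩ := S.two ⟨g * g, hgg⟩
    refine ⟨k + 1, Subtype.ext ?_⟩
    have hk' : (g * g) ^ 2 ^ k = 1 := congrArg Subtype.val hk
    show g ^ 2 ^ (k + 1) = 1
    rw [pow_succ', pow_mul, pow_two, hk']
  refine S.core N (fun g hg => hg.1.1) ?_ hN2 ⟨hh, hs⟩
  rintro k hk g ⟨hg, hg'⟩
  refine ⟨S.cza_normal hk hg, fun j hj => ?_⟩
  have hj' : k⁻¹ * j * k ∈ J := by simpa using S.norm k⁻¹ (inv_mem hk) j hj
  obtain ⟨w, hw, e⟩ := hg' _ hj'
  refine ⟨k * w * k⁻¹, ?_, ?_⟩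
  · rcases hw with rfl | rfl | rfl | rfl
    · left; simp
    · right; left; exact mem_cz_conj.1 hk
    · rcases S.conj_a hk with e | e
      · exact Or.inr (Or.inr (Or.inl e))
      · exact Or.inr (Or.inr (Or.inr e))
    · rw [S.conj_za hk]
      rcases S.conj_a hk with e | e <;> rw [e]
      · exact Or.inr (Or.inr (Or.inr rfl))
      · exact Or.inr (Or.inr (Or.inl (by rw [← mul_assoc, S.zz, one_mul])))
  · calc k * g * k⁻¹ * j * (k * g * k⁻¹)⁻¹ = k * (g * (k⁻¹ * j * k) * g⁻¹) * k⁻¹ := by group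
      _ = _ := by rw [e]; group

variable [Finite G]

/-- `J` contains every normal 2-subgroup of `C(Z)`. -/
theorem le_of_cza (N : Subgroup G) (hle : N ≤ cza z a)
    (hn : ∀ h ∈ cza z a, ∀ n ∈ N, h * n * h⁻¹ ∈ N) (h2 : IsPGroup 2 N) : N ≤ J := by
  have hnorm : (N.subgroupOf (cza z a)).Normal := ⟨fun n hn' h => hn h h.2 n hn'⟩
  have hN' : N.subgroupOf (cza z a) ≤ Cfsg.pCore 2 ↥(cza z a) :=
    Cores.le_pCore (h2.of_equiv (Subgroup.subgroupOfEquivOfLe hle).symm)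
  intro n hn'
  refine S.core ((Cfsg.pCore 2 ↥(cza z a)).map (cza z a).subtype) ?_ ?_ ?_
    ⟨⟨n, hle hn'⟩, hN' hn', rfl⟩
  · rintro _ ⟨u, -, rfl⟩
    exact u.2.1
  · rintro h hh _ ⟨u, hu, rfl⟩
    let f : ↥(cza z a) ≃* ↥(cza z a) :=
      { toFun := fun u => ⟨h * u * h⁻¹, S.cza_normal hh u.2⟩
        invFun := fun u => ⟨h⁻¹ * u * h, by simpa using S.cza_normal (inv_mem hh) u.2⟩
        left_inv := fun u => Subtype.ext (by simp [mul_assoc])
        right_inv := fun u => Subtype.ext (by simp [mul_assoc])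
        map_mul' := fun u v => Subtype.ext (by simp [mul_assoc]) }
    exact ⟨f u, (Cores.map_pCore_equiv (p := 2) f).le ⟨u, hu, rfl⟩, rfl⟩
  · exact (Cores.pCore_isPGroup 2).map _

/-- An element normalising `C(Z)` fixes `z`. -/
theorem mem_cz_of_norm {g : G} (hset : ∀ u ∈ cza z a, g * u * g⁻¹ ∈ cza z a) : g ∈ cz z := by
  let N : Subgroup G := J.map (MulAut.conj g).toMonoidHom
  have hle : N ≤ J := by
    refine S.le_of_cza N ?_ ?_ (S.two.map _)
    · rintro _ ⟨j, hj, rfl⟩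
      exact hset j (S.le_cza hj)
    · rintro h hh _ ⟨j, hj, rfl⟩
      have hmap : (cza z a).map (MulAut.conj g).toMonoidHom = cza z a :=
        Subgroup.eq_of_le_of_card_ge (fun _ hx => by
            obtain ⟨u, hu, rfl⟩ := hx
            exact hset u hu)
          (Nat.card_congr ((cza z a).equivMapOfInjective (MulAut.conj g).toMonoidHom
            (MulAut.conj g).injective).toEquiv).le
      obtain ⟨u, hu, rfl⟩ := hmap.ge hh
      exact ⟨u * j * u⁻¹, S.norm u hu.1 j hj, by simp [mul_assoc]⟩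
  obtain ⟨x, hx, y, hy, hxy⟩ := S.nonab
  have hxg : g * x * g⁻¹ ∈ J := hle ⟨x, hx, rfl⟩
  have hyg : g * y * g⁻¹ ∈ J := hle ⟨y, hy, rfl⟩
  have e : g * x * g⁻¹ * (g * y * g⁻¹) * (g * x * g⁻¹)⁻¹ = g * y * g⁻¹ * (g * z * g⁻¹) := by
    calc g * x * g⁻¹ * (g * y * g⁻¹) * (g * x * g⁻¹)⁻¹ = g * (x * y * x⁻¹) * g⁻¹ := by group
      _ = _ := by rw [hxy]; group
  refine mem_cz_conj.2 ?_
  rcases S.comm _ hxg _ hyg with h | h
  · rw [h] at e
    exact absurd (conj_eq_one_iff.1 (left_eq_mul.1 e)) S.z_ne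
  · rw [h] at e
    exact (mul_left_cancel e).symm

/-- An element permuting `z`, `a`, `z a` fixes `z`. -/
theorem mem_cz_of_perm {g : G} (h1 : g * z * g⁻¹ = z ∨ g * z * g⁻¹ = a ∨ g * z * g⁻¹ = z * a)
    (h2 : g * a * g⁻¹ = z ∨ g * a * g⁻¹ = a ∨ g * a * g⁻¹ = z * a) : g ∈ cz z := by
  have hset : ∀ u ∈ cza z a, g * u * g⁻¹ ∈ cza z a := by
    intro u hu
    have hza : ∀ w : G, (w = z ∨ w = a ∨ w = z * a) → u * w = w * u := by
      rintro w (rfl | rfl | rfl)
      · exact mem_cz.1 hu.1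
      · exact mem_cz.1 hu.2
      · rw [← mul_assoc, mem_cz.1 hu.1, mul_assoc, mem_cz.1 hu.2, ← mul_assoc]
    have key : ∀ w : G, u * w = w * u →
        g * u * g⁻¹ * (g * w * g⁻¹) = g * w * g⁻¹ * (g * u * g⁻¹) := by
      intro w hw
      calc g * u * g⁻¹ * (g * w * g⁻¹) = g * (u * w) * g⁻¹ := by group
        _ = g * (w * u) * g⁻¹ := by rw [hw]
        _ = _ := by group
    have kz := key z (hza z (Or.inl rfl))
    have ka := key a (hza a (Or.inr (Or.inl rfl)))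
    have kza := key (z * a) (hza _ (Or.inr (Or.inr rfl)))
    rw [show g * (z * a) * g⁻¹ = (g * z * g⁻¹) * (g * a * g⁻¹) by group] at kza
    have e1 : a * (z * a) = z := by rw [S.za_comm, ← mul_assoc, S.aa, one_mul]
    have e2 : z * (z * a) = a := by rw [← mul_assoc, S.zz, one_mul]
    have e3 : z * a * a = z := by rw [mul_assoc, S.aa, mul_one]
    have e4 : z * a * z = a := by rw [S.za_comm, mul_assoc, S.zz, mul_one]
    have e5 : g * z * g⁻¹ ≠ g * a * g⁻¹ := fun h => S.az ((MulAut.conj g).injective h).symm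
    generalize g * u * g⁻¹ = v at kz ka kza ⊢
    rcases h1 with h1 | h1 | h1 <;> rcases h2 with h2 | h2 | h2 <;> rw [h1, h2] at e5 <;>
      rw [h1] at kz kza <;> rw [h2] at ka kza <;>
      (try simp only [S.zz, S.aa, e1, e2, e3, e4, ← S.za_comm] at kz ka kza) <;>
      first
        | exact absurd rfl e5
        | exact ⟨mem_cz.2 kz, mem_cz.2 ka⟩
        | exact ⟨mem_cz.2 kz, mem_cz.2 kza⟩
        | exact ⟨mem_cz.2 ka, mem_cz.2 kz⟩
        | exact ⟨mem_cz.2 ka, mem_cz.2 kza⟩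
        | exact ⟨mem_cz.2 kza, mem_cz.2 kz⟩
        | exact ⟨mem_cz.2 kza, mem_cz.2 ka⟩
  exact S.mem_cz_of_norm hset

theorem J_le_sylow {T : Subgroup G} (hT : IsPGroup 2 T) (hle : T ≤ cz z)
    (hmax : ∀ R : Subgroup G, IsPGroup 2 R → R ≤ cz z → T ≤ R → R = T) : J ≤ T := by
  have h : IsPGroup 2 (T ⊔ J : Subgroup G) := hT.to_sup_of_normal_right' S.two
    fun t ht => Subgroup.mem_normalizer_iff.2 fun j => ⟨S.norm t (hle ht) j, fun h' => by
      simpa [mul_assoc] using S.norm t⁻¹ (inv_mem (hle ht)) _ h'⟩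
  exact le_sup_right.trans (hmax _ h (sup_le hle S.le) le_sup_left).le

end Hyp

end Cfsg.Agent.Lib.Fi22Recog95
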