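import Cfsg.Agent.Lib.Fi22Recog95.Inner

/-!
Recognition of Fi22: the six-dimensional module and outer involutions; there is no unlinked commuting
pair at all.
-/

set_option autoImplicit false
set_option linter.unusedSectionVars false

namespace Cfsg.Agent.Lib.Fi22Recog95

variable {G : Type*} [Group G] [Finite G] {z a : G} {J H1 : Subgroup G}

namespace Ctx

variable (X : Ctx z a J H1) {g : G}
include X

/-- The commutator of the transported square root of `z` with an element of `J` centralising `x'`. -/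
theorem transported_com {e : G} (he : ∀ h ∈ cza z a, InZ z a (h * e * h⁻¹ * e⁻¹))
    (heg : g⁻¹ * e * g ∈ cz z) {q : G} (hq : q ∈ J) (hqg : g * q * g⁻¹ ∈ cza z a) :
    ∃ w, InZ z a w ∧ g⁻¹ * e * g * q * (g⁻¹ * e * g)⁻¹ * q⁻¹ = g⁻¹ * w * g ∧ g⁻¹ * w * g ∈ J := by
  refine ⟨(g * q * g⁻¹ * e * (g * q * g⁻¹)⁻¹ * e⁻¹)⁻¹, ?_, by group, ?_⟩
  · rw [X.hyp.inZ_inv (he _ hqg)]; exact he _ hqg
  · rw [show g⁻¹ * (g * q * g⁻¹ * e * (g * q * g⁻¹)⁻¹ * e⁻¹)⁻¹ * g =
      g⁻¹ * e * g * q * (g⁻¹ * e * g)⁻¹ * q⁻¹ by group]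
    exact mul_mem (X.hyp.norm _ heg q hq) (inv_mem hq)

/-- In the six-dimensional module no conjugate is linked to `z`. -/
theorem six_not_linked (N : SixFacts z a J H1) (L : LFacts z a J H1) : False := by
  have S := X.hyp
  obtain ⟨g, hga, hne, hcomm⟩ := L.ne
  obtain ⟨hxH, hxJ, hx256⟩ := L.link g hga hne hcomm
  set x := g * z * g⁻¹ with hxdef
  set x' := g⁻¹ * z * g⁻¹⁻¹ with hx'def
  have hx'c : x' * z = z * x' := conj_comm_symm (show x * z = z * x from hcomm.symm)
  obtain ⟨hx'H, hx'J, hx'256⟩ :=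
    L.link g⁻¹ (inv_mem hga) (fun h => hne (eq_conj_iff.2 h)) (show z * x' = x' * z from hx'c.symm)
  obtain ⟨e, heJ, hee, he⟩ := N.triv
  have hset : ∀ y : G, {j | j ∈ J ∧ Commute y j} = ((PJ J y : Subgroup G) : Set G) := fun y => by
    ext j
    exact ⟨fun h => ⟨h.1, mem_cz.2 h.2.eq.symm⟩, fun h => ⟨h.1, (mem_cz.1 h.2).symm⟩⟩
  rw [hset] at hx256 hx'256
  have hinv : Inv2 J x := ⟨by rw [X.x_sq]; exact one_mem _, hxJ⟩
  have heq : PJ J x = Hyp.cvs S x := Subgroup.eq_of_le_of_card_ge (S.pj_le_cvs x) (by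
    show Nat.card (CV z a J x) ≤ _
    rw [N.size x hxH hinv]; exact hx256.ge)
  have hex : e ∈ cz x := (heq.ge (⟨heJ, he x (X.h1_le hxH)⟩ : e ∈ Hyp.cvs S x)).2
  set e' := g⁻¹ * e * g with he'def
  have he'z : e' ∈ cz z := cz_conj hex
  have he'a : e' ∈ cz a := mul_mem (mul_mem (inv_mem hga) (S.le_cza heJ).2) hga
  have he2 : e' * e' = x' := by
    calc e' * e' = g⁻¹ * (e * e) * g := by rw [he'def]; group
      _ = x' := by rw [hee, hx'def]; group
  have hinv' : Inv2 J (e' * e') := by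
    rw [he2]; exact ⟨by rw [X.x_sq]; exact one_mem _, hx'J⟩
  have hle : PJ J x' ≤ Hyp.cvs S e' := by
    rintro q ⟨hq, hqx⟩
    have hqg : g * q * g⁻¹ ∈ cza z a := by
      refine ⟨?_, (cz a).mul_mem ((cz a).mul_mem hga (S.le_cza hq).2) ((cz a).inv_mem hga)⟩
      have := cz_conj hqx
      rwa [inv_inv] at this
    obtain ⟨w, hw, hcom, hwJ⟩ := X.transported_com he he'z hq hqg
    refine ⟨hq, ?_⟩
    rw [hcom]
    have hga' : g⁻¹ * a * g = a := by
      rw [mul_assoc, ← mem_cz.1 hga, inv_mul_cancel_left]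
    rcases hw with rfl | rfl | rfl | rfl
    · left; group
    · exact absurd (by simpa only [inv_inv] using hwJ) hx'J
    · rw [hga']; exact Or.inr (Or.inr (Or.inl rfl))
    · refine absurd ?_ hx'J
      have h := mul_mem hwJ S.a_mem
      have hx'e : g⁻¹ * z * g⁻¹⁻¹ = g⁻¹ * (z * a) * g * (g⁻¹ * a * g) := by
        calc g⁻¹ * z * g⁻¹⁻¹ = g⁻¹ * (z * (a * a)) * g := by rw [S.aa]; group
          _ = _ := by group
      rwa [hx'e, hga']
  have h4 := (N.four e' ⟨he'z, he'a⟩ hinv').1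
  have h5 := Subgroup.card_le_of_le hle
  change Nat.card (PJ J x') ≤ Nat.card (CV z a J e') at h5
  change Nat.card (PJ J x') = 256 at hx'256
  omega

/-- In the six-dimensional module `C(a)` has `z` isolated. -/
theorem six_kfacts (C : Comp z a J H1) (N : SixFacts z a J H1) : KFacts z a :=
  C.kla.resolve_right fun L => X.six_not_linked N L

/-- Six-dimensional module: the companions of an inner `x` are inner. -/
theorem six_d_inner (C : Comp z a J H1) (N : SixFacts z a J H1) (P : IPair z a g)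
    (hx1 : g * z * g⁻¹ ∈ H1) : g * (z * a) * g⁻¹ ∈ H1 := by
  by_contra hd
  have S := X.hyp
  have hxJ := X.not_mem_J C P
  have Ka := X.six_kfacts C N
  set x := g * z * g⁻¹ with hxdef
  set c := g * a * g⁻¹ with hcdef
  set d := g * (z * a) * g⁻¹ with hddef
  have hdxc : d = x * c := d_eq X
  have hinv : Inv2 J x := ⟨by rw [X.x_sq]; exact one_mem _, hxJ⟩
  have hdd : d * d ∈ J := by rw [X.d_sq]; exact one_mem _
  have hdx : x * d = d * x := by
    rw [hdxc]
    exact Commute.mul_right (Commute.refl x) (show x * c = c * x from X.cx_comm.symm)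
  have hcm : CommMod J d x := by
    unfold CommMod
    rw [← hdx, mul_inv_cancel_right, mul_inv_cancel]
    exact one_mem _
  have h128 : 128 ≤ Nat.card (CV z a J d ∩ CV z a J x : Set G) := by
    have h1 : Nat.card (PJ J x) ≤ Nat.card (CV z a J d ∩ CV z a J x : Set G) :=
      Subgroup.card_le_of_le (K := Hyp.cvs S d ⊓ Hyp.cvs S x) fun j hj =>
        ⟨S.pj_le_cvs d ⟨hj.1, (X.pj_fix P hxJ hj).2⟩, S.pj_le_cvs x hj⟩
    have h2 := X.cv_le_two hx1 hinv.1
    rw [N.size x hx1 hinv] at h2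
    omega
  obtain ⟨v, hv, hvx, hv2⟩ := N.outer d (X.d_cza P) hd hdd x hx1 hinv hcm h128
  have hvJ := hvx.1
  have hdv : d * v * d⁻¹ = z * v := by
    rw [S.iv_inv (X.d_cza P) X.d_sq hv]
    exact inv_eq_of_mul_eq_one_right (by rw [← mul_assoc, S.z_cent v hvJ, mul_assoc, hv2, S.zz])
  have hcv : c = x * d := by rw [hdxc, ← mul_assoc, X.x_sq, one_mul]
  rcases X.mod.split x hx1 hinv.1 v hvx with e | e
  · -- `d` would centralise `v`
    have hxv : v ∈ PJ J x :=
      ⟨hvJ, mem_cz.2 (mul_inv_eq_iff_eq_mul.1 (mul_inv_eq_one.1 e)).symm⟩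
    have h3 := mem_cz_conj.1 (mem_cz_symm (X.pj_fix P hxJ hxv).2)
    rw [hdv] at h3
    exact S.z_ne (mul_eq_right.1 h3)
  · -- `c` centralises `v`, so `x` does
    have hvc : v ∈ PJ J c := by
      refine ⟨hvJ, mem_cz.2 ?_⟩
      have h3 : c * v * c⁻¹ = v := by
        calc c * v * c⁻¹ = x * (d * v * d⁻¹) * x⁻¹ := by rw [hcv]; group
          _ = (x * z * x⁻¹) * (x * v * x⁻¹) := by rw [hdv]; group
          _ = z * (z * v) := by
              rw [mul_inv_eq_iff_eq_mul.1 e, mem_cz_conj.1 (x_mem P)]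
          _ = v := by rw [← mul_assoc, S.zz, one_mul]
      exact (mul_inv_eq_iff_eq_mul.1 h3).symm
    have h4 := mem_cz_conj.1 (mem_cz_symm (X.pj_le Ka (x_mem P) hvc).2)
    rw [h4, mul_inv_cancel] at e
    exact S.z_ne e.symm

/-- Six-dimensional module: `x` is not inner. -/
theorem six_inner (C : Comp z a J H1) (N : SixFacts z a J H1) (P : IPair z a g)
    (hx1 : g * z * g⁻¹ ∈ H1) : False := by
  have S := X.hyp
  have hxJ := X.not_mem_J C P
  have Ka := X.six_kfacts C N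
  have hd1 := X.six_d_inner C N P hx1
  set x := g * z * g⁻¹ with hxdef
  set c := g * a * g⁻¹ with hcdef
  set d := g * (z * a) * g⁻¹ with hddef
  have hdxc : d = x * c := d_eq X
  have hcv : c = x * d := by rw [hdxc, ← mul_assoc, X.x_sq, one_mul]
  have hc1 : c ∈ H1 := hcv ▸ mul_mem hx1 hd1
  have hinv : Inv2 J x := ⟨by rw [X.x_sq]; exact one_mem _, hxJ⟩
  obtain ⟨e, heJ, hee, he⟩ := N.triv
  have hex : e ∈ PJ J x := by
    by_contra hne
    have hmove : ∀ y ∈ H1, y * y = 1 → e ∉ PJ J y → y * e * y⁻¹ = z * e := by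
      intro y hy hy2 hne'
      rcases X.mod.split y hy (by rw [hy2]; exact one_mem _) e ⟨heJ, he y (X.h1_le hy)⟩ with f | f
      · exact absurd ⟨heJ, mem_cz.2 (mul_inv_eq_iff_eq_mul.1 (mul_inv_eq_one.1 f)).symm⟩ hne'
      · exact mul_inv_eq_iff_eq_mul.1 f
    have hxe := hmove x hx1 X.x_sq hne
    have hde := hmove d hd1 X.d_sq fun h => hne (X.pj_le C.kza (x_mem P) h)
    have hce : c * e * c⁻¹ = e := by
      calc c * e * c⁻¹ = x * (d * e * d⁻¹) * x⁻¹ := by rw [hcv]; group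
        _ = (x * z * x⁻¹) * (x * e * x⁻¹) := by rw [hde]; group
        _ = z * (z * e) := by rw [hxe, mem_cz_conj.1 (x_mem P)]
        _ = e := by rw [← mul_assoc, S.zz, one_mul]
    exact hne (X.pj_le Ka (x_mem P) ⟨heJ, mem_cz.2 (mul_inv_eq_iff_eq_mul.1 hce).symm⟩)
  set x' := g⁻¹ * z * g⁻¹⁻¹ with hx'def
  set c' := g⁻¹ * a * g⁻¹⁻¹ with hc'def
  have P' := X.symm P
  have hx'J : x' ∉ J := X.not_mem_J C P'
  set e' := g⁻¹ * e * g with he'def
  have he'z : e' ∈ cz z := cz_conj hex.2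
  have he'a : e' ∈ cz a := cz_conj (X.pj_fix P hxJ hex).1
  have he2 : e' * e' = x' := by
    calc e' * e' = g⁻¹ * (e * e) * g := by rw [he'def]; group
      _ = x' := by rw [hee, hx'def]; group
  have hx'1 : x' ∈ H1 := he2 ▸ X.sq_mem_h1 he'z
  have hd'1 := X.six_d_inner C N P' hx'1
  have hd'eq : g⁻¹ * (z * a) * g⁻¹⁻¹ = x' * c' := d_eq X
  have hc'1 : c' ∈ H1 := by
    have h := mul_mem hx'1 hd'1
    rwa [hd'eq, ← mul_assoc, X.x_sq, one_mul] at h
  have hd'J := X.d_not_mem C P' hx'J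
  have hc'J : c' ∉ J := fun h => hx'J (X.x_mem_of P' Ka S.aa h P'.unc)
  have hinv' : Inv2 J (e' * e') := by rw [he2]; exact ⟨by rw [X.x_sq]; exact one_mem _, hx'J⟩
  have hinvc : Inv2 J c' := ⟨by rw [X.c_sq]; exact one_mem _, hc'J⟩
  have hcomm : CommMod J e' c' := by
    unfold CommMod
    have h1 : e * a = a * e := S.a_cent e heJ
    have h2 : e' * c' = c' * e' := by
      rw [he'def, hc'def]
      calc g⁻¹ * e * g * (g⁻¹ * a * g⁻¹⁻¹) = g⁻¹ * (e * a) * g := by group
        _ = g⁻¹ * (a * e) * g := by rw [h1]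
        _ = _ := by group
    rw [h2, mul_inv_cancel_right, mul_inv_cancel]
    exact one_mem _
  have h128 : 128 ≤ Nat.card (CV z a J e' ∩ CV z a J c' : Set G) := by
    have hinv'' : Inv2 J x' := he2 ▸ hinv'
    have h1 : Nat.card (PJ J x') ≤ Nat.card (CV z a J e' ∩ CV z a J c' : Set G) :=
      Subgroup.card_le_of_le (K := Hyp.cvs S e' ⊓ Hyp.cvs S c') fun q hq => by
        have hqc : q ∈ cz c' := (X.pj_fix P' hx'J hq).1
        refine ⟨?_, S.pj_le_cvs c' ⟨hq.1, hqc⟩⟩
        have hqg : g * q * g⁻¹ ∈ cza z a := by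
          constructor
          · have := cz_conj hq.2
            rwa [inv_inv] at this
          · have := cz_conj hqc
            rwa [inv_inv] at this
        obtain ⟨w, hw, hcom, hwJ⟩ := X.transported_com he he'z hq.1 hqg
        refine ⟨hq.1, ?_⟩
        rw [hcom]
        rcases hw with rfl | rfl | rfl | rfl
        · left; group
        · exact absurd (by rwa [hx'def, inv_inv]) hx'J
        · exact absurd (by rwa [hc'def, inv_inv]) hc'J
        · exact absurd (by rwa [inv_inv]) hd'J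
    have h2 := X.cv_le_two hx'1 hinv''.1
    rw [N.size x' hx'1 hinv''] at h2
    omega
  have h := N.four_comm e' ⟨he'z, he'a⟩ hinv' c' hc'1 hinvc hcomm h128
  rw [he2, ← hd'eq] at h
  exact hd'J h

/-- No `x` lies over the simple part of `H / J`. -/
theorem no_inner (C : Comp z a J H1) (P : IPair z a g) : g * z * g⁻¹ ∉ H1 := fun h =>
  X.mod.cases.elim (fun N => X.nat_inner C N P h) fun N => X.six_inner C N P h

/-- Outer `x`: two elements moving it along linked conjugates give a product of three transvections. -/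
theorem orbit (C : Comp z a J H1) (N : NatFacts z a J H1) (L : LFacts z a J H1) (P : IPair z a g) :
    Nat.card (PJ J (g * a * g⁻¹)) ≤ 2 * Nat.card (PJ J (g * z * g⁻¹)) := by
  have S := X.hyp
  have hx'H : g⁻¹ * z * g⁻¹⁻¹ ∉ H1 := X.no_inner C (X.symm P)
  set x := g * z * g⁻¹ with hxdef
  set c := g * a * g⁻¹ with hcdef
  set x' := g⁻¹ * z * g⁻¹⁻¹ with hx'def
  refine card_le_two_mul fun u hu hu' v hv hv' => by_contra fun huv => ?_
  have hxz : x * z = z * x := P.comm
  -- the conjugates of `z` obtained from `u`, `v`, `u v`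
  have hY : ∀ j ∈ PJ J c, j ∉ PJ J x → ∃ y, y ∈ H1 ∧ Inv2 J y ∧ y * y = 1 ∧ y * z = z * y ∧
      Nat.card (CV z a J y) = 256 ∧ g * y * g⁻¹ = j * x * j⁻¹ := by
    intro j hj hjx
    have hg' : g⁻¹ * j * g ∈ cz a := cz_conj hj.2
    set y := g⁻¹ * j * g * z * (g⁻¹ * j * g)⁻¹ with hy
    have hgy : g * y * g⁻¹ = j * x * j⁻¹ := by rw [hy, hxdef]; group
    have hne : y ≠ z := by
      intro e
      rw [e] at hgy
      exact hjx ⟨hj.1, mem_cz_conj.2 hgy.symm⟩
    have hcomm : Commute z y := by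
      by_contra hnc
      have h6 := L.braid _ hg' hnc
      rw [← hy] at h6
      have hx2 : x⁻¹ = x := inv_eq_of_mul_eq_one_right X.x_sq
      set p := x * (j * x * j⁻¹) with hp
      have hpJ : p ∈ J := by
        have h1 := mul_mem (S.norm x (x_mem P) j hj.1) (inv_mem hj.1)
        rwa [hx2, show x * j * x * j⁻¹ = x * (j * x * j⁻¹) by group] at h1
      have hpe : p = g * (z * y) * g⁻¹ := by rw [hp, ← hgy, hxdef]; group
      have hp6 : p ^ 6 = 1 := by rw [hpe, conj_pow, h6]; group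
      rcases S.sq p hpJ with f | f
      · apply hnc
        have f' : z * y * (z * y) = 1 := by
          rw [hpe, show g * (z * y) * g⁻¹ * (g * (z * y) * g⁻¹) = g * (z * y * (z * y)) * g⁻¹ by group,
            conj_eq_one_iff] at f
          exact f
        have hy2 : y⁻¹ = y := inv_eq_of_mul_eq_one_right (sq_conj S.zz)
        show z * y = y * z
        calc z * y = (z * y)⁻¹ := (inv_eq_of_mul_eq_one_right f').symm
          _ = y * z := by rw [mul_inv_rev, hy2, S.zinv]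
      · rw [show p ^ 6 = (p * p) ^ 3 by rw [← pow_two, ← pow_mul], f, pow_three, S.zz, mul_one] at hp6
        exact S.z_ne hp6
    obtain ⟨hyH, hyJ, hy256⟩ := L.link _ hg' hne hcomm
    rw [← hy] at hyH hyJ hy256
    have hinv : Inv2 J y := ⟨by rw [sq_conj S.zz]; exact one_mem _, hyJ⟩
    refine ⟨y, hyH, hinv, sq_conj S.zz, hcomm.eq.symm, X.cv_card_eq N hyH hinv ?_, hgy⟩
    have hle : Nat.card ({u | u ∈ J ∧ Commute y u} : Set G) ≤ Nat.card (CV z a J y) :=
      Nat.card_mono (Set.toFinite _) fun w hw => S.pj_le_cvs y ⟨hw.1, mem_cz.2 hw.2.eq.symm⟩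
    omega
  obtain ⟨y₁, h1H, h1i, h1s, h1z, h1c, h1e⟩ := hY u hu hu'
  obtain ⟨y₂, h2H, h2i, h2s, h2z, h2c, h2e⟩ := hY v hv hv'
  obtain ⟨y₃, h3H, h3i, h3s, h3z, h3c, h3e⟩ := hY (u * v) (mul_mem hu hv) huv
  set p := v * x * v⁻¹ * x⁻¹ with hp
  have hpJ : p ∈ J := by
    rw [hp, show v * x * v⁻¹ * x⁻¹ = v * (x * v⁻¹ * x⁻¹) by group]
    exact mul_mem hv.1 (S.norm x (x_mem P) _ (inv_mem hv.1))
  obtain ⟨ε, hε, hpu⟩ : ∃ ε, (ε = 1 ∨ ε = z) ∧ u * p * u⁻¹ = p * ε := by
    rcases S.comm u hu.1 p hpJ with e | e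
    · exact ⟨1, Or.inl rfl, by rw [mul_one]; exact e⟩
    · exact ⟨z, Or.inr rfl, e⟩
  have hxi : x⁻¹ = x := inv_eq_of_mul_eq_one_right X.x_sq
  have h3 : g * y₃ * g⁻¹ = g * y₂ * g⁻¹ * (g * z * g⁻¹) * ε * (g * y₁ * g⁻¹) := by
    rw [h3e, h2e, h1e, ← hxdef]
    calc u * v * x * (u * v)⁻¹ = u * p * u⁻¹ * (u * x * u⁻¹) := by rw [hp]; group
      _ = v * x * v⁻¹ * x⁻¹ * ε * (u * x * u⁻¹) := by rw [hpu, hp]
      _ = _ := by rw [hxi]
  have h3' : y₃ = y₂ * z * (g⁻¹ * ε * g⁻¹⁻¹) * y₁ := by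
    calc y₃ = g⁻¹ * (g * y₃ * g⁻¹) * g := by group
      _ = _ := by rw [h3]; group
  have hz1 : z ∈ H1 := X.j_le_h1 S.z_mem
  rcases hε with hε | hε <;> rw [hε] at h3'
  · rw [show g⁻¹ * 1 * g⁻¹⁻¹ = (1 : G) by group, mul_one] at h3'
    have h21 : y₂ * y₁ = y₃ * z := by
      calc y₂ * y₁ = y₂ * (z * z) * y₁ := by rw [S.zz, mul_one]
        _ = y₂ * z * (z * y₁) := by simp [mul_assoc]
        _ = y₂ * z * y₁ * z := by rw [← h1z]; simp [mul_assoc]
        _ = _ := by rw [h3']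
    have hsq : y₂ * y₁ * (y₂ * y₁) = 1 := by
      rw [h21]
      calc y₃ * z * (y₃ * z) = y₃ * (z * y₃) * z := by simp [mul_assoc]
        _ = y₃ * (y₃ * z) * z := by rw [h3z]
        _ = y₃ * y₃ * (z * z) := by simp [mul_assoc]
        _ = 1 := by rw [h3s, S.zz, one_mul]
    have hcm : CommMod J y₂ y₁ := by
      unfold CommMod
      rw [inv_eq_of_mul_eq_one_right h1s, inv_eq_of_mul_eq_one_right h2s,
        show y₂ * y₁ * y₂ * y₁ = y₂ * y₁ * (y₂ * y₁) by group, hsq]
      exact one_mem _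
    refine N.t_prod y₂ h2H y₁ h1H y₃ h3H h2i h1i h3i h2c h1c h3c hcm ?_
    rw [h21, mul_assoc, ← h3z, ← mul_assoc, h3s, one_mul]
    exact S.z_mem
  · refine hx'H ?_
    have e : x' = (y₂ * z)⁻¹ * y₃ * y₁⁻¹ := by rw [h3', hx'def]; group
    rw [e]
    exact mul_mem (mul_mem (inv_mem (mul_mem h2H hz1)) h3H) (inv_mem h1H)

/-- An unlinked commuting pair does not exist. -/
theorem no_ipair (C : Comp z a J H1) (P : IPair z a g) : False := by
  have S := X.hyp
  have hxJ := X.not_mem_J C P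
  have hdJ := X.d_not_mem C P hxJ
  have hx1 := X.no_inner C P
  have hx'1 := X.no_inner C (X.symm P)
  set x := g * z * g⁻¹ with hxdef
  set c := g * a * g⁻¹ with hcdef
  set d := g * (z * a) * g⁻¹ with hddef
  have hdxc : d = x * c := d_eq X
  -- the centraliser of `x` in `J` is elementary
  have hel : ∀ j ∈ PJ J x, j * j = 1 := by
    intro j hj
    rcases S.sq j hj.1 with e | e
    · exact e
    · refine absurd ?_ hx'1
      rw [show g⁻¹ * z * g⁻¹⁻¹ = g⁻¹ * j * g * (g⁻¹ * j * g) by rw [← e]; group]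
      exact X.sq_mem_h1 (cz_conj hj.2)
  have h64 : Nat.card (PJ J x) ≤ 64 := S.elem_le inf_le_left hel
  have hcd : c ∈ H1 ∨ d ∈ H1 := by
    by_contra h
    push Not at h
    have h2 := X.mod.inner.prod d (X.d_cza P).1 c (X.c_cza P).1 h.2 h.1
    rw [hdxc, mul_assoc, X.c_sq, mul_one] at h2
    exact hx1 h2
  have hinter : ∀ e : G, PJ J x ≤ cz e →
      Nat.card (PJ J x) ≤ Nat.card (CV z a J x ∩ CV z a J e : Set G) := fun e he =>
    Subgroup.card_le_of_le (K := Hyp.cvs S x ⊓ Hyp.cvs S e) fun j hj =>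
      ⟨S.pj_le_cvs x hj, S.pj_le_cvs e ⟨hj.1, he hj⟩⟩
  have hxx : x * x ∈ J := by rw [X.x_sq]; exact one_mem _
  have hPc : PJ J x ≤ cz c := fun j hj => (X.pj_fix P hxJ hj).1
  have hPd : PJ J x ≤ cz d := fun j hj => (X.pj_fix P hxJ hj).2
  -- an inner companion outside `J` has too large a centraliser
  have key : ∀ e : G, e ∈ H1 → e * e = 1 → e ∉ J → PJ J x ≤ cz e →
      Nat.card (PJ J e) ≤ 2 * Nat.card (PJ J x) →
      (SixFacts z a J H1 → PJ J e ≤ PJ J x) → False := by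
    intro e he he2 heJ hPe hle hle6
    have hinv : Inv2 J e := ⟨by rw [he2]; exact one_mem _, heJ⟩
    have h2 := X.cv_le_two he hinv.1
    rcases X.mod.cases with N | N
    · have hout := N.outer x (X.x_cza P) hx1 hxx e he hinv
      have h1 := hinter e hPe
      rcases N.size e he hinv with h | h <;> rw [h] at h2 hout
      · nlinarith
      · have hall := X.r_fix_all N he he2 heJ h
        have : 64 ≤ Nat.card (PJ J e) := by
          rw [← h]
          show Nat.card (Hyp.cvs S e) ≤ _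
          exact Subgroup.card_le_of_le fun j hj => ⟨hj.1, mem_cz.2 (hall j hj).symm⟩
        nlinarith
    · have hle' := hle6 N
      rw [N.size e he hinv] at h2
      have h3 := Subgroup.card_le_of_le hle'
      have h4 : (64 : ℕ) < 128 := by norm_num
      omega
  rcases hcd with hc1 | hd1
  · by_cases hcJ : c ∈ J
    · rcases C.kla with K | L
      · exact hxJ (X.x_mem_of P K S.aa hcJ P.unc)
      · rcases X.mod.cases with N | N
        · have ho : Nat.card (PJ J c) ≤ 2 * Nat.card (PJ J x) := X.orbit C N L P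
          have h512 : Nat.card J ≤ 2 * Nat.card (PJ J c) :=
            card_le_two_mul fun u hu hu' v hv hv' => ⟨mul_mem hu hv, mem_cz.2 (S.anti_mul hu hv hcJ
              (fun h => hu' ⟨hu, mem_cz.2 h⟩) fun h => hv' ⟨hv, mem_cz.2 h⟩)⟩
          rw [S.card] at h512
          omega
        · exact X.six_not_linked N L
    · refine key c hc1 X.c_sq hcJ hPc ?_ fun N => X.pj_le (X.six_kfacts C N) (x_mem P)
      rcases C.kla with K | L
      · have h : Nat.card (PJ J c) ≤ Nat.card (PJ J x) := Subgroup.card_le_of_le (X.pj_le K (x_mem P))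
        omega
      · rcases X.mod.cases with N | N
        · exact X.orbit C N L P
        · exact (X.six_not_linked N L).elim
  · have hle := X.pj_le C.kza (x_mem P) (g := g)
    refine key d hd1 X.d_sq hdJ hPd ?_ fun _ => hle
    have h : Nat.card (PJ J d) ≤ Nat.card (PJ J x) := Subgroup.card_le_of_le hle
    omega

end Ctx

end Cfsg.Agent.Lib.Fi22Recog95
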